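import Groth.Agent.Purity.CodimOne
import Groth.Agent.Hensel.Local
import Groth.Agent.AdicBasics.LocalMap
import Groth.Agent.FieldPow.Local

/-!
# Purity of the branch locus at a point of a finite algebra with normal local ring
-/

set_option autoImplicit false

universe u

open IsLocalRing
open scoped TensorProduct

attribute [local instance] Algebra.TensorProduct.rightAlgebra

namespace Groth.Agent.Purity

theorem flat_right (A T C : Type u) [CommRing A] [CommRing T] [CommRing C] [Algebra A T] [Algebra A C]
    [Module.Flat A T] : Module.Flat C (T ⊗[A] C) :=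
  Module.Flat.of_linearEquiv (AlgEquiv.ofRingEquiv (R := C)
    (f := (Algebra.TensorProduct.comm A T C).toRingEquiv) fun c => by
      simp [RingHom.algebraMap_toAlgebra]).toLinearEquiv

theorem TwoWith.units_smul {R : Type u} [CommRing R] {a b : R} {M : Type u} [AddCommGroup M] [Module R M]
    (h : TwoWith a b M) (u v : Rˣ) : TwoWith ((u : R) * a) ((v : R) * b) M where
  inj m hm := by
    rw [mul_smul] at hm
    exact h.inj m (u.isUnit.smul_eq_zero.1 hm)
  cancel m n hmn := by
    have : b • m = a • (((↑v⁻¹ : R) * u) • n) := by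
      rw [← mul_smul, show a * ((↑v⁻¹ : R) * u) = (↑v⁻¹ : R) * ((u : R) * a) by ring, mul_smul, ← hmn, ← mul_smul,
        ← mul_assoc, Units.inv_mul, one_mul]
    obtain ⟨z, hz⟩ := h.cancel m _ this
    exact ⟨(↑u⁻¹ : R) • z, by rw [← mul_smul, mul_comm (u : R), mul_assoc, Units.mul_inv, mul_one]; exact hz⟩

/-- Support of a base change. -/
theorem mem_support_baseChange {C D : Type u} [CommRing C] [CommRing D] [Algebra C D] (M : Type u) [AddCommGroup M]
    [Module C M] [Module.Finite C M] (N : PrimeSpectrum D)
    (h : PrimeSpectrum.comap (algebraMap C D) N ∈ Module.support C M) : N ∈ Module.support D (D ⊗[C] M) := by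
  set q := PrimeSpectrum.comap (algebraMap C D) N
  haveI : N.asIdeal.LiesOver q.asIdeal := ⟨rfl⟩
  rw [Module.mem_support_iff_nontrivial_residueField_tensorProduct] at h ⊢
  let K := N.asIdeal.ResidueField
  let k := q.asIdeal.ResidueField
  haveI := h
  letI : Algebra k K := (Ideal.ResidueField.map q.asIdeal N.asIdeal (algebraMap C D) rfl).toAlgebra
  haveI : IsScalarTower C k K := .of_algebraMap_eq fun c => by
    rw [RingHom.algebraMap_toAlgebra, Ideal.ResidueField.map_algebraMap, ← IsScalarTower.algebraMap_apply]
  let e1 : K ⊗[D] (D ⊗[C] M) ≃ₗ[K] K ⊗[C] M := TensorProduct.AlgebraTensorModule.cancelBaseChange C D K K M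
  let e2 : K ⊗[k] (k ⊗[C] M) ≃ₗ[K] K ⊗[C] M := TensorProduct.AlgebraTensorModule.cancelBaseChange C k K K M
  exact (e1.trans e2.symm).toEquiv.nontrivial

/-- A regular pair of the base stays regular on a normal local ring above it. -/
theorem two_of_normal_above {A C : Type u} [CommRing A] [IsRegularLocalRing A] [CommRing C] [IsDomain C]
    [Algebra A C] [Module.Finite A C] (hinj : Function.Injective (algebraMap A C)) (p : Ideal A) [p.IsPrime]
    (q : Ideal C) [q.IsPrime] [q.LiesOver p] [IsIntegrallyClosed (Localization.AtPrime q)] (a b : A)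
    (hab : TwoWith (algebraMap A (Localization.AtPrime p) a) (algebraMap A (Localization.AtPrime p) b)
      (Localization.AtPrime p))
    (ha0 : algebraMap A (Localization.AtPrime p) a ≠ 0) : TwoWith a b (Localization.AtPrime q) := by
  haveI := RegLoc.isDomain A
  haveI := UFDLib.ufd_of_isRegularLocalRing A
  haveI : FaithfulSMul A C := (faithfulSMul_iff_algebraMap_injective A C).2 hinj
  haveI : IsNoetherianRing C := IsNoetherianRing.of_finite A C
  haveI : Algebra.IsIntegral A C := Algebra.IsIntegral.of_finite A C
  haveI := SerreReg.isRegularRing_of_isRegularLocalRing A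
  haveI : IsRegularLocalRing (Localization.AtPrime p) := IsRegularRing.isRegularLocalRing_localization (R := A) p
  haveI := RegLoc.isDomain (Localization.AtPrime p)
  haveI := UFDLib.ufd_of_isRegularLocalRing (Localization.AtPrime p)
  set Ap := Localization.AtPrime p
  set Cq := Localization.AtPrime q
  have hpq : ∀ x : A, algebraMap A C x ∈ q → x ∈ p := fun x hx => by
    rw [(Ideal.LiesOver.over : p = q.under A)]; exact hx
  haveI : IsNoetherianRing Cq := IsLocalization.isNoetherianRing q.primeCompl Cq inferInstance
  have hinjq : Function.Injective (algebraMap A Cq) := by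
    rw [IsScalarTower.algebraMap_eq A C Cq]
    exact (IsLocalization.injective Cq q.primeCompl_le_nonZeroDivisors).comp hinj
  have ha00 : algebraMap A Cq a ≠ 0 := fun h => ha0 (by rw [hinjq (h.trans (map_zero _).symm), map_zero])
  refine ⟨fun m hm => ?_, fun m n hmn => ?_⟩
  · rw [Algebra.smul_def] at hm
    exact (mul_eq_zero.1 hm).resolve_left ha00
  rw [Algebra.smul_def, Algebra.smul_def] at hmn
  obtain ⟨z, hz⟩ := InvGen.dvd_of_forall_height_one (c := m) ha00 fun P hP hP1 => by
    haveI := hP
    by_cases hbP : algebraMap A Cq b ∈ P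
    swap
    · exact ⟨_, hbP, n, hmn⟩
    by_cases haP : algebraMap A Cq a ∈ P
    swap
    · exact ⟨_, haP, dvd_mul_right _ _⟩
    exfalso
    set q₁ := P.under C
    have h1 : q₁.height = 1 := (IsLocalization.height_under q.primeCompl P).trans hP1
    set p₁ := q₁.under A
    haveI : q₁.LiesOver p₁ := ⟨rfl⟩
    have h2 := Ideal.height_eq_height_add_of_liesOver_of_hasGoingDown p₁ q₁
    have h3 : p₁.height ≤ 1 := le_self_add.trans (h2.ge.trans h1.le)
    have hq₁ : q₁ ≤ q := fun x hx => by
      by_contra hxq
      exact Ideal.IsPrime.ne_top hP (Ideal.eq_top_of_isUnit_mem P hx (IsLocalization.map_units Cq (⟨x, hxq⟩ : q.primeCompl)))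
    have hdisj : Disjoint (p.primeCompl : Set A) (p₁ : Set A) :=
      Set.disjoint_left.2 fun x hx hx1 => hx (hpq _ (hq₁ hx1))
    haveI := IsLocalization.isPrime_of_isPrime_disjoint p.primeCompl Ap p₁ inferInstance hdisj
    have h4 := two_le_height hab ha0 (p₁.map (algebraMap A Ap))
      (Ideal.mem_map_of_mem _ (show algebraMap C Cq (algebraMap A C a) ∈ P by
        rw [← IsScalarTower.algebraMap_apply]; exact haP))
      (Ideal.mem_map_of_mem _ (show algebraMap C Cq (algebraMap A C b) ∈ P by
        rw [← IsScalarTower.algebraMap_apply]; exact hbP))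
    rw [IsLocalization.height_map_of_disjoint p.primeCompl _ hdisj] at h4
    exact absurd (h4.trans h3) (by norm_num)
  exact ⟨z, by rw [Algebra.smul_def]; exact hz⟩

/-- A prime of `T ⊗ C` over `q`, for `T` faithfully flat over the localisation below `q`. -/
theorem exists_point {A C T : Type u} [CommRing A] [CommRing C] [CommRing T] [Algebra A C] [Algebra A T]
    (p : Ideal A) [p.IsPrime] (q : Ideal C) [q.IsPrime] [q.LiesOver p]
    [Algebra (Localization.AtPrime p) T] [IsScalarTower A (Localization.AtPrime p) T]
    [Module.FaithfullyFlat (Localization.AtPrime p) T] :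
    ∃ N : Ideal (T ⊗[A] C), N.IsPrime ∧ ∀ c : C, algebraMap C (T ⊗[A] C) c ∈ N ↔ c ∈ q := by
  letI : Algebra (Localization.AtPrime p) (Localization.AtPrime q) := Localization.AtPrime.algebraOfLiesOver p q
  obtain ⟨P, hP⟩ := PrimeSpectrum.comap_surjective_of_faithfullyFlat (A := Localization.AtPrime q)
    (B := Localization.AtPrime q ⊗[Localization.AtPrime p] T) (IsLocalRing.closedPoint (Localization.AtPrime q))
  let β : C →ₐ[A] Localization.AtPrime q ⊗[Localization.AtPrime p] T :=
    ((Algebra.TensorProduct.includeLeft : Localization.AtPrime q →ₐ[Localization.AtPrime p] _).restrictScalars A).comp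
      (IsScalarTower.toAlgHom A C (Localization.AtPrime q))
  let α : T →ₐ[A] Localization.AtPrime q ⊗[Localization.AtPrime p] T :=
    (Algebra.TensorProduct.includeRight : T →ₐ[Localization.AtPrime p] _).restrictScalars A
  let ψ := Algebra.TensorProduct.lift α β fun x y => mul_comm (α x) (β y)
  refine ⟨P.asIdeal.comap ψ, inferInstance, fun c => ?_⟩
  have h1 : ψ ((1 : T) ⊗ₜ[A] c) = algebraMap C (Localization.AtPrime q) c ⊗ₜ[Localization.AtPrime p] (1 : T) := by
    simp [ψ, α, β]
  have hP' : P.asIdeal.comap (algebraMap (Localization.AtPrime q) (Localization.AtPrime q ⊗[Localization.AtPrime p] T))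
      = maximalIdeal (Localization.AtPrime q) := congrArg PrimeSpectrum.asIdeal hP
  show ψ ((1 : T) ⊗ₜ[A] c) ∈ P.asIdeal ↔ _
  rw [h1, ← IsLocalization.AtPrime.to_map_mem_maximal_iff (Localization.AtPrime q) q, ← hP']
  exact Iff.rfl

/-- The local factor at a maximal ideal. -/
theorem exists_factor {T R : Type u} [CommRing T] [HenselianLocalRing T] [CommRing R] [Algebra T R]
    [Module.Finite T R] (N : Ideal R) [N.IsMaximal] :
    ∃ g : R, ∃ _ : IsLocalRing (R ⧸ Ideal.span {1 - g}), IsLocalization.Away g (R ⧸ Ideal.span {1 - g}) ∧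
      (maximalIdeal (R ⧸ Ideal.span {1 - g})).comap (Ideal.Quotient.mk _) = N := by
  obtain ⟨ι, _, e, he, hloc⟩ := Hensel.exists_pi_local T R
  obtain ⟨i, hi⟩ : ∃ i, e i ∉ N := by
    by_contra! hall
    exact Ideal.IsPrime.ne_top inferInstance ((Ideal.eq_top_iff_one N).2 (he.complete ▸ sum_mem fun i _ => hall i))
  refine ⟨e i, hloc i, IsLocalization.Away.quotient_of_isIdempotentElem (he.idem i), ?_⟩
  haveI := hloc i
  have heN : Ideal.span {1 - e i} ≤ N := (Ideal.span_singleton_le_iff_mem N).2
    (((Ideal.IsPrime.mem_or_mem inferInstance (show e i * (1 - e i) ∈ N by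
      rw [mul_sub, mul_one, (he.idem i).eq, sub_self]; exact N.zero_mem)).resolve_left hi))
  have hmax : (N.map (Ideal.Quotient.mk (Ideal.span {1 - e i}))).IsMaximal := by
    refine (Ideal.map_eq_top_or_isMaximal_of_surjective _ Ideal.Quotient.mk_surjective inferInstance).resolve_left
      fun htop => Ideal.IsPrime.ne_top (I := N) inferInstance ?_
    rw [← sup_eq_left.2 heN, ← Ideal.mk_ker (I := Ideal.span {1 - e i}), RingHom.ker_eq_comap_bot,
      ← Ideal.comap_map_of_surjective _ Ideal.Quotient.mk_surjective, htop, Ideal.comap_top]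
  rw [← IsLocalRing.eq_maximalIdeal hmax, Ideal.comap_map_of_surjective _ Ideal.Quotient.mk_surjective,
    ← RingHom.ker_eq_comap_bot, Ideal.mk_ker, sup_eq_left.2 heN]

/-- Transfer along the local flat map from the local ring at `q`. -/
theorem transfer_at {A C D : Type u} [CommRing A] [CommRing C] [CommRing D] [Algebra A C] [Algebra A D]
    [Algebra C D] [IsScalarTower A C D] [Module.Flat C D] [IsLocalRing D] (q : Ideal C) [q.IsPrime]
    (h : ∀ c, algebraMap C D c ∈ maximalIdeal D ↔ c ∈ q) :
    (∀ a b : A, TwoWith a b (Localization.AtPrime q) → TwoWith a b D) ∧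
      (Module.Flat A D → Module.Flat A (Localization.AtPrime q)) := by
  have hunit : ∀ c : q.primeCompl, IsUnit (algebraMap C D c) := fun c =>
    IsLocalRing.notMem_maximalIdeal.1 fun hc => c.2 ((h c).1 hc)
  let φ : Localization.AtPrime q →+* D := IsLocalization.lift hunit
  letI : Algebra (Localization.AtPrime q) D := φ.toAlgebra
  haveI : IsScalarTower C (Localization.AtPrime q) D :=
    .of_algebraMap_eq fun c => (IsLocalization.lift_eq hunit c).symm
  haveI : IsScalarTower A (Localization.AtPrime q) D := .of_algebraMap_eq fun r => by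
    rw [IsScalarTower.algebraMap_apply A C (Localization.AtPrime q), ← IsScalarTower.algebraMap_apply C _ D,
      ← IsScalarTower.algebraMap_apply A C D]
  haveI : Module.Flat (Localization.AtPrime q) D :=
    (Module.flat_iff_of_isLocalization (Localization.AtPrime q) q.primeCompl D).2 inferInstance
  haveI : IsLocalHom (algebraMap (Localization.AtPrime q) D) := ⟨fun z hz => by
    by_contra hzu
    obtain ⟨⟨c, s⟩, hc⟩ := IsLocalization.surj q.primeCompl z
    have hcq : c ∈ q := (IsLocalization.AtPrime.to_map_mem_maximal_iff (Localization.AtPrime q) q c).1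
      (hc ▸ Ideal.mul_mem_right _ _ ((IsLocalRing.mem_maximalIdeal z).2 hzu))
    refine (IsLocalRing.mem_maximalIdeal _).1 ((h c).2 hcq) ?_
    have hc' := congrArg (algebraMap (Localization.AtPrime q) D) hc
    rw [map_mul, ← IsScalarTower.algebraMap_apply C (Localization.AtPrime q) D,
      ← IsScalarTower.algebraMap_apply C (Localization.AtPrime q) D] at hc'
    rw [← hc']
    exact hz.mul (hunit s)⟩
  haveI : Module.FaithfullyFlat (Localization.AtPrime q) D := Module.FaithfullyFlat.of_flat_of_isLocalHom
  refine ⟨fun a b hab => two_algebraMap_iff.1 (two_of_flat (two_algebraMap_iff.2 hab) D), fun hA => ?_⟩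
  exact AdicBasics.flat_of_faithfullyFlat_extension (R := A) (S := Localization.AtPrime q) (T := D)

/-- The punctured spectrum of the local factor. -/
theorem etale_factor {A C T D : Type u} [CommRing A] [IsNoetherianRing A] [CommRing C] [CommRing T] [CommRing D]
    [Algebra A C] [Module.Finite A C] [Algebra A T] [IsRegularLocalRing T]
    [Algebra (T ⊗[A] C) D] [Algebra T D] [IsScalarTower T (T ⊗[A] C) D] [Module.Finite T D] [IsLocalRing D]
    (g₀ : T ⊗[A] C) [IsLocalization.Away g₀ D] (d : ℕ) (hd : ringKrullDim T = (d + 2 : ℕ))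
    (p : Ideal A) (hmT : maximalIdeal T = p.map (algebraMap A T)) (a b : A) (hap : a ∈ p) (hbp : b ∈ p)
    (hTab : TwoWith (algebraMap A T a) (algebraMap A T b) T)
    (hD : TwoWith (algebraMap A T a) (algebraMap A T b) D)
    (N : Ideal (T ⊗[A] C)) [N.IsPrime] (hmD : (maximalIdeal D).comap (algebraMap (T ⊗[A] C) D) = N)
    (q : Ideal C) (hNC : ∀ c, algebraMap C (T ⊗[A] C) c ∈ N ↔ c ∈ q) (hpq : ∀ f ∈ p, algebraMap A C f ∈ q)
    (ih : ∀ q' : Ideal C, (hq' : q'.IsPrime) → q' < q → Algebra.IsEtaleAt A q') :
    Algebra.IsEtaleAt T N ∧ Module.Flat T D := by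
  have hcompare : ∀ Q : Ideal D, [Q.IsPrime] →
      (Algebra.IsEtaleAt T (Q.comap (algebraMap (T ⊗[A] C) D)) ↔ Algebra.IsEtaleAt T Q) := by
    intro Q _
    haveI : IsLocalization.AtPrime (Localization.AtPrime Q) (Q.comap (algebraMap (T ⊗[A] C) D)) :=
      IsLocalization.isLocalization_isLocalization_atPrime_isLocalization (Submonoid.powers g₀)
        (Localization.AtPrime Q) Q
    exact Algebra.FormallyEtale.iff_of_equiv ((IsLocalization.algEquiv (Q.comap (algebraMap (T ⊗[A] C) D)).primeCompl
      (Localization.AtPrime (Q.comap (algebraMap (T ⊗[A] C) D))) (Localization.AtPrime Q)).restrictScalars T)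
  haveI : Algebra.FinitePresentation A C := Algebra.FinitePresentation.of_finiteType.1 inferInstance
  haveI : Algebra.FinitePresentation T D := Algebra.FinitePresentation.of_finiteType.1 inferInstance
  haveI hDet : Algebra.Etale T D := by
    refine etale_of_onPunct d T hd _ _
      (hmT ▸ Ideal.mem_map_of_mem _ hap) (hmT ▸ Ideal.mem_map_of_mem _ hbp) hTab D hD ?_
    refine onPunct_of_gens (algebraMap A T '' p) (hmT.le.trans Ideal.le_radical) ?_
    rintro _ ⟨f, hf, rfl⟩
    rw [← Algebra.basicOpen_subset_etaleLocus_iff_etale]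
    intro Q hQ
    refine (hcompare Q.asIdeal).1 ?_
    set Q' := Q.asIdeal.comap (algebraMap (T ⊗[A] C) D)
    set q' := Q'.comap (algebraMap C (T ⊗[A] C))
    have hle : Q' ≤ N := hmD ▸ Ideal.comap_mono (IsLocalRing.le_maximalIdeal (Ideal.IsPrime.ne_top inferInstance))
    have hlt : q' < q := by
      refine lt_of_le_of_ne (fun c hc => (hNC c).1 (hle hc)) fun he' => hQ ?_
      have : algebraMap A C f ∈ q' := he' ▸ hpq f hf
      show algebraMap T D (algebraMap A T f) ∈ Q.asIdeal
      rw [IsScalarTower.algebraMap_apply T (T ⊗[A] C) D, ← IsScalarTower.algebraMap_apply A T (T ⊗[A] C),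
        IsScalarTower.algebraMap_apply A C (T ⊗[A] C)]
      exact this
    haveI := ih q' inferInstance hlt
    obtain ⟨g, hg, hge⟩ := Algebra.exists_etale_of_isEtaleAt (R := A) q'
    haveI := hge
    haveI : Algebra.Etale T (Localization.Away ((1 : T) ⊗ₜ[A] g)) :=
      Algebra.Etale.of_equiv (IsLocalization.Away.tensorProductEquivTMulRight A T g (Localization.Away g))
    exact Algebra.basicOpen_subset_etaleLocus_iff_etale.2 ‹_›
      (show (1 : T) ⊗ₜ[A] g ∉ (⟨Q', inferInstance⟩ : PrimeSpectrum (T ⊗[A] C)).asIdeal from hg)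
  refine ⟨?_, inferInstance⟩
  have h := (hcompare (maximalIdeal D)).2
    (Set.eq_univ_iff_forall.1 (Algebra.etaleLocus_eq_univ_iff_etale.2 hDet) (IsLocalRing.closedPoint D))
  revert h
  simp only [hmD]
  exact id

/-- Unramifiedness descends along `C → T ⊗ C`. -/
theorem unramifiedAt_of_baseChange {A C T : Type u} [CommRing A] [CommRing C] [CommRing T] [Algebra A C]
    [Module.Finite A C] [Algebra A T] (q : Ideal C) [q.IsPrime] (N : Ideal (T ⊗[A] C)) [N.IsPrime]
    (hNC : ∀ c, algebraMap C (T ⊗[A] C) c ∈ N ↔ c ∈ q) (hN : Algebra.IsEtaleAt T N) :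
    Algebra.IsUnramifiedAt A q := by
  have hN' : (⟨N, inferInstance⟩ : PrimeSpectrum (T ⊗[A] C)) ∈ Algebra.unramifiedLocus T (T ⊗[A] C) := by
    haveI := hN
    show Algebra.FormallyUnramified T (Localization.AtPrime N)
    infer_instance
  rw [Algebra.unramifiedLocus_eq_compl_support] at hN'
  have key : (⟨q, inferInstance⟩ : PrimeSpectrum C) ∉ Module.support C (Ω[C⁄A]) := fun hmem => hN' (by
    rw [← (KaehlerDifferential.tensorKaehlerEquiv A T C (T ⊗[A] C)).support_eq]
    refine mem_support_baseChange _ _ ?_
    convert hmem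
    ext c
    exact hNC c)
  show (⟨q, inferInstance⟩ : PrimeSpectrum C) ∈ Algebra.unramifiedLocus A C
  rw [Algebra.unramifiedLocus_eq_compl_support]
  exact key

/-- The completion step. -/
theorem isEtaleAt_step {A : Type u} [CommRing A] [IsRegularLocalRing A] {C : Type u} [CommRing C] [IsDomain C]
    [Algebra A C] [Module.Finite A C] (hinj : Function.Injective (algebraMap A C)) (q : Ideal C) [q.IsPrime]
    [IsIntegrallyClosed (Localization.AtPrime q)] (hq : 2 ≤ (q.comap (algebraMap A C)).height)
    (ih : ∀ q' : Ideal C, (hq' : q'.IsPrime) → q' < q → Algebra.IsEtaleAt A q') : Algebra.IsEtaleAt A q := by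
  classical
  haveI := RegLoc.isDomain A
  haveI := UFDLib.ufd_of_isRegularLocalRing A
  haveI : FaithfulSMul A C := (faithfulSMul_iff_algebraMap_injective A C).2 hinj
  haveI : IsNoetherianRing C := IsNoetherianRing.of_finite A C
  haveI : Algebra.IsIntegral A C := Algebra.IsIntegral.of_finite A C
  set p := q.comap (algebraMap A C) with hp
  haveI : q.LiesOver p := ⟨rfl⟩
  set Ap := Localization.AtPrime p
  set Cq := Localization.AtPrime q
  haveI := SerreReg.isRegularRing_of_isRegularLocalRing A
  haveI : IsRegularLocalRing Ap := IsRegularRing.isRegularLocalRing_localization (R := A) p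
  haveI := RegLoc.isDomain Ap
  haveI := UFDLib.ufd_of_isRegularLocalRing Ap
  letI : Algebra Ap Cq := Localization.AtPrime.algebraOfLiesOver p q
  set T := AdicCompletion (maximalIdeal Ap) Ap
  haveI : IsRegularLocalRing T := (AdicBasics.isRegularLocalRing_completion_iff Ap).1 inferInstance
  haveI : HenselianLocalRing T := (Hensel.henselianLocalRing_iff T).2 inferInstance
  haveI : Module.Flat A Ap := IsLocalization.flat Ap p.primeCompl
  haveI : Module.Flat A T := Module.Flat.trans A Ap T
  haveI : IsLocalHom (algebraMap Ap T) :=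
    ((IsLocalRing.local_hom_TFAE _).out 0 2).2 AdicCompletion.maximalIdeal_eq_map.ge
  haveI : Module.FaithfullyFlat Ap T := Module.FaithfullyFlat.of_flat_of_isLocalHom
  have hmT : maximalIdeal T = p.map (algebraMap A T) := by
    rw [AdicCompletion.maximalIdeal_eq_map]
    refine (congrArg (Ideal.map (algebraMap Ap T)) Localization.AtPrime.map_eq_maximalIdeal.symm).trans ?_
    rw [Ideal.map_map, ← IsScalarTower.algebraMap_eq]
  -- a regular pair
  obtain ⟨h0, a', b', hd, ha', hb', hab', ha0', hb0'⟩ := exists_pair Ap (by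
    rw [IsLocalization.AtPrime.ringKrullDim_eq_height p Ap]
    exact WithBot.coe_le_coe.2 hq)
  obtain ⟨⟨a, sa⟩, hsa⟩ := IsLocalization.surj p.primeCompl a'
  obtain ⟨⟨b, sb⟩, hsb⟩ := IsLocalization.surj p.primeCompl b'
  simp only at hsa hsb
  have hab : TwoWith (algebraMap A Ap a) (algebraMap A Ap b) Ap := by
    have h := hab'.units_smul (IsLocalization.map_units Ap sa).unit (IsLocalization.map_units Ap sb).unit
    simp only [IsUnit.unit_spec] at h
    rwa [mul_comm _ a', mul_comm _ b', hsa, hsb] at h
  have ha0 : algebraMap A Ap a ≠ 0 := by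
    rw [← hsa]; exact mul_ne_zero ha0' (IsLocalization.map_units Ap sa).ne_zero
  have hap : a ∈ p := (IsLocalization.AtPrime.to_map_mem_maximal_iff Ap p a).1
    (hsa ▸ Ideal.mul_mem_right _ _ ha')
  have hbp : b ∈ p := (IsLocalization.AtPrime.to_map_mem_maximal_iff Ap p b).1
    (hsb ▸ Ideal.mul_mem_right _ _ hb')
  have hCq : TwoWith a b Cq := two_of_normal_above hinj p q a b hab ha0
  -- the point over `q`
  set TC := T ⊗[A] C
  obtain ⟨N, hNp, hNC⟩ := exists_point (T := T) p q
  have hNT : N.comap (algebraMap T TC) = maximalIdeal T := by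
    refine ((maximalIdeal.isMaximal T).eq_of_le (Ideal.IsPrime.ne_top inferInstance) ?_).symm
    rw [hmT, Ideal.map_le_iff_le_comap]
    intro x hx
    show algebraMap T TC (algebraMap A T x) ∈ N
    rw [← IsScalarTower.algebraMap_apply, IsScalarTower.algebraMap_apply A C TC]
    exact (hNC _).2 hx
  haveI : N.IsMaximal := Ideal.isMaximal_of_isIntegral_of_isMaximal_comap (R := T) N (hNT ▸ maximalIdeal.isMaximal T)
  obtain ⟨g₀, hloc, hAway, hmD'⟩ := exists_factor (T := T) N
  set D := TC ⧸ Ideal.span {1 - g₀}
  have hmD : (maximalIdeal D).comap (algebraMap TC D) = N := hmD'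
  have hDC : ∀ c : C, algebraMap C D c ∈ maximalIdeal D ↔ c ∈ q := fun c => by
    rw [IsScalarTower.algebraMap_apply C TC D, ← Ideal.mem_comap, hmD, hNC]
  haveI : Module.Flat C TC := flat_right A T C
  haveI : Module.Flat TC D := IsLocalization.flat D (Submonoid.powers g₀)
  haveI : Module.Flat C D := Module.Flat.trans C TC D
  obtain ⟨htwo, hflat⟩ := transfer_at (A := A) (D := D) q hDC
  have hTab : TwoWith (algebraMap A T a) (algebraMap A T b) T := by
    rw [IsScalarTower.algebraMap_apply A Ap T, IsScalarTower.algebraMap_apply A Ap T]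
    exact two_algebraMap_iff.2 (two_of_flat hab T)
  obtain ⟨hN, hflatTD⟩ := etale_factor (A := A) (D := D) g₀ h0 (by rw [AdicBasics.ringKrullDim_completion]; exact hd) p hmT a b
    hap hbp hTab (two_algebraMap_iff.2 (htwo a b hCq)) N hmD q hNC
    (fun f hf => by rw [(Ideal.LiesOver.over : p = q.under A)] at hf; exact hf) ih
  haveI := unramifiedAt_of_baseChange q N hNC hN
  haveI : Module.Flat A D := Module.Flat.trans A T D
  haveI : Module.Flat A Cq := hflat inferInstance
  haveI : Module.Flat Ap Cq := (Module.flat_iff_of_isLocalization Ap p.primeCompl Cq).2 inferInstance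
  haveI : Algebra.EssFiniteType Ap Cq := Algebra.EssFiniteType.of_comp A Ap Cq
  haveI : Algebra.FormallyUnramified Ap Cq := Algebra.FormallyUnramified.of_restrictScalars A Ap Cq
  haveI : IsLocalHom (algebraMap Ap Cq) := by
    rw [RingHom.algebraMap_toAlgebra]
    exact Localization.isLocalHom_localRingHom p q (algebraMap A C) Ideal.LiesOver.over
  haveI : Algebra.FinitePresentation A C := Algebra.FinitePresentation.of_finiteType.1 inferInstance
  exact FieldPow.isEtaleAt_of_flat_unramified (R' := Ap) (S' := Cq) p q

end Groth.Agent.Purity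

namespace Groth.Agent.Purity

theorem height_le_comap {B R : Type u} [CommRing B] [CommRing R] [Algebra B R] [Algebra.IsIntegral B R]
    (Q : Ideal R) [Q.IsPrime] : Q.height ≤ (Q.comap (algebraMap B R)).height := by
  show (⟨Q, inferInstance⟩ : PrimeSpectrum R).asIdeal.height ≤
    (⟨Q.comap (algebraMap B R), inferInstance⟩ : PrimeSpectrum B).asIdeal.height
  rw [PrimeSpectrum.height_eq_orderHeight, PrimeSpectrum.height_eq_orderHeight]
  have hmono : StrictMono (PrimeSpectrum.comap (algebraMap B R)) := fun a b hab =>
    Ideal.IsIntegral.comap_lt_comap (R := B) hab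
  exact Order.height_le_height_apply_of_strictMono _ hmono (⟨Q, ‹_›⟩ : PrimeSpectrum R)

theorem isPrincipalIdealRing_of_regular_dim_le_one (R : Type u) [CommRing R] [IsRegularLocalRing R] [IsDomain R]
    (h : ringKrullDim R ≤ 1) : IsPrincipalIdealRing R := by
  have hd1 : Module.finrank (ResidueField R) (CotangentSpace R) ≤ 1 := by
    have h1 := (IsRegularLocalRing.iff_finrank_cotangentSpace R).mp inferInstance
    rw [← h1] at h
    exact_mod_cast h
  exact ((tfae_of_isNoetherianRing_of_isLocalRing_of_isDomain R).out 5 0).mp hd1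

/-- The local ring below a normal local ring is normal at every smaller prime. -/
theorem isIntegrallyClosed_of_le {C : Type u} [CommRing C] [IsDomain C] (q n : Ideal C) [q.IsPrime] [n.IsPrime]
    (h : q ≤ n) [IsIntegrallyClosed (Localization.AtPrime n)] : IsIntegrallyClosed (Localization.AtPrime q) := by
  haveI : IsDomain (Localization.AtPrime n) :=
    IsLocalization.isDomain_localization n.primeCompl_le_nonZeroDivisors
  haveI : IsDomain (Localization.AtPrime q) :=
    IsLocalization.isDomain_localization q.primeCompl_le_nonZeroDivisors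
  have hle : n.primeCompl ≤ q.primeCompl := fun x hx hxq => hx (h hxq)
  letI := IsLocalization.localizationAlgebraOfSubmonoidLe (Localization.AtPrime n) (Localization.AtPrime q)
    n.primeCompl q.primeCompl hle
  haveI : IsScalarTower C (Localization.AtPrime n) (Localization.AtPrime q) :=
    IsLocalization.localization_isScalarTower_of_submonoid_le _ _ n.primeCompl q.primeCompl hle
  haveI : IsLocalization (q.primeCompl.map (algebraMap C (Localization.AtPrime n))) (Localization.AtPrime q) :=
    IsLocalization.isLocalization_of_submonoid_le _ _ n.primeCompl q.primeCompl hle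
  exact isIntegrallyClosed_of_isLocalization (R := Localization.AtPrime n) _
    (q.primeCompl.map (algebraMap C (Localization.AtPrime n))) (by
      rintro _ ⟨c, hc, rfl⟩
      exact mem_nonZeroDivisors_of_ne_zero fun hc0 => hc (by
        rw [(IsLocalization.to_map_eq_zero_iff (Localization.AtPrime n) n.primeCompl_le_nonZeroDivisors).1 hc0]
        exact q.zero_mem))

/-- A finite injective extension, unramified in height one, is etale where it is normal. -/
theorem isEtaleAt_of_normal {A : Type u} [CommRing A] [IsRegularLocalRing A] {C : Type u} [CommRing C] [IsDomain C]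
    [Algebra A C] [Module.Finite A C] (hinj : Function.Injective (algebraMap A C)) (n : Ideal C) [n.IsPrime]
    [IsIntegrallyClosed (Localization.AtPrime n)] (h0 : n ≠ ⊥)
    (hunr : ∀ q : Ideal C, (hq : q.IsPrime) → q ≤ n → q.height = 1 →
      Algebra.FormallyUnramified A (Localization.AtPrime q)) : Algebra.IsEtaleAt A n := by
  haveI := RegLoc.isDomain A
  haveI := UFDLib.ufd_of_isRegularLocalRing A
  haveI := SerreReg.isRegularRing_of_isRegularLocalRing A
  haveI : FaithfulSMul A C := (faithfulSMul_iff_algebraMap_injective A C).2 hinj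
  haveI : IsNoetherianRing C := IsNoetherianRing.of_finite A C
  haveI : Algebra.IsIntegral A C := Algebra.IsIntegral.of_finite A C
  haveI : Algebra.FinitePresentation A C := Algebra.FinitePresentation.of_finiteType.1 inferInstance
  haveI : Module.IsTorsionFree A C := inferInstance
  have hone : ∀ q : Ideal C, (hq : q.IsPrime) → q ≤ n → q.height = 1 → Algebra.IsEtaleAt A q := by
    intro q _ hqn h1
    haveI := hunr q inferInstance hqn h1
    set p := q.under A
    haveI : q.LiesOver p := ⟨rfl⟩
    have hp : p.height ≤ 1 := by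
      rw [← h1, Ideal.height_eq_height_add_of_liesOver_of_hasGoingDown p q]
      exact le_self_add
    set Ap := Localization.AtPrime p
    set Cq := Localization.AtPrime q
    letI : Algebra Ap Cq := Localization.AtPrime.algebraOfLiesOver p q
    haveI : IsRegularLocalRing Ap := IsRegularRing.isRegularLocalRing_localization (R := A) p
    haveI := RegLoc.isDomain Ap
    haveI : IsDomain Cq := IsLocalization.isDomain_localization q.primeCompl_le_nonZeroDivisors
    haveI : IsPrincipalIdealRing Ap := by
      have hdim : ringKrullDim Ap ≤ 1 := by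
        rw [IsLocalization.AtPrime.ringKrullDim_eq_height p Ap]
        exact WithBot.coe_le_coe.2 hp
      exact isPrincipalIdealRing_of_regular_dim_le_one Ap hdim
    haveI : IsLocalHom (algebraMap Ap Cq) := by
      rw [RingHom.algebraMap_toAlgebra]
      exact Localization.isLocalHom_localRingHom p q (algebraMap A C) Ideal.LiesOver.over
    have hinjq : Function.Injective (algebraMap Ap Cq) := by
      refine (injective_iff_map_eq_zero _).2 fun z hz => ?_
      obtain ⟨⟨a, s⟩, hs⟩ := IsLocalization.surj p.primeCompl z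
      have h := congrArg (algebraMap Ap Cq) hs
      rw [map_mul, hz, zero_mul, ← IsScalarTower.algebraMap_apply, IsScalarTower.algebraMap_apply A C Cq] at h
      have ha : a = 0 := hinj ((IsLocalization.injective Cq q.primeCompl_le_nonZeroDivisors
        (h.symm.trans (map_zero _).symm)).trans (map_zero _).symm)
      simp only [ha, map_zero] at hs
      exact (mul_eq_zero.1 hs).resolve_right (IsLocalization.map_units Ap s).ne_zero
    haveI : Module.IsTorsionFree Ap Cq := by
      haveI : FaithfulSMul Ap Cq := (faithfulSMul_iff_algebraMap_injective Ap Cq).2 hinjq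
      infer_instance
    haveI : Module.Flat Ap Cq := inferInstance
    haveI : Algebra.EssFiniteType Ap Cq := Algebra.EssFiniteType.of_comp A Ap Cq
    haveI : Algebra.FormallyUnramified Ap Cq := Algebra.FormallyUnramified.of_restrictScalars A Ap Cq
    exact FieldPow.isEtaleAt_of_flat_unramified (R' := Ap) (S' := Cq) p q
  have key : ∀ h : ℕ∞, ∀ q : Ideal C, (hq : q.IsPrime) → q ≤ n → q.height = h → Algebra.IsEtaleAt A q := by
    intro h
    induction h using WellFoundedLT.induction with
    | _ h IH =>
    intro q hqp hqn hqh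
    by_cases hq0 : q = ⊥
    · obtain ⟨x, hxn, hx0⟩ := Submodule.exists_mem_ne_zero_of_ne_bot h0
      obtain ⟨P, hPmin, hPn⟩ := Ideal.exists_minimalPrimes_le ((Ideal.span_singleton_le_iff_mem n).2 hxn)
      haveI : P.IsPrime := hPmin.1.1
      have hPbot : P ≠ ⊥ := fun hb => hx0 (by
        have := hPmin.1.2 (Ideal.mem_span_singleton_self x)
        rwa [hb, Ideal.mem_bot] at this)
      have hP1 : P.height = 1 := by
        refine le_antisymm (Ideal.height_le_one_of_isPrincipal_of_mem_minimalPrimes _ P hPmin) ?_
        rw [Order.one_le_iff_pos, pos_iff_ne_zero]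
        intro h'
        rw [Ideal.height_eq_zero_iff, IsDomain.minimalPrimes_eq_singleton_bot] at h'
        exact hPbot h'
      haveI := hone P inferInstance hPn hP1
      obtain ⟨g, hg, hge⟩ := Algebra.exists_etale_of_isEtaleAt (R := A) P
      haveI := hge
      exact Algebra.basicOpen_subset_etaleLocus_iff_etale.2 hge
        (show g ∉ (⟨q, hqp⟩ : PrimeSpectrum C).asIdeal from fun hgq => hg (by
          rw [show (⟨q, hqp⟩ : PrimeSpectrum C).asIdeal = ⊥ from hq0, Ideal.mem_bot] at hgq
          rw [hgq]; exact P.zero_mem))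
    by_cases hp1 : q.height ≤ 1
    · refine hone q hqp hqn (le_antisymm hp1 ?_)
      rw [Order.one_le_iff_pos, pos_iff_ne_zero]
      intro h'
      rw [Ideal.height_eq_zero_iff, IsDomain.minimalPrimes_eq_singleton_bot] at h'
      exact hq0 h'
    haveI := isIntegrallyClosed_of_le q n hqn
    refine isEtaleAt_step hinj q ?_ fun q' hq' hlt => IH _ ?_ q' hq' (hlt.le.trans hqn) rfl
    · have h2 : 2 ≤ q.height := by
        rw [← one_add_one_eq_two]
        exact Order.add_one_le_of_lt (not_le.1 hp1)
      exact h2.trans (height_le_comap (B := A) q)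
    · rw [← hqh]
      haveI : q'.FiniteHeight := inferInstance
      exact Ideal.height_strict_mono_of_isPrime hlt
  exact key _ n inferInstance le_rfl rfl

end Groth.Agent.Purity

namespace Groth.Agent.Purity

/-- Surjectivity of an away map, in terms of elements. -/
theorem exists_pow_mul_mem {R B : Type u} [CommRing R] [CommRing B] [Algebra R B] (S' : Subalgebra R B) (r : S')
    (h : Function.Bijective (Localization.awayMap S'.val.toRingHom r)) (x : B) :
    ∃ k : ℕ, (r : B) ^ k * x ∈ S' := by
  obtain ⟨z, hz⟩ := h.2 (algebraMap B _ x)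
  obtain ⟨y, ⟨_, m, rfl⟩, rfl⟩ := IsLocalization.exists_mk'_eq (.powers r) z
  rw [Localization.awayMap, IsLocalization.Away.map, IsLocalization.map_mk', eq_comm,
    IsLocalization.eq_mk'_iff_mul_eq, ← map_mul,
    IsLocalization.eq_iff_exists (.powers (S'.val.toRingHom r))] at hz
  obtain ⟨⟨_, j, rfl⟩, hj⟩ := hz
  simp only [map_pow] at hj
  refine ⟨j + m, ?_⟩
  rw [pow_add, mul_assoc, mul_comm ((r : B) ^ m) x]
  have : (r : B) ^ j * (x * (r : B) ^ m) = (r : B) ^ j * (y : B) := by simpa using hj
  rw [this]
  exact mul_mem (pow_mem r.2 j) y.2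

/-- Etale at a prime gives flat and unramified local rings. -/
theorem flat_unramified_of_isEtaleAt {A C : Type u} [CommRing A] [CommRing C] [Algebra A C]
    [Algebra.FinitePresentation A C] (q : Ideal C) [q.IsPrime] (h : Algebra.IsEtaleAt A q)
    (S : Type u) [CommRing S] [Algebra C S] [Algebra A S] [IsScalarTower A C S] [IsLocalization.AtPrime S q] :
    Module.Flat A S ∧ Algebra.FormallyUnramified A S := by
  haveI := h
  obtain ⟨g, hg, hge⟩ := Algebra.exists_etale_of_isEtaleAt (R := A) q
  haveI := hge
  let f : Localization.Away g →+* S :=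
    IsLocalization.Away.lift g (g := algebraMap C S) (IsLocalization.map_units S (⟨g, hg⟩ : q.primeCompl))
  letI : Algebra (Localization.Away g) S := f.toAlgebra
  haveI : IsScalarTower C (Localization.Away g) S :=
    .of_algebraMap_eq fun c => (IsLocalization.Away.lift_eq g _ c).symm
  haveI : IsScalarTower A (Localization.Away g) S := .of_algebraMap_eq fun c => by
    rw [IsScalarTower.algebraMap_apply A C S, IsScalarTower.algebraMap_apply C (Localization.Away g) S,
      ← IsScalarTower.algebraMap_apply A C (Localization.Away g)]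
  haveI : IsLocalization (q.primeCompl.map (algebraMap C (Localization.Away g))) S :=
    IsLocalization.isLocalization_of_submonoid_le _ _ (Submonoid.powers g) q.primeCompl
      (Submonoid.powers_le.2 hg)
  haveI : Module.Flat (Localization.Away g) S :=
    IsLocalization.flat S (q.primeCompl.map (algebraMap C (Localization.Away g)))
  haveI : Algebra.FormallyUnramified (Localization.Away g) S :=
    Algebra.FormallyUnramified.of_isLocalization (Rₘ := S) (q.primeCompl.map (algebraMap C (Localization.Away g)))
  exact ⟨Module.Flat.trans A (Localization.Away g) S, Algebra.FormallyUnramified.comp A (Localization.Away g) S⟩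

/-- Purity at a quasi-finite point of a finite type algebra. -/
theorem flat_unramified_of_quasiFiniteAt {R B : Type u} [CommRing R] [CommRing B] [Algebra R B]
    [Algebra.FiniteType R B] (p : Ideal R) [p.IsPrime] (n : Ideal B) [n.IsPrime] [n.LiesOver p]
    [Algebra.QuasiFiniteAt R n] [IsRegularLocalRing (Localization.AtPrime p)]
    [IsDomain (Localization.AtPrime n)] [IsIntegrallyClosed (Localization.AtPrime n)]
    (hdim : ringKrullDim (Localization.AtPrime n) = ringKrullDim (Localization.AtPrime p))
    (hd1 : (1 : WithBot ℕ∞) ≤ ringKrullDim (Localization.AtPrime n))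
    (hunr : ∀ P : Ideal B, (hP : P.IsPrime) → P ≤ n → ringKrullDim (Localization.AtPrime P) = 1 →
      Algebra.FormallyUnramified R (Localization.AtPrime P)) :
    Module.Flat R (Localization.AtPrime n) ∧ Algebra.FormallyUnramified R (Localization.AtPrime n) := by
  classical
  obtain ⟨S', hfg, r, hr, hbij⟩ :=
    Algebra.QuasiFiniteAt.exists_fg_and_exists_notMem_and_awayMap_bijective (R := R) n
  haveI : Module.Finite R S' := ⟨(Submodule.fg_top _).mpr hfg⟩
  set A := Localization.AtPrime p
  set S := Localization.AtPrime n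
  letI : Algebra A S := Localization.AtPrime.algebraOfLiesOver p n
  haveI := RegLoc.isDomain A
  let ψ : S' →ₐ[R] S := (IsScalarTower.toAlgHom R B S).comp S'.val
  let Ψ : A ⊗[R] S' →ₐ[A] S := Algebra.TensorProduct.lift (Algebra.ofId A S) ψ fun x y => mul_comm _ _
  set C := Ψ.range
  haveI : Module.Finite A C := Module.Finite.of_surjective Ψ.rangeRestrict.toLinearMap Ψ.rangeRestrict_surjective
  haveI : IsNoetherianRing C := IsNoetherianRing.of_finite A C
  haveI : Algebra.IsIntegral A C := Algebra.IsIntegral.of_finite A C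
  set q₁ : Ideal C := (maximalIdeal S).comap (algebraMap C S)
  have hS' : ∀ y : S', algebraMap B S y ∈ C := fun y =>
    ⟨1 ⊗ₜ[R] y, (Algebra.TensorProduct.lift_tmul _ _ _ _ _).trans (by simp [ψ])⟩
  haveI hloc : IsLocalization.AtPrime S q₁ := by
    constructor
    constructor
    · intro y
      by_contra hy
      exact y.2 ((IsLocalRing.mem_maximalIdeal _).2 hy)
    · intro z
      obtain ⟨⟨b, t⟩, hbt⟩ := IsLocalization.surj n.primeCompl z
      obtain ⟨k₁, hk₁⟩ := exists_pow_mul_mem S' r hbij b
      obtain ⟨k₂, hk₂⟩ := exists_pow_mul_mem S' r hbij t.1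
      have hb : (r : B) ^ (k₁ + k₂) * b ∈ S' := by
        rw [pow_add, mul_comm ((r : B) ^ k₁), mul_assoc]; exact mul_mem (pow_mem r.2 _) hk₁
      have ht : (r : B) ^ (k₁ + k₂) * t.1 ∈ S' := by
        rw [pow_add, mul_assoc]; exact mul_mem (pow_mem r.2 _) hk₂
      refine ⟨⟨⟨_, hS' ⟨_, hb⟩⟩, ⟨⟨_, hS' ⟨_, ht⟩⟩, fun hmem => ?_⟩⟩, ?_⟩
      · have := (IsLocalization.AtPrime.to_map_mem_maximal_iff S n _).1 hmem
        exact (n.primeCompl.mul_mem (n.primeCompl.pow_mem hr _) t.2) this
      · show z * algebraMap B S ((r : B) ^ (k₁ + k₂) * t.1) = algebraMap B S ((r : B) ^ (k₁ + k₂) * b)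
        rw [map_mul, map_mul, ← hbt, mul_left_comm]
    · intro x y hxy
      exact ⟨1, by rw [Subtype.ext hxy]⟩
  haveI : IsIntegrallyClosed (Localization.AtPrime q₁) :=
    IsIntegrallyClosed.of_equiv (IsLocalization.algEquiv q₁.primeCompl S (Localization.AtPrime q₁)).toRingEquiv
  have hq₁ : q₁.height = (maximalIdeal S).height := IsLocalization.height_under q₁.primeCompl (maximalIdeal S)
  have hSdim : ringKrullDim S = ((maximalIdeal S).height : WithBot ℕ∞) :=
    IsLocalRing.maximalIdeal_height_eq_ringKrullDim.symm
  have hinj : Function.Injective (algebraMap A C) := by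
    refine (injective_iff_map_eq_zero _).2 fun x hx => ?_
    by_contra hx0
    have hlift : ∀ y ∈ Ideal.span {x}, (algebraMap A C) y = 0 := fun y hy => by
      obtain ⟨c, rfl⟩ := Ideal.mem_span_singleton'.1 hy
      rw [map_mul, hx, mul_zero]
    letI : Algebra (A ⧸ Ideal.span {x}) C := (Ideal.Quotient.lift _ (algebraMap A C) hlift).toAlgebra
    haveI : Algebra.IsIntegral (A ⧸ Ideal.span {x}) C := ⟨fun c =>
      RingHom.IsIntegralElem.of_comp (f := Ideal.Quotient.mk (Ideal.span {x})) (g := algebraMap (A ⧸ Ideal.span {x}) C)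
        (Algebra.IsIntegral.isIntegral (R := A) c)⟩
    have h1 : (q₁.height : WithBot ℕ∞) ≤ ringKrullDim (A ⧸ Ideal.span {x}) :=
      (WithBot.coe_le_coe.2 (height_le_comap (B := A ⧸ Ideal.span {x}) q₁)).trans
        (Ideal.height_le_ringKrullDim_of_ne_top (Ideal.IsPrime.ne_top inferInstance))
    have h2 := ringKrullDim_quotient_succ_le_of_nonZeroDivisor (mem_nonZeroDivisors_of_ne_zero hx0)
    rw [← hdim, hSdim, ← hq₁] at h2
    have h3 := (add_le_add h1 le_rfl).trans h2
    rw [← WithBot.coe_one, ← WithBot.coe_add, WithBot.coe_le_coe] at h3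
    exact (ENat.add_one_le_iff (Ideal.height_ne_top (Ideal.IsPrime.ne_top inferInstance))).1 h3 |>.false
  have hq0 : q₁ ≠ ⊥ := fun h => by
    rw [hSdim, ← hq₁, h, Ideal.height_bot] at hd1
    exact absurd hd1 (by simp)
  have hetale := isEtaleAt_of_normal hinj q₁ hq0 fun q hq hqle hq1 => by
    haveI := hq
    have hdisj : Disjoint (q₁.primeCompl : Set C) (q : Set C) :=
      Set.disjoint_left.2 fun x hx hx1 => hx (hqle hx1)
    set Q : Ideal S := q.map (algebraMap C S)
    haveI : Q.IsPrime := IsLocalization.isPrime_of_isPrime_disjoint q₁.primeCompl S q hq hdisj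
    have hQq : Q.comap (algebraMap C S) = q :=
      IsLocalization.under_map_of_isPrime_disjoint q₁.primeCompl S ‹_› hdisj
    set P := Q.comap (algebraMap B S)
    have hPn : P ≤ n := fun b hb => (IsLocalization.AtPrime.to_map_mem_maximal_iff S n b).1
      ((IsLocalRing.le_maximalIdeal (J := Q) (Ideal.IsPrime.ne_top inferInstance)) hb)
    let L := Localization.AtPrime Q
    haveI hLB : IsLocalization.AtPrime L P :=
      IsLocalization.isLocalization_isLocalization_atPrime_isLocalization n.primeCompl L Q
    haveI hLC : IsLocalization.AtPrime L (Q.comap (algebraMap C S)) :=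
      IsLocalization.isLocalization_isLocalization_atPrime_isLocalization q₁.primeCompl L Q
    haveI : IsLocalization.AtPrime L q := by
      have : (Q.comap (algebraMap C S)).primeCompl = q.primeCompl := Submonoid.ext fun x => by
        show x ∉ Q.comap (algebraMap C S) ↔ x ∉ q
        rw [hQq]
      show IsLocalization q.primeCompl L
      rw [← this]; exact hLC
    have hP1 : ringKrullDim (Localization.AtPrime P) = 1 := by
      rw [IsLocalization.AtPrime.ringKrullDim_eq_height P, show P.height = 1 from
        (IsLocalization.height_under n.primeCompl Q).trans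
          (((IsLocalization.height_under q₁.primeCompl Q).symm.trans (congrArg Ideal.height hQq)).trans hq1)]
      rfl
    haveI := hunr P inferInstance hPn hP1
    haveI : Algebra.FormallyUnramified R L :=
      .of_equiv ((IsLocalization.algEquiv P.primeCompl (Localization.AtPrime P) L).restrictScalars R)
    haveI : Algebra.FormallyUnramified A L := .of_restrictScalars R A L
    exact .of_equiv ((IsLocalization.algEquiv q.primeCompl L (Localization.AtPrime q)).restrictScalars A)
  haveI : Algebra.FinitePresentation A C := Algebra.FinitePresentation.of_finiteType.1 inferInstance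
  obtain ⟨hflat, hu⟩ := flat_unramified_of_isEtaleAt q₁ hetale S
  haveI : Module.Flat R A := IsLocalization.flat A p.primeCompl
  haveI : Algebra.FormallyUnramified R A := Algebra.FormallyUnramified.of_isLocalization p.primeCompl
  exact ⟨Module.Flat.trans R A S, Algebra.FormallyUnramified.comp R A S⟩

end Groth.Agent.Purity
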