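import Groth.Agent.Purity.Global

/-!
# Étaleness is detected in codimension one
-/

set_option autoImplicit false

universe u v

open scoped TensorProduct

namespace Groth.Agent.Purity

variable {R : Type u} [CommRing R]

/-- A finite algebra over a regular domain which is étale in codimension one is étale, provided it
has depth two along a regular pair. -/
theorem etale_of_codim_one [IsDomain R] [IsNoetherianRing R]
    (hreg : ∀ p : Ideal R, (hp : p.IsPrime) → IsRegularLocalRing (Localization.AtPrime p))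
    {C : Type u} [CommRing C] [Algebra R C] [Module.Finite R C]
    (hC : ∀ a b : R, a ≠ 0 → b ≠ 0 → TwoWith a b R → TwoWith a b C)
    (h : ∀ p : Ideal R, p.IsPrime → p.height ≤ 1 →
      ∃ s ∉ p, Algebra.Etale R (Localization.Away (algebraMap R C s))) : Algebra.Etale R C := by
  haveI : IsIntegrallyClosed R := by
    refine IsIntegrallyClosed.of_localization_maximal fun p hp hmax => ?_
    haveI := hreg p inferInstance
    haveI := RegLoc.isDomain (Localization.AtPrime p)
    haveI := UFDLib.ufd_of_isRegularLocalRing (Localization.AtPrime p)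
    infer_instance
  haveI : Algebra.FinitePresentation R C := Algebra.FinitePresentation.of_finiteType.1 inferInstance
  set I : Ideal R := Ideal.span {s | Algebra.Etale R (Localization.Away (algebraMap R C s))}
  have hI : ∀ p : Ideal R, p.IsPrime → I ≤ p → 2 ≤ p.height := fun p hp hle => by
    by_contra hlt
    obtain ⟨s, hs, hse⟩ := h p hp (Order.le_of_lt_add_one (not_le.1 hlt))
    exact hs (hle (Ideal.subset_span hse))
  obtain ⟨a, b, haI, hbI, ha, hb, hab⟩ := exists_pair_normal I hI
  refine etale_of_away hreg I hI haI hbI hab (hC a b ha hb hab) fun f hf => ?_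
  rw [← Algebra.basicOpen_subset_etaleLocus_iff_etale]
  intro q hq
  obtain ⟨s, hs, hsq⟩ : ∃ s, Algebra.Etale R (Localization.Away (algebraMap R C s)) ∧
      algebraMap R C s ∉ q.asIdeal := by
    by_contra! hall
    exact hq (show f ∈ q.asIdeal.comap (algebraMap R C) from (Ideal.span_le (I := q.asIdeal.comap (algebraMap R C))).2 hall hf)
  exact Algebra.basicOpen_subset_etaleLocus_iff_etale.2 hs hsq

/-- An algebra with a trace form and a pair of dual bases up to `s` is étale over `D(s)`. -/
theorem etale_away_of_trace {C : Type v} [CommRing C] [Algebra R C] [Algebra.FiniteType R C] [IsNoetherianRing R]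
    {ι : Type} [Fintype ι] (x y : ι → C) (t : C →ₗ[R] R) (s : R) (hsum : ∑ i, x i * y i = algebraMap R C s)
    (hx : ∀ c, s • c = ∑ i, t (y i * c) • x i) (hy : ∀ c, s • c = ∑ i, t (x i * c) • y i) :
    Algebra.Etale R (Localization.Away (algebraMap R C s)) := by
  classical
  set Cs := Localization.Away (algebraMap R C s)
  set Rs := Localization.Away s
  haveI : IsLocalizedModule (Submonoid.powers s) (IsScalarTower.toAlgHom R C Cs).toLinearMap :=
    isLocalizedModule_iff_isLocalization.mpr (by
      show IsLocalization (Algebra.algebraMapSubmonoid C (Submonoid.powers s)) Cs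
      rw [show Algebra.algebraMapSubmonoid C (Submonoid.powers s) = Submonoid.powers (algebraMap R C s) from
        Submonoid.map_powers _ _]
      infer_instance)
  have hus : IsUnit (algebraMap R Cs s) := by
    rw [IsScalarTower.algebraMap_apply R C Cs]
    exact IsLocalization.Away.algebraMap_isUnit (algebraMap R C s)
  obtain ⟨u, hu⟩ := hus
  -- flatness: a retract of a free module over `R_s`
  let T : C →ₗ[R] (ι → Rs) := LinearMap.pi fun i =>
    (Algebra.linearMap R Rs).comp (t.comp (LinearMap.mulLeft R (y i)))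
  have hT : ∀ m : Submonoid.powers s, IsUnit (algebraMap R (Module.End R (ι → Rs)) m) := fun m => by
    have hm : IsUnit (algebraMap R Rs m) := IsLocalization.map_units Rs m
    obtain ⟨w, hw⟩ := hm
    rw [Module.End.isUnit_iff]
    have e : ∀ z : ι → Rs, (algebraMap R (Module.End R (ι → Rs)) (m : R)) z = fun i => (w : Rs) * z i := fun z => by
      funext i
      rw [hw, Module.algebraMap_end_apply, Pi.smul_apply, Algebra.smul_def]
    refine ⟨fun z z' hz => funext fun i => ?_, fun z => ⟨fun i => (↑w⁻¹ : Rs) * z i, ?_⟩⟩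
    · rw [e, e] at hz
      exact w.isUnit.mul_left_cancel (congrFun hz i)
    · rw [e]
      funext i
      rw [← mul_assoc, Units.mul_inv, one_mul]
  let uC : Cs →ₗ[R] (ι → Rs) :=
    IsLocalizedModule.lift (Submonoid.powers s) (IsScalarTower.toAlgHom R C Cs).toLinearMap T hT
  let ψ : Rs →ₐ[R] Cs := IsLocalization.Away.liftAlgHom (S := Rs) (f := Algebra.ofId R Cs) s ⟨u, hu⟩
  let v : (ι → Rs) →ₗ[R] Cs :=
    { toFun := fun r => (↑u⁻¹ : Cs) * ∑ i, ψ (r i) * algebraMap C Cs (x i)
      map_add' := fun r r' => by simp only [Pi.add_apply, map_add, add_mul, Finset.sum_add_distrib, mul_add]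
      map_smul' := fun a r => by
        simp only [Pi.smul_apply, map_smul, smul_mul_assoc, ← Finset.smul_sum, RingHom.id_apply, mul_smul_comm] }
  have hvu : v.comp uC = LinearMap.id := by
    refine IsLocalizedModule.ext (Submonoid.powers s) (IsScalarTower.toAlgHom R C Cs).toLinearMap
      (fun m => IsLocalizedModule.map_units (IsScalarTower.toAlgHom R C Cs).toLinearMap m) ?_
    refine LinearMap.ext fun c => ?_
    show v (uC (algebraMap C Cs c)) = algebraMap C Cs c
    rw [show uC (algebraMap C Cs c) = T c from IsLocalizedModule.lift_apply _ _ _ _ c]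
    show (↑u⁻¹ : Cs) * ∑ i, ψ (algebraMap R Rs (t (y i * c))) * algebraMap C Cs (x i) = algebraMap C Cs c
    have e : ∑ i, ψ (algebraMap R Rs (t (y i * c))) * algebraMap C Cs (x i) = (u : Cs) * algebraMap C Cs c := by
      simp only [AlgHom.commutes]
      rw [hu, ← Algebra.smul_def, ← IsScalarTower.toAlgHom_apply R C Cs c, ← map_smul, hx c, map_sum]
      refine Finset.sum_congr rfl fun i _ => ?_
      rw [map_smul, Algebra.smul_def]
      rfl
    rw [e, ← mul_assoc, Units.inv_mul, one_mul]
  haveI : Module.Flat R Rs := IsLocalization.flat Rs (Submonoid.powers s)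
  haveI : Module.Flat R (ι → Rs) := Module.Flat.of_linearEquiv (DirectSum.linearEquivFunOnFintype R ι (fun _ => Rs)).symm
  haveI : Module.Flat R Cs := Module.Flat.of_retract uC v hvu
  haveI : Algebra.FiniteType C Cs := IsLocalization.finiteType_of_monoid_fg (Submonoid.powers (algebraMap R C s)) _
  haveI : Algebra.FiniteType R Cs := Algebra.FiniteType.trans (S := C) inferInstance inferInstance
  haveI : Algebra.FinitePresentation R Cs := Algebra.FinitePresentation.of_finiteType.1 inferInstance
  suffices Algebra.FormallyUnramified R Cs from .of_formallyUnramified_of_flat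
  rw [Algebra.FormallyUnramified.iff_exists_tensorProduct]
  set e : Cs ⊗[R] Cs := (↑u⁻¹ : Cs) ⊗ₜ 1 * ∑ i, algebraMap C Cs (x i) ⊗ₜ[R] algebraMap C Cs (y i)
  have hC : ∀ c : C, ((1 : Cs) ⊗ₜ[R] algebraMap C Cs c - algebraMap C Cs c ⊗ₜ[R] 1) * e = 0 := by
    intro c
    have key : ((1 : C) ⊗ₜ[R] c - c ⊗ₜ[R] 1) * ((s • (1 : C)) ⊗ₜ[R] (1 : C) * ∑ i, x i ⊗ₜ[R] y i) = 0 := by
      simp only [sub_mul, Finset.mul_sum, Algebra.TensorProduct.tmul_mul_tmul, one_mul, smul_mul_assoc,
        mul_smul_comm]
      rw [Finset.sum_sub_distrib, sub_eq_zero]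
      calc ∑ i, (s • x i) ⊗ₜ[R] (c * y i) = ∑ i, x i ⊗ₜ[R] (s • (c * y i)) := by
            simp only [TensorProduct.smul_tmul]
        _ = ∑ i, ∑ j, (t (x j * (c * y i)) • x i) ⊗ₜ[R] y j := by
            refine Finset.sum_congr rfl fun i _ => ?_
            rw [hy, TensorProduct.tmul_sum]
            simp only [TensorProduct.smul_tmul]
        _ = ∑ j, (∑ i, t (y i * (c * x j)) • x i) ⊗ₜ[R] y j := by
            rw [Finset.sum_comm]
            refine Finset.sum_congr rfl fun j _ => ?_
            rw [TensorProduct.sum_tmul]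
            refine Finset.sum_congr rfl fun i _ => ?_
            congr 2
            rw [show x j * (c * y i) = y i * (c * x j) by ring]
        _ = ∑ j, (s • (c * x j)) ⊗ₜ[R] y j := by simp only [← hx]
    let m := Algebra.TensorProduct.map (IsScalarTower.toAlgHom R C Cs) (IsScalarTower.toAlgHom R C Cs)
    have h2 := congrArg m key
    simp only [m, map_mul, map_sub, map_zero, map_sum, Algebra.TensorProduct.map_tmul, map_one, map_smul,
      IsScalarTower.toAlgHom_apply] at h2
    refine ((u.isUnit.map (Algebra.TensorProduct.includeLeft : Cs →ₐ[R] Cs ⊗[R] Cs)).pow 2).mul_right_eq_zero.1 ?_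
    rw [Algebra.smul_def, mul_one, ← hu] at h2
    rw [Algebra.TensorProduct.includeLeft_apply]
    calc ((u : Cs) ⊗ₜ[R] (1 : Cs)) ^ 2 * (((1 : Cs) ⊗ₜ[R] algebraMap C Cs c - algebraMap C Cs c ⊗ₜ[R] 1) * e)
        = ((u : Cs) ⊗ₜ[R] (1 : Cs) * (↑u⁻¹ : Cs) ⊗ₜ[R] (1 : Cs)) *
          (((1 : Cs) ⊗ₜ[R] algebraMap C Cs c - algebraMap C Cs c ⊗ₜ[R] 1) *
            ((u : Cs) ⊗ₜ[R] (1 : Cs) * ∑ i, algebraMap C Cs (x i) ⊗ₜ[R] algebraMap C Cs (y i))) := by ring
      _ = 0 := by rw [h2, mul_zero]
  refine ⟨e, fun z => ?_, ?_⟩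
  · obtain ⟨⟨c, ⟨_, k, rfl⟩⟩, hk⟩ := IsLocalization.surj (Submonoid.powers (algebraMap R C s)) z
    simp only [map_pow, ← IsScalarTower.algebraMap_apply, ← hu] at hk
    have h1 := hC c
    rw [← hk] at h1
    have huk : (u : Cs) ^ k = algebraMap R Cs (s ^ k) := by rw [hu, map_pow]
    have hsw : (1 : Cs) ⊗ₜ[R] ((u : Cs) ^ k) = ((u : Cs) ^ k) ⊗ₜ[R] (1 : Cs) := by
      rw [huk, Algebra.algebraMap_eq_smul_one (A := Cs), ← TensorProduct.smul_tmul]
    have hR : ∀ p q : Cs, (1 : Cs) ⊗ₜ[R] (p * q) = ((1 : Cs) ⊗ₜ[R] p) * ((1 : Cs) ⊗ₜ[R] q) :=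
      map_mul (Algebra.TensorProduct.includeRight : Cs →ₐ[R] Cs ⊗[R] Cs)
    have hL : ∀ p q : Cs, (p * q) ⊗ₜ[R] (1 : Cs) = (p ⊗ₜ[R] (1 : Cs)) * (q ⊗ₜ[R] (1 : Cs)) :=
      map_mul (Algebra.TensorProduct.includeLeft : Cs →ₐ[R] Cs ⊗[R] Cs)
    have h2 : ((1 : Cs) ⊗ₜ[R] z - z ⊗ₜ[R] 1) * e * (((u : Cs) ^ k) ⊗ₜ[R] (1 : Cs)) = 0 := by
      rw [← h1, hR, hsw, hL]
      ring
    exact (((u.isUnit.pow k).map (Algebra.TensorProduct.includeLeft : Cs →ₐ[R] Cs ⊗[R] Cs))).mul_left_eq_zero.1 h2
  · simp only [e, map_mul, map_sum, Algebra.TensorProduct.lmul'_apply_tmul, mul_one]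
    simp only [← map_mul, ← map_sum]
    rw [hsum, ← IsScalarTower.algebraMap_apply, ← hu, Units.inv_mul]

end Groth.Agent.Purity

namespace Groth.Agent.Purity

/-- Transport of `Etale` on a principal open along an isomorphism. -/
theorem etale_away_congr {R : Type u} [CommRing R] {C : Type v} [CommRing C] [Algebra R C] {D : Type*} [CommRing D]
    [Algebra R D] (e : C ≃ₐ[R] D) (s : R) [Algebra.Etale R (Localization.Away (algebraMap R C s))] :
    Algebra.Etale R (Localization.Away (algebraMap R D s)) := by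
  rw [show algebraMap R D s = e.toAlgHom (algebraMap R C s) from (e.toAlgHom.commutes s).symm]
  exact Algebra.Etale.of_equiv (AlgEquiv.ofBijective (Localization.awayMapₐ e.toAlgHom (algebraMap R C s))
    ⟨IsLocalization.Away.mapₐ_injective_of_injective _ e.injective,
      IsLocalization.Away.mapₐ_surjective_of_surjective _ e.surjective⟩)

/-- Étaleness in codimension one, for algebras in any universe. -/
theorem etale_of_codim_one' {R : Type u} [CommRing R] [IsDomain R] [IsNoetherianRing R]
    (hreg : ∀ p : Ideal R, (hp : p.IsPrime) → IsRegularLocalRing (Localization.AtPrime p))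
    {C : Type v} [CommRing C] [Algebra R C] [Module.Finite R C]
    (hC : ∀ a b : R, a ≠ 0 → b ≠ 0 → TwoWith a b R → TwoWith a b C)
    (h : ∀ p : Ideal R, p.IsPrime → p.height ≤ 1 →
      ∃ s ∉ p, Algebra.Etale R (Localization.Away (algebraMap R C s))) : Algebra.Etale R C := by
  obtain ⟨n, φ, hφ⟩ := Module.Finite.exists_fin' R C
  haveI : Small.{u} C := small_of_surjective hφ
  let e : Shrink.{u} C ≃ₐ[R] C := Shrink.algEquiv R C
  haveI : Module.Finite R (Shrink.{u} C) := Module.Finite.equiv e.symm.toLinearEquiv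
  haveI : Algebra.Etale R (Shrink.{u} C) := etale_of_codim_one hreg
    (fun a b ha hb hab => TwoWith.of_equiv e.symm.toLinearEquiv (hC a b ha hb hab)) fun p hp hle => by
      obtain ⟨s, hs, hse⟩ := h p hp hle
      haveI := hse
      exact ⟨s, hs, etale_away_congr e.symm s⟩
  exact Algebra.Etale.of_equiv e

end Groth.Agent.Purity
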