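import Groth.Agent.Purity.Main
import Groth.Agent.InvGen.NormalDvd
import Mathlib.RingTheory.IntegralClosure.GoingDown

/-!
# Purity for normal finite extensions of regular local rings
-/

set_option autoImplicit false

universe u v

open IsLocalRing

namespace Groth.Agent.Purity

variable {R : Type u} [CommRing R]

/-- A regular pair in the maximal ideal of a regular local ring of dimension at least two. -/
theorem exists_pair (R : Type u) [CommRing R] [IsRegularLocalRing R] (h : (2 : WithBot ℕ∞) ≤ ringKrullDim R) :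
    ∃ (d : ℕ) (a b : R), ringKrullDim R = (d + 2 : ℕ) ∧ a ∈ maximalIdeal R ∧ b ∈ maximalIdeal R ∧ TwoWith a b R ∧
      a ≠ 0 ∧ b ≠ 0 := by
  haveI := RegLoc.isDomain R
  obtain ⟨d, hd⟩ := SerreReg.exists_dim R
  rw [hd] at h
  have h2 : 2 ≤ d := by exact_mod_cast h
  obtain ⟨rs, hlen, hrs, hspan⟩ := SerreReg.exists_regular_rsop d R hd
  obtain ⟨a, b, l, rfl⟩ : ∃ a b l, rs = a :: b :: l := by
    match rs, hlen with
    | [], h => simp only [List.length_nil] at h; omega
    | [_], h => simp only [List.length_singleton] at h; omega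
    | a :: b :: l, _ => exact ⟨a, b, l, rfl⟩
  have ha : a ∈ maximalIdeal R := hspan ▸ Ideal.subset_span (List.mem_cons_self ..)
  have hb : b ∈ maximalIdeal R := hspan ▸ Ideal.subset_span (List.mem_cons_of_mem _ (List.mem_cons_self ..))
  have hab := two_of_isWeaklyRegular hrs
  refine ⟨d - 2, a, b, by rw [hd, Nat.sub_add_cancel h2], ha, hb, hab, fun h => one_ne_zero (hab.inj 1 (by rw [h, zero_smul])), ?_⟩
  rintro rfl
  obtain ⟨z, hz⟩ := hab.cancel 1 0 (by simp)
  exact (IsLocalRing.mem_maximalIdeal a).1 ha (IsUnit.of_mul_eq_one z hz.symm)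

/-- A prime containing a regular pair has height at least two. -/
theorem two_le_height [IsDomain R] [UniqueFactorizationMonoid R] {a b : R} (h : TwoWith a b R) (ha : a ≠ 0)
    (P : Ideal R) [P.IsPrime] (haP : a ∈ P) (hbP : b ∈ P) : 2 ≤ P.height := by
  obtain ⟨π, hπP, hπ, hπa⟩ : ∃ π ∈ P, Prime π ∧ π ∣ a := by
    have hna : ¬ IsUnit a := fun hu => Ideal.IsPrime.ne_top inferInstance (Ideal.eq_top_of_isUnit_mem P haP hu)
    have hprod := UniqueFactorizationMonoid.factors_prod ha
    have hmem : (UniqueFactorizationMonoid.factors a).prod ∈ P := by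
      obtain ⟨u, hu⟩ := hprod
      rw [← hu] at haP
      exact (Ideal.IsPrime.mem_or_mem inferInstance haP).resolve_right fun hc =>
        Ideal.IsPrime.ne_top inferInstance (Ideal.eq_top_of_isUnit_mem P hc u.isUnit)
    obtain ⟨π, hπ, hπP⟩ := (Ideal.IsPrime.multiset_prod_mem_iff_exists_mem inferInstance _).1 hmem
    exact ⟨π, hπP, UniqueFactorizationMonoid.prime_of_factor π hπ, UniqueFactorizationMonoid.dvd_of_mem_factors hπ⟩
  set p : Ideal R := Ideal.span {π}
  haveI : p.IsPrime := (Ideal.span_singleton_prime hπ.ne_zero).2 hπ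
  have hlt : p < P := by
    refine lt_of_le_of_ne ((Ideal.span_singleton_le_iff_mem P).2 hπP) fun he => ?_
    obtain ⟨c, hc⟩ := hπa
    obtain ⟨e, he'⟩ := Ideal.mem_span_singleton.1 (show b ∈ p from he ▸ hbP)
    have h1 : b • c = a • e := by rw [smul_eq_mul, smul_eq_mul, hc, he']; ring
    obtain ⟨z, hz⟩ := h.cancel c e h1
    rw [smul_eq_mul] at hz
    have h2 : a * (π * z) = a * 1 := by linear_combination π * (hz.symm) - hc
    exact hπ.not_isUnit (IsUnit.of_mul_eq_one z (mul_left_cancel₀ ha h2))
  haveI : (⊥ : Ideal R).IsPrime := Ideal.isPrime_bot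
  have h1 : (⊥ : Ideal R) < p := bot_lt_iff_ne_bot.2 fun e => hπ.ne_zero (Ideal.span_singleton_eq_bot.1 e)
  have h2 := Ideal.height_add_one_le_of_lt_of_isPrime h1
  have h3 := Ideal.height_add_one_le_of_lt_of_isPrime hlt
  calc (2 : ℕ∞) = 0 + 1 + 1 := by norm_num
    _ ≤ (⊥ : Ideal R).height + 1 + 1 := by gcongr; exact zero_le
    _ ≤ p.height + 1 := by gcongr
    _ ≤ P.height := h3

/-- A normal domain finite over a regular local ring has depth two. -/
theorem two_normal [IsDomain R] [UniqueFactorizationMonoid R] [IsNoetherianRing R] {a b : R} (h : TwoWith a b R)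
    (ha : a ≠ 0) (B : Type v) [CommRing B] [IsDomain B] [IsIntegrallyClosed B] [Algebra R B] [Module.Finite R B]
    (hinj : Function.Injective (algebraMap R B)) : TwoWith a b B := by
  haveI : FaithfulSMul R B := (faithfulSMul_iff_algebraMap_injective R B).2 hinj
  haveI : IsNoetherianRing B := IsNoetherianRing.of_finite R B
  refine ⟨fun m hm => ?_, fun m n hmn => ?_⟩
  · rw [Algebra.smul_def] at hm
    exact (mul_eq_zero.1 hm).resolve_left fun h0 => ha (hinj (h0.trans (map_zero _).symm))
  · rw [Algebra.smul_def, Algebra.smul_def] at hmn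
    obtain ⟨z, hz⟩ := InvGen.dvd_of_forall_height_one (r := algebraMap R B a) (c := m)
      (fun h0 => ha (hinj (h0.trans (map_zero _).symm))) fun P hP hP1 => by
        haveI := hP
        by_cases hbP : algebraMap R B b ∈ P
        · by_cases haP : algebraMap R B a ∈ P
          · exfalso
            haveI : P.LiesOver (P.under R) := ⟨rfl⟩
            have h2 := Ideal.height_eq_height_add_of_liesOver_of_hasGoingDown (P.under R) P
            have h3 := two_le_height h ha (P.under R) haP hbP
            rw [hP1] at h2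
            have : (2 : ℕ∞) ≤ 1 := h3.trans (le_self_add.trans h2.ge)
            exact absurd this (by norm_num)
          · exact ⟨_, haP, dvd_mul_right _ _⟩
        · exact ⟨_, hbP, n, hmn⟩
    exact ⟨z, by rw [Algebra.smul_def]; exact hz⟩

/-- Purity of the branch locus for normal finite extensions. -/
theorem etale_of_normal (R : Type u) [CommRing R] [IsRegularLocalRing R] (hR : (2 : WithBot ℕ∞) ≤ ringKrullDim R)
    (B : Type u) [CommRing B] [IsDomain B] [IsIntegrallyClosed B] [Algebra R B] [Module.Finite R B]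
    (hinj : Function.Injective (algebraMap R B))
    (h : ∀ (q : Ideal B) (_ : q.IsPrime), q.comap (algebraMap R B) ≠ maximalIdeal R → Algebra.IsEtaleAt R q) :
    Algebra.Etale R B := by
  haveI := RegLoc.isDomain R
  haveI := UFDLib.ufd_of_isRegularLocalRing R
  obtain ⟨d, a, b, hd, ha, hb, hab, ha0, -⟩ := exists_pair R hR
  haveI : Algebra.FinitePresentation R B := Algebra.FinitePresentation.of_finiteType.1 inferInstance
  refine etale_of_onPunct d R hd a b ha hb hab B (two_normal hab ha0 B hinj) fun f hf => ?_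
  rw [← Algebra.basicOpen_subset_etaleLocus_iff_etale]
  intro q hq
  exact h q.asIdeal inferInstance fun he => hq (show f ∈ q.asIdeal.comap (algebraMap R B) from he.symm ▸ hf)

end Groth.Agent.Purity
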