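import Groth.Agent.Purity.Sections
import Mathlib.RingTheory.LocalProperties.IntegrallyClosed
import Mathlib.AlgebraicGeometry.Morphisms.Finite

/-!
# A finite étale scheme over a big open of a regular scheme, seen from an affine chart
-/

set_option autoImplicit false

universe u

open AlgebraicGeometry CategoryTheory TopologicalSpace Opposite

namespace Groth.Agent.Purity

variable {X Y : Scheme.{u}}

/-- The local rings of an affine chart. -/
theorem isRegularLocalRing_chart (hreg : ∀ x : X, IsRegularLocalRing (X.presheaf.stalk x)) {V : X.Opens}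
    (hV : IsAffineOpen V) (p : Ideal Γ(X, V)) [p.IsPrime] : IsRegularLocalRing (Localization.AtPrime p) := by
  set y : PrimeSpectrum Γ(X, V) := ⟨p, inferInstance⟩
  have hy : hV.fromSpec y ∈ V := hV.range_fromSpec.le ⟨y, rfl⟩
  letI := X.presheaf.algebra_section_stalk ⟨_, hy⟩
  haveI : IsLocalization.AtPrime (X.presheaf.stalk (hV.fromSpec y)) p := hV.isLocalization_stalk' y hy
  haveI := hreg (hV.fromSpec y)
  exact IsRegularLocalRing.of_ringEquiv
    (IsLocalization.algEquiv p.primeCompl (X.presheaf.stalk (hV.fromSpec y)) (Localization.AtPrime p)).toRingEquiv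

theorem height_chart {V : X.Opens} (hV : IsAffineOpen V) (p : Ideal Γ(X, V)) [p.IsPrime] :
    (p.height : WithBot ℕ∞) = ringKrullDim (X.presheaf.stalk (hV.fromSpec ⟨p, inferInstance⟩)) := by
  set y : PrimeSpectrum Γ(X, V) := ⟨p, inferInstance⟩
  have hy : hV.fromSpec y ∈ V := hV.range_fromSpec.le ⟨y, rfl⟩
  letI := X.presheaf.algebra_section_stalk ⟨_, hy⟩
  haveI : IsLocalization.AtPrime (X.presheaf.stalk (hV.fromSpec y)) p := hV.isLocalization_stalk' y hy
  exact (IsLocalization.AtPrime.ringKrullDim_eq_height p _).symm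

theorem isIntegrallyClosed_chart (hreg : ∀ x : X, IsRegularLocalRing (X.presheaf.stalk x)) {V : X.Opens}
    (hV : IsAffineOpen V) [IsDomain Γ(X, V)] : IsIntegrallyClosed Γ(X, V) := by
  refine IsIntegrallyClosed.of_localization_maximal fun p hp hmax => ?_
  haveI := isRegularLocalRing_chart hreg hV p
  haveI := RegLoc.isDomain (Localization.AtPrime p)
  haveI := UFDLib.ufd_of_isRegularLocalRing (Localization.AtPrime p)
  infer_instance

/-- The ideal of functions on a chart vanishing outside `U`. -/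
noncomputable def outerIdeal (U : X.Opens) {V : X.Opens} (hV : IsAffineOpen V) : Ideal Γ(X, V) :=
  PrimeSpectrum.vanishingIdeal (hV.fromSpec ⁻¹' (U : Set X)ᶜ)

variable {U : X.Opens} {V : X.Opens} (hV : IsAffineOpen V)

theorem mem_of_outerIdeal_le {p : Ideal Γ(X, V)} [p.IsPrime] (h : outerIdeal U hV ≤ p) :
    hV.fromSpec ⟨p, inferInstance⟩ ∉ U := by
  have hcl : IsClosed (hV.fromSpec ⁻¹' (U : Set X)ᶜ : Set (PrimeSpectrum Γ(X, V))) :=
    U.2.isClosed_compl.preimage hV.fromSpec.continuous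
  have hmem : (⟨p, inferInstance⟩ : PrimeSpectrum Γ(X, V)) ∈
      PrimeSpectrum.zeroLocus (outerIdeal U hV : Set Γ(X, V)) := (PrimeSpectrum.mem_zeroLocus _ _).2 h
  rw [outerIdeal, PrimeSpectrum.zeroLocus_vanishingIdeal_eq_closure, hcl.closure_eq] at hmem
  exact hmem

theorem basicOpen_le_of_mem_outerIdeal {f : Γ(X, V)} (hf : f ∈ outerIdeal U hV) : X.basicOpen f ≤ U := by
  intro x hx
  by_contra hxU
  have hxV : x ∈ V := X.basicOpen_le f hx
  set y := hV.primeIdealOf ⟨x, hxV⟩
  have hy : hV.fromSpec y = x := hV.fromSpec_primeIdealOf ⟨x, hxV⟩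
  have h1 : y ∈ hV.fromSpec ⁻¹ᵁ X.basicOpen f := show hV.fromSpec y ∈ X.basicOpen f from hy ▸ hx
  rw [hV.fromSpec_preimage_basicOpen] at h1
  exact h1 ((PrimeSpectrum.mem_vanishingIdeal _ _).1 hf y (show hV.fromSpec y ∈ (U : Set X)ᶜ from hy ▸ hxU))

theorem exists_pair_chart [IsLocallyNoetherian X] (hreg : ∀ x : X, IsRegularLocalRing (X.presheaf.stalk x))
    (hU : ∀ x : X, x ∉ U → (2 : WithBot ℕ∞) ≤ ringKrullDim (X.presheaf.stalk x)) [IsDomain Γ(X, V)] :
    ∃ a b : Γ(X, V), a ∈ outerIdeal U hV ∧ b ∈ outerIdeal U hV ∧ a ≠ 0 ∧ b ≠ 0 ∧ TwoWith a b Γ(X, V) := by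
  haveI : IsNoetherianRing Γ(X, V) := IsLocallyNoetherian.component_noetherian ⟨V, hV⟩
  haveI := isIntegrallyClosed_chart hreg hV
  refine exists_pair_normal _ fun p hp hle => ?_
  haveI := hp
  have h := hU _ (mem_of_outerIdeal_le hV hle)
  rw [← height_chart hV p] at h
  exact WithBot.coe_le_coe.1 h

include hV in
/-- A finite étale scheme over `U` has finite étale global sections over every integral affine chart. -/
theorem finite_etale_chart [IsLocallyNoetherian X] (hreg : ∀ x : X, IsRegularLocalRing (X.presheaf.stalk x))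
    (hU : ∀ x : X, x ∉ U → (2 : WithBot ℕ∞) ≤ ringKrullDim (X.presheaf.stalk x)) (h : Y ⟶ U.toScheme)
    [IsFinite h] [Etale h] [QuasiCompact (h ≫ U.ι)] [QuasiSeparated (h ≫ U.ι)] [IsDomain Γ(X, V)] :
    ((h ≫ U.ι).app V).hom.Finite ∧ ((h ≫ U.ι).app V).hom.Etale := by
  classical
  set g := h ≫ U.ι
  set W := g ⁻¹ᵁ V
  letI : Algebra Γ(X, V) Γ(Y, W) := (g.app V).hom.toAlgebra
  haveI : IsNoetherianRing Γ(X, V) := IsLocallyNoetherian.component_noetherian ⟨V, hV⟩
  obtain ⟨a, b, haI, hbI, ha, hb, hA⟩ := exists_pair_chart hV hreg hU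
  have hW : g.appLE V W le_rfl = g.app V := g.app_eq_appLE.symm
  have hC : TwoWith a b Γ(Y, W) := by
    have := two_sections g hV hA ha (W := W) le_rfl
    rw [hW] at this
    exact this
  have htf : ∀ (r : Γ(X, V)) (c : Γ(Y, W)), r ≠ 0 → r • c = 0 → c = 0 := fun r c hr hc => by
    rw [Algebra.smul_def] at hc
    exact eq_zero_of_mul g hV hr (W := W) le_rfl (by rw [hW]; exact hc)
  have haff : ∀ f ∈ outerIdeal U hV, IsAffineOpen (Y.basicOpen (g.app V f)) := fun f hf => by
    rw [show Y.basicOpen (g.app V f) = h ⁻¹ᵁ U.ι ⁻¹ᵁ X.basicOpen f from (Scheme.preimage_basicOpen g f).symm]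
    exact ((hV.basicOpen f).preimage_of_isOpenImmersion U.ι (by
      rw [Scheme.Opens.opensRange_ι]; exact basicOpen_le_of_mem_outerIdeal hV hf)).preimage h
  have hWc : IsCompact (W : Set Y) := g.isCompact_preimage hV.isCompact
  have hWs : IsQuasiSeparated (W : Set Y) := g.isQuasiSeparated_preimage hV.isQuasiSeparated
  have hloc : ∀ f : Γ(X, V), IsLocalization.Away (algebraMap Γ(X, V) Γ(Y, W) f)
      Γ(Y, Y.basicOpen (g.app V f)) := fun f => isLocalization_basicOpen_of_qcqs hWc hWs _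
  have het : ∀ f ∈ outerIdeal U hV,
      Algebra.Etale Γ(X, V) (Localization.Away (algebraMap Γ(X, V) Γ(Y, W) f)) := fun f hf => by
    haveI := hloc f
    letI : Algebra Γ(X, V) Γ(Y, Y.basicOpen (g.app V f)) :=
      (g.appLE V _ (Y.basicOpen_le _)).hom.toAlgebra
    haveI : IsScalarTower Γ(X, V) Γ(Y, W) Γ(Y, Y.basicOpen (g.app V f)) := .of_algebraMap_eq fun r => by
      show g.appLE V _ (Y.basicOpen_le _) r = Y.presheaf.map _ (g.app V r)
      rw [← hW, res_appLE]
    haveI : Algebra.Etale Γ(X, V) Γ(Y, Y.basicOpen (g.app V f)) := g.etale_appLE hV (haff f hf) (Y.basicOpen_le _)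
    exact Algebra.Etale.of_equiv ((IsLocalization.algEquiv (Submonoid.powers (algebraMap Γ(X, V) Γ(Y, W) f))
      Γ(Y, Y.basicOpen (g.app V f)) (Localization.Away (algebraMap Γ(X, V) Γ(Y, W) f))).restrictScalars Γ(X, V))
  have hgen : ∀ f ∈ outerIdeal U hV, ∃ G : Finset Γ(Y, W), ∀ c : Γ(Y, W), ∃ k : ℕ,
      f ^ k • c ∈ Submodule.span Γ(X, V) (G : Set Γ(Y, W)) := by
    intro f hf
    haveI := hV.isLocalization_basicOpen f
    haveI := hloc f
    set D := X.basicOpen f
    have hle : D ≤ U.ι.opensRange := by rw [Scheme.Opens.opensRange_ι]; exact basicOpen_le_of_mem_outerIdeal hV hf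
    have hfin : (g.app D).hom.Finite := by
      haveI : IsIso (U.ι.app D) := Scheme.Hom.isIso_app U.ι D hle
      show ((h.app (U.ι ⁻¹ᵁ D)).hom.comp (U.ι.app D).hom).Finite
      exact (h.finite_app _ ((hV.basicOpen f).preimage_of_isOpenImmersion U.ι hle)).comp
        (RingHom.Finite.of_surjective _ (ConcreteCategory.bijective_of_isIso (U.ι.app D)).2)
    have heq : g ⁻¹ᵁ D = Y.basicOpen (g.app V f) := Scheme.preimage_basicOpen g f
    set O := Y.basicOpen (g.app V f)
    let ψ : Γ(X, D) →+* Γ(Y, O) := (g.appLE D O heq.ge).hom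
    have hψ : ψ.Finite := by
      show (g.appLE D O heq.ge).hom.Finite
      rw [show g.appLE D O heq.ge = g.app D ≫ Y.presheaf.map (eqToHom heq.symm).op from rfl, CommRingCat.hom_comp]
      exact (RingHom.Finite.of_surjective _
        (ConcreteCategory.bijective_of_isIso (Y.presheaf.map (eqToHom heq.symm).op)).2).comp hfin
    letI := ψ.toAlgebra
    haveI : Module.Finite Γ(X, D) Γ(Y, O) := hψ
    obtain ⟨γ, hγ⟩ := Module.Finite.fg_top (R := Γ(X, D)) (M := Γ(Y, O))
    have hsurj : ∀ z : Γ(Y, O), ∃ (k : ℕ) (c : Γ(Y, W)),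
        algebraMap Γ(Y, W) Γ(Y, O) (g.app V f) ^ k * z = algebraMap Γ(Y, W) Γ(Y, O) c := fun z => by
      obtain ⟨⟨c, ⟨_, k, rfl⟩⟩, hk⟩ :=
        IsLocalization.surj (Submonoid.powers (algebraMap Γ(X, V) Γ(Y, W) f)) z
      exact ⟨k, c, by rw [mul_comm, ← map_pow]; exact hk⟩
    choose k c hc using hsurj
    have hcompat : ∀ r : Γ(X, V), ψ (algebraMap Γ(X, V) Γ(X, D) r) = algebraMap Γ(Y, W) Γ(Y, O) (g.app V r) := by
      intro r
      show g.appLE D O heq.ge (X.presheaf.map (homOfLE (X.basicOpen_le f)).op r) =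
        Y.presheaf.map (homOfLE (Y.basicOpen_le _)).op (g.app V r)
      rw [show g.app V r = g.appLE V W le_rfl r from (ConcreteCategory.congr_hom hW r).symm, res_appLE]
      exact ConcreteCategory.congr_hom (g.map_appLE heq.ge (homOfLE (X.basicOpen_le f)).op) r
    refine ⟨γ.image c, fun z => ?_⟩
    set N : Submodule Γ(X, V) Γ(Y, W) := Submodule.span Γ(X, V) ((γ.image c : Finset _) : Set Γ(Y, W))
    have key : ∀ w ∈ Submodule.span Γ(X, D) (γ : Set Γ(Y, O)), ∃ (K : ℕ) (c' : Γ(Y, W)), c' ∈ N ∧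
        algebraMap Γ(Y, W) Γ(Y, O) (g.app V f) ^ K * w = algebraMap Γ(Y, W) Γ(Y, O) c' := by
      intro w hw
      induction hw using Submodule.span_induction with
      | mem w hw => exact ⟨k w, c w, Submodule.subset_span (Finset.mem_image_of_mem c hw), hc w⟩
      | zero => exact ⟨0, 0, zero_mem _, by simp⟩
      | add w w' _ _ hw hw' =>
        obtain ⟨K, c₁, h₁, e₁⟩ := hw
        obtain ⟨K', c₂, h₂, e₂⟩ := hw'
        refine ⟨K + K', f ^ K' • c₁ + f ^ K • c₂, add_mem (N.smul_mem _ h₁) (N.smul_mem _ h₂), ?_⟩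
        rw [Algebra.smul_def, Algebra.smul_def, map_add, map_mul, map_mul, map_pow, map_pow, map_pow, map_pow,
          ← e₁, ← e₂, RingHom.algebraMap_toAlgebra (g.app V).hom]
        ring
      | smul r w _ hw =>
        obtain ⟨K, c₁, h₁, e₁⟩ := hw
        obtain ⟨⟨r₀, ⟨_, m, rfl⟩⟩, hr⟩ := IsLocalization.surj (Submonoid.powers f) r
        refine ⟨K + m, r₀ • c₁, N.smul_mem _ h₁, ?_⟩
        have e := congrArg ψ hr
        simp only [map_mul, map_pow] at e
        rw [hcompat, hcompat] at e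
        rw [Algebra.smul_def r₀, map_mul, ← e₁, Algebra.smul_def r, RingHom.algebraMap_toAlgebra (g.app V).hom]
        show _ * (ψ r * w) = _
        rw [← e]
        ring
    obtain ⟨K, c', hc', e⟩ := key (algebraMap Γ(Y, W) Γ(Y, O) z) (hγ ▸ Submodule.mem_top)
    rw [← map_pow, ← map_mul] at e
    obtain ⟨⟨_, L, rfl⟩, hL⟩ := (IsLocalization.eq_iff_exists (Submonoid.powers (g.app V f)) _).1 e
    refine ⟨L + K, ?_⟩
    have : f ^ (L + K) • z = f ^ L • c' := by
      rw [Algebra.smul_def, Algebra.smul_def, map_pow, map_pow, RingHom.algebraMap_toAlgebra (g.app V).hom, pow_add,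
        mul_assoc]
      exact hL
    exact this ▸ N.smul_mem _ hc'
  obtain ⟨Ga, hGa⟩ := hgen a haI
  obtain ⟨Gb, hGb⟩ := hgen b hbI
  haveI : Module.Finite Γ(X, V) Γ(Y, W) := finite_of_two hA ha hb htf Ga Gb hGa hGb
  refine ⟨‹_›, etale_of_away (fun p _ => isRegularLocalRing_chart hreg hV p) _ (fun p hp hle => ?_) haI hbI hA hC het⟩
  haveI := hp
  have h' := hU _ (mem_of_outerIdeal_le hV hle)
  rw [← height_chart hV p] at h'
  exact WithBot.coe_le_coe.1 h'

end Groth.Agent.Purity
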