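import Groth.Prelude.Def_FEt
import Groth.Agent.EtaleSections.Basic
import Groth.Agent.LocNoethTop.Basic
import Mathlib.AlgebraicGeometry.Morphisms.FlatRank
import Mathlib.AlgebraicGeometry.Noetherian

/-!
# Full faithfulness from bijections on connected components
-/

set_option autoImplicit false
set_option backward.isDefEq.respectTransparency false

universe u

open AlgebraicGeometry CategoryTheory TopologicalSpace Limits

namespace Groth.Agent.Purity

/-- Clopen subsets correspond along a map inducing a bijection on connected components. -/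
theorem existsUnique_clopen {A B : Type u} [TopologicalSpace A] [TopologicalSpace B] [LocallyConnectedSpace B]
    {f : A → B} (hf : Continuous f) (hb : Function.Bijective hf.connectedComponentsMap) {C : Set A}
    (hC : IsClopen C) : ∃! W : Set B, IsClopen W ∧ f ⁻¹' W = C := by
  haveI : DiscreteTopology (ConnectedComponents B) :=
    ConnectedComponents.discreteTopology_iff.2 fun _ => isOpen_connectedComponent
  refine ⟨ConnectedComponents.mk ⁻¹' (hf.connectedComponentsMap '' (ConnectedComponents.mk '' C)),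
    ⟨(isClopen_discrete _).preimage ConnectedComponents.continuous_coe, ?_⟩, fun W ⟨hW, hWC⟩ => ?_⟩
  · ext a
    show hf.connectedComponentsMap (ConnectedComponents.mk a) ∈
      hf.connectedComponentsMap '' (ConnectedComponents.mk '' C) ↔ a ∈ C
    rw [hb.1.mem_set_image]
    change a ∈ ConnectedComponents.mk ⁻¹' (ConnectedComponents.mk '' C) ↔ _
    rw [connectedComponents_preimage_image, hC.biUnion_connectedComponent_eq]
  · ext b
    obtain ⟨c, hc⟩ := hb.2 (ConnectedComponents.mk b)
    obtain ⟨a, rfl⟩ := ConnectedComponents.surjective_coe c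
    rw [Continuous.connectedComponentsMap_mk] at hc
    have hsat : b ∈ W ↔ f a ∈ W := by
      have e := ConnectedComponents.coe_eq_coe.1 hc
      exact ⟨fun h => hW.connectedComponent_subset h (e ▸ mem_connectedComponent),
        fun h => hW.connectedComponent_subset h (e.symm ▸ mem_connectedComponent)⟩
    rw [hsat, ← Set.mem_preimage (f := f) (s := W), hWC, Set.mem_preimage, ← hc]
    change _ ↔ hf.connectedComponentsMap (ConnectedComponents.mk a) ∈
      hf.connectedComponentsMap '' (ConnectedComponents.mk '' C)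
    rw [hb.1.mem_set_image]
    change _ ↔ a ∈ ConnectedComponents.mk ⁻¹' (ConnectedComponents.mk '' C)
    rw [connectedComponents_preimage_image, hC.biUnion_connectedComponent_eq]

/-- A morphism into a finite étale cover extends uniquely along a morphism respecting clopen subsets
of finite étale covers. -/
theorem existsUnique_of_clopen {X T E₁ E₂ : Scheme.{u}} (i : T ⟶ X) (π₁ : E₁ ⟶ X) (π₂ : E₂ ⟶ X)
    [IsFinite π₁] [Etale π₁] [IsFinite π₂] [Etale π₂]
    (hclo : ∀ (Z : Scheme.{u}) (π : Z ⟶ X), IsFinite π → Etale π → ∀ C : Set ↥(pullback π i), IsClopen C →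
      ∃! W : Set Z, IsClopen W ∧ pullback.fst π i ⁻¹' W = C)
    (φ : pullback π₁ i ⟶ E₂) (hφ : φ ≫ π₂ = pullback.fst π₁ i ≫ π₁) :
    ∃! ψ : E₁ ⟶ E₂, ψ ≫ π₂ = π₁ ∧ pullback.fst π₁ i ≫ ψ = φ := by
  let Z := pullback π₁ π₂
  let p : Z ⟶ E₁ := pullback.fst π₁ π₂
  let πZ : Z ⟶ X := p ≫ π₁
  haveI : IsFinite p := MorphismProperty.pullback_fst (P := @IsFinite) _ _ inferInstance
  haveI : Etale p := MorphismProperty.pullback_fst (P := @Etale) _ _ inferInstance
  haveI : IsFinite πZ := MorphismProperty.comp_mem _ _ _ ‹IsFinite p› ‹IsFinite π₁›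
  haveI : Etale πZ := MorphismProperty.comp_mem _ _ _ ‹Etale p› ‹Etale π₁›
  let q := pullback.fst πZ i
  let r : pullback πZ i ⟶ pullback π₁ i :=
    pullback.lift (q ≫ p) (pullback.snd πZ i) (by rw [Category.assoc]; exact pullback.condition)
  have hB : IsPullback r q (pullback.fst π₁ i) p := by
    refine IsPullback.of_right ?_ (pullback.lift_fst _ _ _) (IsPullback.of_hasPullback π₁ i).flip
    rw [show r ≫ pullback.snd π₁ i = pullback.snd πZ i from pullback.lift_snd _ _ _]
    exact (IsPullback.of_hasPullback πZ i).flip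
  haveI : IsFinite r := MorphismProperty.of_isPullback (P := @IsFinite) hB.flip ‹_›
  haveI : Etale r := MorphismProperty.of_isPullback (P := @Etale) hB.flip ‹_›
  let g : pullback π₁ i ⟶ Z := pullback.lift (pullback.fst π₁ i) φ hφ.symm
  have hgp : g ≫ p = pullback.fst π₁ i := pullback.lift_fst _ _ _
  let s : pullback π₁ i ⟶ pullback πZ i :=
    pullback.lift g (pullback.snd π₁ i) (by rw [← Category.assoc, hgp]; exact pullback.condition)
  have hsq : s ≫ q = g := pullback.lift_fst _ _ _
  have hsr : s ≫ r = 𝟙 _ := by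
    apply pullback.hom_ext
    · rw [Category.assoc, pullback.lift_fst, ← Category.assoc, hsq, hgp, Category.id_comp]
    · rw [Category.assoc, pullback.lift_snd, pullback.lift_snd, Category.id_comp]
  haveI : IsOpenImmersion s := EtaleSections.isOpenImmersion_section r s hsr
  haveI : IsClosedImmersion s := by
    haveI : IsClosedImmersion (s ≫ r) := by rw [hsr]; infer_instance
    exact IsClosedImmersion.of_comp s r
  have hC : IsClopen (Set.range s) := ⟨s.isClosedEmbedding.isClosed_range, s.isOpenEmbedding.isOpen_range⟩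
  obtain ⟨W, ⟨hW, hWs⟩, huniq⟩ := hclo Z πZ inferInstance inferInstance _ hC
  let O : Z.Opens := ⟨W, hW.2⟩
  let h : O.toScheme ⟶ E₁ := O.ι ≫ p
  haveI : IsClosedImmersion O.ι :=
    IsClosedImmersion.of_isPreimmersion O.ι (by rw [Scheme.Opens.range_ι]; exact hW.1)
  haveI : IsFinite h := MorphismProperty.comp_mem _ _ _ (inferInstance : IsFinite O.ι) ‹IsFinite p›
  haveI : Etale h := MorphismProperty.comp_mem _ _ _ (inferInstance : Etale O.ι) ‹Etale p›
  have hgW : Set.range g ⊆ Set.range O.ι := by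
    rw [Scheme.Opens.range_ι]
    rintro _ ⟨x, rfl⟩
    rw [← hsq]
    exact hWs.ge ⟨x, rfl⟩
  let g' := IsOpenImmersion.lift O.ι g hgW
  have hg' : g' ≫ O.ι = g := IsOpenImmersion.lift_fac _ _ _
  have hA : IsPullback g' s O.ι q := IsOpenImmersion.isPullback g' s O.ι q (hsq.trans hg'.symm) (by
    ext x
    simp only [Scheme.Hom.coe_preimage, Scheme.Hom.coe_opensRange, Scheme.Opens.range_ι]
    exact Set.ext_iff.1 hWs x)
  have hP : IsPullback g' (𝟙 _) h (pullback.fst π₁ i) := by
    have := hA.paste_vert hB.flip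
    rwa [hsr] at this
  have hrk : ∀ x, Scheme.Hom.finrank h (pullback.fst π₁ i x) = 1 := fun x => by
    rw [← Scheme.Hom.finrank_of_isPullback g' (𝟙 _) h (pullback.fst π₁ i) hP,
      Scheme.Hom.finrank_eq_one_of_isIso]
    rfl
  have hone : Scheme.Hom.finrank h = 1 := by
    funext y
    have hcl : IsClopen (Scheme.Hom.finrank h ⁻¹' {1}) :=
      (isClopen_discrete _).preimage (Scheme.Hom.isLocallyConstant_finrank h).continuous
    have := (hclo E₁ π₁ inferInstance inferInstance _ isClopen_univ).unique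
      ⟨hcl, Set.eq_univ_of_forall hrk⟩ ⟨isClopen_univ, Set.preimage_univ⟩
    exact this.symm.le (Set.mem_univ y)
  haveI : IsIso h := (Scheme.Hom.isIso_iff_finrank_eq h).2 hone
  have hcond : inv h ≫ O.ι ≫ pullback.snd π₁ π₂ ≫ π₂ = π₁ := by
    rw [← pullback.condition, ← Category.assoc O.ι, IsIso.inv_hom_id_assoc]
  refine ⟨inv h ≫ O.ι ≫ pullback.snd π₁ π₂, ⟨by simpa only [Category.assoc] using hcond, ?_⟩, ?_⟩
  · have e : pullback.fst π₁ i ≫ inv h = g' := by
      rw [IsIso.comp_inv_eq, show g' ≫ h = g ≫ p from by rw [← Category.assoc, hg']]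
      exact hgp.symm
    rw [← Category.assoc, e, ← Category.assoc, hg']
    exact pullback.lift_snd _ _ _
  rintro ψ ⟨hψ₁, hψ₂⟩
  let γ : E₁ ⟶ Z := pullback.lift (𝟙 E₁) ψ (by rw [Category.id_comp, hψ₁])
  have hγp : γ ≫ p = 𝟙 E₁ := pullback.lift_fst _ _ _
  haveI : IsOpenImmersion γ := EtaleSections.isOpenImmersion_section p γ hγp
  haveI : IsClosedImmersion γ := by
    haveI : IsClosedImmersion (γ ≫ p) := by rw [hγp]; infer_instance
    exact IsClosedImmersion.of_comp γ p
  have hsqγ : IsPullback (pullback.fst π₁ i) s γ q := by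
    refine IsPullback.of_bot ?_ ?_ hB.flip
    · rw [hsr, hγp]
      exact IsPullback.of_vert_isIso ⟨by rw [Category.id_comp, Category.comp_id]⟩
    · rw [hsq]
      refine pullback.hom_ext ?_ ?_
      · rw [Category.assoc, show γ ≫ pullback.fst π₁ π₂ = 𝟙 E₁ from hγp, Category.comp_id]
        exact hgp.symm
      · rw [Category.assoc, pullback.lift_snd, hψ₂]
        exact (pullback.lift_snd _ _ _).symm
  have hWγ : Set.range γ = W := huniq _ ⟨⟨γ.isClosedEmbedding.isClosed_range, γ.isOpenEmbedding.isOpen_range⟩, by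
    rw [← Scheme.Pullback.range_fst, ← hsqγ.flip.isoPullback_hom_fst]
    ext x
    constructor
    · rintro ⟨y, rfl⟩
      obtain ⟨z, rfl⟩ := hsqγ.flip.isoPullback.hom.homeomorph.surjective y
      exact ⟨z, rfl⟩
    · rintro ⟨y, rfl⟩
      exact ⟨hsqγ.flip.isoPullback.hom y, rfl⟩⟩
  have hγO : Set.range γ ⊆ Set.range O.ι := by rw [Scheme.Opens.range_ι]; exact hWγ.le
  have e : IsOpenImmersion.lift O.ι γ hγO = inv h := by
    apply IsIso.eq_inv_of_inv_hom_id
    rw [← Category.assoc, IsOpenImmersion.lift_fac, hγp]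
  rw [← e, IsOpenImmersion.lift_fac_assoc, pullback.lift_snd]

/-- Restriction of finite étale covers is fully faithful along a morphism respecting clopen subsets of
all finite étale covers. -/
theorem restrict_full_faithful_of_clopen {X T : Scheme.{u}} (i : T ⟶ X)
    (hclo : ∀ (Z : Scheme.{u}) (π : Z ⟶ X), IsFinite π → Etale π → ∀ C : Set ↥(pullback π i), IsClopen C →
      ∃! W : Set Z, IsClopen W ∧ pullback.fst π i ⁻¹' W = C) :
    (FEt.restrict i).Full ∧ (FEt.restrict i).Faithful := by
  have key : ∀ (E₁ E₂ : FEt.Cat X) (φ : (FEt.restrict i).obj E₁ ⟶ (FEt.restrict i).obj E₂),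
      ∃! ψ : E₁.left ⟶ E₂.left, ψ ≫ E₂.hom = E₁.hom ∧
        pullback.fst E₁.hom i ≫ ψ = φ.left ≫ pullback.fst E₂.hom i := fun E₁ E₂ φ => by
    haveI : IsFinite E₁.hom := E₁.prop.1
    haveI : Etale E₁.hom := E₁.prop.2
    haveI : IsFinite E₂.hom := E₂.prop.1
    haveI : Etale E₂.hom := E₂.prop.2
    refine existsUnique_of_clopen i E₁.hom E₂.hom hclo _ ?_
    have hw : φ.left ≫ pullback.snd E₂.hom i = pullback.snd E₁.hom i := MorphismProperty.Over.w φ
    rw [Category.assoc, pullback.condition]
    refine Eq.trans ?_ pullback.condition.symm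
    rw [← hw, Category.assoc]
  have hmap : ∀ (E₁ E₂ : FEt.Cat X) (ψ : E₁ ⟶ E₂),
      ((FEt.restrict i).map ψ).left ≫ pullback.fst E₂.hom i = pullback.fst E₁.hom i ≫ ψ.left :=
    fun E₁ E₂ ψ => pullback.lift_fst _ _ _
  refine ⟨⟨fun {E₁ E₂} φ => ?_⟩, ⟨fun {E₁ E₂} {ψ₁ ψ₂} h => MorphismProperty.Over.Hom.ext
    ((key E₁ E₂ _).unique ⟨MorphismProperty.Over.w ψ₁, (hmap _ _ ψ₁).symm⟩
      ⟨MorphismProperty.Over.w ψ₂, (hmap _ _ ψ₂).symm.trans (by rw [h])⟩)⟩⟩
  obtain ⟨ψ, ⟨h₁, h₂⟩, -⟩ := key E₁ E₂ φ
  refine ⟨MorphismProperty.Over.homMk ψ h₁, MorphismProperty.Over.Hom.ext (pullback.hom_ext ?_ ?_)⟩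
  · exact (hmap _ _ _).trans h₂
  · exact (MorphismProperty.Over.w ((FEt.restrict i).map (MorphismProperty.Over.homMk ψ h₁))).trans
      (MorphismProperty.Over.w φ).symm

/-- Restriction of finite étale covers is fully faithful along a morphism inducing bijections on connected
components of all finite étale covers. -/
theorem restrict_full_faithful_of_pi0 {X T : Scheme.{u}} (i : T ⟶ X)
    (hloc : ∀ (Z : Scheme.{u}) (π : Z ⟶ X), IsFinite π → Etale π → LocallyConnectedSpace Z)
    (hb : ∀ (Z : Scheme.{u}) (π : Z ⟶ X), IsFinite π → Etale π →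
      Function.Bijective (pullback.fst π i).continuous.connectedComponentsMap) :
    (FEt.restrict i).Full ∧ (FEt.restrict i).Faithful :=
  restrict_full_faithful_of_clopen i fun Z π hf he _ hC =>
    haveI := hloc Z π hf he
    existsUnique_clopen (pullback.fst π i).continuous (hb Z π hf he) hC

end Groth.Agent.Purity
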