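import Groth.Prelude.Def_FEt
import Groth.Agent.Purity.CompFF
import Groth.Agent.Hensel.StrictMaps
import Groth.Agent.Hensel.HenselizationProps
import Groth.Agent.GrpField.FlatPoint
import Groth.Agent.FpqcDescent.Immersion

/-!
# Clopen subsets of finite étale covers extend across points with connected punctured strict henselization
-/

set_option autoImplicit false
set_option backward.isDefEq.respectTransparency false

universe u

open AlgebraicGeometry CategoryTheory TopologicalSpace Limits

namespace Groth.Agent.Purity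

/-- A maximal point of a nonempty closed subset of a sober space. -/
theorem exists_maximal_of_isClosed {α : Type*} [TopologicalSpace α] [QuasiSober α] [T0Space α] {B : Set α}
    (hB : IsClosed B) (hne : B.Nonempty) : ∃ z ∈ B, ∀ w ∈ B, w ⤳ z → w = z := by
  haveI : QuasiSober B := hB.isClosedEmbedding_subtypeVal.quasiSober
  obtain ⟨b, hb⟩ := hne
  let T : Set B := irreducibleComponent ⟨b, hb⟩
  have hT : IsIrreducible T := isIrreducible_irreducibleComponent
  have hz := hT.isGenericPoint_genericPoint isClosed_irreducibleComponent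
  refine ⟨hT.genericPoint, hT.genericPoint.2, fun w hw hwz => ?_⟩
  have hwz' : (⟨w, hw⟩ : B) ⤳ hT.genericPoint := (subtype_specializes_iff _ _).2 hwz
  have hsub : T ⊆ closure {(⟨w, hw⟩ : B)} := fun y hy =>
    specializes_iff_mem_closure.1 (hwz'.trans (hz.specializes hy))
  have hwT : (⟨w, hw⟩ : B) ∈ T :=
    (irreducibleComponent_mem_irreducibleComponents (⟨b, hb⟩ : B)).2 isIrreducible_singleton.closure hsub
      (subset_closure rfl)
  exact (hwz.antisymm ((subtype_specializes_iff _ _).1 (hz.specializes hwT))).eq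

/-- A prime of an étale algebra over the closed point of a strictly henselian ring comes from a retraction. -/
theorem exists_retraction (R : Type u) [CommRing R] [HenselianLocalRing R] [IsSepClosed (IsLocalRing.ResidueField R)]
    (E : Type u) [CommRing E] [Algebra R E] [Algebra.Etale R E] (q : Ideal E) [q.IsPrime]
    (hq : q.comap (algebraMap R E) = IsLocalRing.maximalIdeal R) :
    ∃ τ : E →ₐ[R] R, (IsLocalRing.maximalIdeal R).comap τ = q := by
  haveI : Algebra.Unramified R E := ⟨inferInstance, inferInstance⟩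
  have hker : ∀ r ∈ IsLocalRing.maximalIdeal R, algebraMap R q.ResidueField r = 0 := fun r hr => by
    rw [IsScalarTower.algebraMap_apply R E q.ResidueField, Ideal.algebraMap_residueField_eq_zero]
    exact hq.ge hr
  letI : Algebra (IsLocalRing.ResidueField R) q.ResidueField :=
    (Ideal.Quotient.lift _ (algebraMap R q.ResidueField) hker).toAlgebra
  haveI : IsScalarTower R (IsLocalRing.ResidueField R) q.ResidueField := .of_algebraMap_eq fun _ => rfl
  obtain ⟨σ, hσ⟩ := Hensel.exists_algHom_residue R E q.ResidueField (IsScalarTower.toAlgHom R E q.ResidueField)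
  obtain ⟨τ, hτ, -⟩ := Hensel.existsUnique_algHom_lift (I := IsLocalRing.maximalIdeal R)
    (σ : E →ₐ[R] R ⧸ IsLocalRing.maximalIdeal R)
  refine ⟨τ, Ideal.ext fun x => ?_⟩
  rw [Ideal.mem_comap, ← Ideal.Quotient.eq_zero_iff_mem, hτ x, ← Ideal.algebraMap_residueField_eq_zero]
  change σ x = 0 ↔ IsScalarTower.toAlgHom R E q.ResidueField x = 0
  rw [← hσ x]
  exact (map_eq_zero (algebraMap (IsLocalRing.ResidueField R) q.ResidueField)).symm

/-- Finite étale covers split through every point over a strictly henselian local scheme. -/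
theorem exists_lift_section (R : Type u) [CommRing R] [HenselianLocalRing R] [IsSepClosed (IsLocalRing.ResidueField R)]
    {X Z : Scheme.{u}} (π : Z ⟶ X) [IsFinite π] [Etale π] (a : Spec (CommRingCat.of R) ⟶ X) [Flat a] (z : Z)
    (hz : π z = a (IsLocalRing.closedPoint R)) :
    ∃ s : Spec (CommRingCat.of R) ⟶ Z, s ≫ π = a ∧ s (IsLocalRing.closedPoint R) = z ∧ Flat s := by
  let W := pullback π a
  haveI : IsAffine W := isAffine_of_isAffineHom (pullback.snd π a)
  obtain ⟨t, ht₁, ht₂⟩ := Scheme.Pullback.exists_preimage_pullback (f := π) (g := a) z _ hz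
  obtain ⟨φ, hφ⟩ := Spec.map_surjective (W.isoSpec.inv ≫ pullback.snd π a)
  haveI : Etale (pullback.snd π a) := MorphismProperty.pullback_snd (P := @Etale) _ _ ‹_›
  have hE : Etale (Spec.map φ) := by rw [hφ]; infer_instance
  algebraize [φ.hom]
  haveI : Algebra.Etale R Γ(W, ⊤) := (HasRingHomProperty.Spec_iff (P := @AlgebraicGeometry.Etale)).mp hE
  let t' : PrimeSpectrum Γ(W, ⊤) := W.isoSpec.hom t
  have hq : t'.asIdeal.comap (algebraMap R Γ(W, ⊤)) = IsLocalRing.maximalIdeal R := by
    have : Spec.map φ (W.isoSpec.hom t) = IsLocalRing.closedPoint R := by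
      rw [hφ, ← Scheme.Hom.comp_apply, Iso.hom_inv_id_assoc, ht₂]
    exact congrArg PrimeSpectrum.asIdeal this
  obtain ⟨τ, hτ⟩ := exists_retraction R Γ(W, ⊤) t'.asIdeal hq
  let s₀ : Spec (CommRingCat.of R) ⟶ W := Spec.map (CommRingCat.ofHom τ.toRingHom) ≫ W.isoSpec.inv
  have hs₀ : s₀ ≫ pullback.snd π a = 𝟙 _ := by
    rw [Category.assoc, ← hφ, ← Spec.map_comp, ← Spec.map_id]
    congr 1
    ext r
    exact τ.commutes r
  have hs₀t : s₀ (IsLocalRing.closedPoint R) = t := by
    have h1 : Spec.map (CommRingCat.ofHom τ.toRingHom) (IsLocalRing.closedPoint R) = W.isoSpec.hom t :=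
      PrimeSpectrum.ext hτ
    rw [Scheme.Hom.comp_apply, h1]
    exact congrArg (fun k => k t) W.isoSpec.hom_inv_id
  refine ⟨s₀ ≫ pullback.fst π a, ?_, ?_, ?_⟩
  · rw [Category.assoc, pullback.condition, ← Category.assoc, hs₀, Category.id_comp]
  · rw [Scheme.Hom.comp_apply, hs₀t, ht₁]
  · haveI := EtaleSections.isOpenImmersion_section (pullback.snd π a) s₀ hs₀
    haveI : Flat (pullback.fst π a) := MorphismProperty.pullback_fst (P := @Flat) _ _ ‹_›
    infer_instance

/-- A maximal common point of both closures cannot lie over a point with connected punctured strict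
henselization. -/
theorem not_both_closures {X Z : Scheme.{u}} (U : X.Opens) (π : Z ⟶ X) [IsFinite π] [Etale π]
    (hgen : ∀ C : Set ↥(pullback π U.ι), IsClopen C → ∀ z ∈ closure (pullback.fst π U.ι '' C),
      ∃ c ∈ C, pullback.fst π U.ι c ⤳ z)
    (hrange : Set.range (pullback.fst π U.ι) = π ⁻¹' (U : Set X))
    {C : Set ↥(pullback π U.ι)} (hC : IsClopen C)
    (hcov : closure (pullback.fst π U.ι '' C) ∪ closure (pullback.fst π U.ι '' Cᶜ) = Set.univ)
    {z : Z} (hz : z ∈ closure (pullback.fst π U.ι '' C)) (hz' : z ∈ closure (pullback.fst π U.ι '' Cᶜ))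
    (hmax : ∀ w ∈ closure (pullback.fst π U.ι '' C) ∩ closure (pullback.fst π U.ι '' Cᶜ), w ⤳ z → w = z)
    (hx : π z ∉ U) (R : Type u) [CommRing R] [IsLocalRing R] [Algebra (X.presheaf.stalk (π z)) R]
    [IsLocalHom (algebraMap (X.presheaf.stalk (π z)) R)]
    [hR : _root_.Hensel.IsStrictHenselization (X.presheaf.stalk (π z)) R]
    [ConnectedSpace (FEt.puncturedSpec R : Scheme.{u})] : False := by
  let O : Set Z := pullback.fst π U.ι '' C
  let O' : Set Z := pullback.fst π U.ι '' Cᶜ
  haveI : HenselianLocalRing R := hR.henselian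
  haveI : IsSepClosed (IsLocalRing.ResidueField R) := hR.isSepClosure.sep_closed
  let b : Spec (CommRingCat.of R) ⟶ Spec (X.presheaf.stalk (π z)) :=
    Spec.map (CommRingCat.ofHom (algebraMap (X.presheaf.stalk (π z)) R))
  haveI : Flat b := by
    rw [Flat.SpecMap_iff]
    exact RingHom.flat_algebraMap_iff.2 (Hensel.strictHenselization_flat _ R)
  haveI := GrpField.flat_fromSpecStalk (π z)
  have hbc : b (IsLocalRing.closedPoint R) = IsLocalRing.closedPoint (X.presheaf.stalk (π z)) :=
    IsLocalRing.comap_closedPoint (algebraMap (X.presheaf.stalk (π z)) R)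
  obtain ⟨s, hs, hsz, hsf⟩ := exists_lift_section R π (b ≫ X.fromSpecStalk (π z)) z (by
    rw [Scheme.Hom.comp_apply, hbc, Scheme.fromSpecStalk_closedPoint])
  have hfib : ∀ p : Spec (CommRingCat.of R), s p = z → p = IsLocalRing.closedPoint R := by
    intro p hp
    have h1 : X.fromSpecStalk (π z) (b p) = X.fromSpecStalk (π z) (IsLocalRing.closedPoint _) := by
      rw [← Scheme.Hom.comp_apply, ← hs, Scheme.Hom.comp_apply, hp, Scheme.fromSpecStalk_closedPoint]
    have h2 := congrArg PrimeSpectrum.asIdeal ((X.fromSpecStalk (π z)).isEmbedding.injective h1)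
    change (p : PrimeSpectrum R).asIdeal.comap _ = IsLocalRing.maximalIdeal _ at h2
    refine PrimeSpectrum.ext (le_antisymm (IsLocalRing.le_maximalIdeal (p : PrimeSpectrum R).2.ne_top) ?_)
    refine (Hensel.strictHenselization_map_maximalIdeal (X.presheaf.stalk (π z)) R).ge.trans ?_
    rw [← h2]
    exact Ideal.map_comap_le
  have hne' : ∀ D : Set ↥(pullback π U.ι), IsClopen D → z ∈ closure (pullback.fst π U.ι '' D) →
      (((FEt.puncturedSpec R).ι ≫ s) ⁻¹' closure (pullback.fst π U.ι '' D)).Nonempty := by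
    intro D hD hzD
    obtain ⟨c, hc, hcz⟩ := hgen D hD z hzD
    obtain ⟨p, -, hp⟩ := AlgebraicGeometry.Flat.generalizingMap s (show pullback.fst π U.ι c ⤳ s (IsLocalRing.closedPoint R) by rwa [hsz])
    have hpc : p ≠ IsLocalRing.closedPoint R := by
      rintro rfl
      rw [hsz] at hp
      exact hx (show π z ∈ U from by rw [hp]; exact hrange.le ⟨c, rfl⟩)
    obtain ⟨p', rfl⟩ : p ∈ Set.range (FEt.puncturedSpec R).ι := by
      rw [Scheme.Opens.range_ι]; exact hpc
    refine ⟨p', ?_⟩
    show s ((FEt.puncturedSpec R).ι p') ∈ closure (pullback.fst π U.ι '' D)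
    rw [hp]
    exact subset_closure ⟨c, hc, rfl⟩
  obtain ⟨w, hw, hw'⟩ := (isPreconnected_closed_iff.1
    (PreconnectedSpace.isPreconnected_univ (α := (FEt.puncturedSpec R : Scheme.{u})))
    (((FEt.puncturedSpec R).ι ≫ s) ⁻¹' closure O) (((FEt.puncturedSpec R).ι ≫ s) ⁻¹' closure O')
    (isClosed_closure.preimage (Scheme.Hom.continuous _)) (isClosed_closure.preimage (Scheme.Hom.continuous _))
    (by rw [← Set.preimage_union, hcov, Set.preimage_univ])
    (by rw [Set.univ_inter]; exact hne' C hC hz) (by rw [Set.univ_inter]; exact hne' Cᶜ hC.compl hz')).imp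
    fun _ h => h.2
  have hp := hfib _ (hmax _ ⟨hw, hw'⟩ (by
    rw [← hsz]
    exact ((PrimeSpectrum.le_iff_specializes _ (IsLocalRing.closedPoint R)).1
      (IsLocalRing.le_maximalIdeal ((FEt.puncturedSpec R).ι w : PrimeSpectrum R).2.ne_top)).map s.continuous))
  exact w.2 hp

/-- Clopen subsets extend uniquely from the preimage of a dense open with connected punctured strict
henselizations at infinity, provided their closures consist of specializations. -/
theorem existsUnique_clopen_of_punctured {X Z : Scheme.{u}} (U : X.Opens) (hU : Dense (U : Set X))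
    (hsh : ∀ x : X, x ∉ U → ∀ (R : Type u) [CommRing R] [IsLocalRing R] [Algebra (X.presheaf.stalk x) R]
      [IsLocalHom (algebraMap (X.presheaf.stalk x) R)] [_root_.Hensel.IsStrictHenselization (X.presheaf.stalk x) R],
      ConnectedSpace (FEt.puncturedSpec R : Scheme.{u}))
    (π : Z ⟶ X) [IsFinite π] [Etale π]
    (hgen : ∀ C : Set ↥(pullback π U.ι), IsClopen C → ∀ z ∈ closure (pullback.fst π U.ι '' C),
      ∃ c ∈ C, pullback.fst π U.ι c ⤳ z)
    {C : Set ↥(pullback π U.ι)} (hC : IsClopen C) :
    ∃! W : Set Z, IsClopen W ∧ pullback.fst π U.ι ⁻¹' W = C := by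
  have hrange : Set.range (pullback.fst π U.ι) = π ⁻¹' (U : Set X) := by
    rw [Scheme.Pullback.range_fst, Scheme.Opens.range_ι]
  have hd : DenseRange (pullback.fst π U.ι) := by
    rw [DenseRange, hrange]
    exact hU.preimage π.isOpenMap
  let O : Set Z := pullback.fst π U.ι '' C
  let O' : Set Z := pullback.fst π U.ι '' Cᶜ
  have hemb := (pullback.fst π U.ι).isOpenEmbedding
  have hO : IsOpen O := hemb.isOpenMap _ hC.2
  have hO' : IsOpen O' := hemb.isOpenMap _ hC.compl.2
  have hcov : closure O ∪ closure O' = Set.univ := by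
    rw [← closure_union, ← Set.image_union, Set.union_compl_self, Set.image_univ, hd.closure_range]
  have hinU : ∀ z, z ∈ closure O → z ∈ closure O' → π z ∉ U := by
    intro z h h' hzU
    obtain ⟨p, rfl⟩ : z ∈ Set.range (pullback.fst π U.ι) := hrange.ge hzU
    have h1 : p ∈ C := by
      rw [← hC.1.closure_eq, hemb.isInducing.closure_eq_preimage_closure_image]; exact h
    have h2 : p ∈ Cᶜ := by
      rw [← hC.compl.1.closure_eq, hemb.isInducing.closure_eq_preimage_closure_image]; exact h'
    exact h2 h1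
  have hdisj : Disjoint (closure O) (closure O') := by
    rw [Set.disjoint_iff_inter_eq_empty, ← Set.not_nonempty_iff_eq_empty]
    intro hne
    obtain ⟨z, ⟨hz, hz'⟩, hmax⟩ := exists_maximal_of_isClosed (isClosed_closure.inter isClosed_closure) hne
    have hx := hinU z hz hz'
    obtain ⟨hloc, hR⟩ := Hensel.exists_strictHenselization (X.presheaf.stalk (π z))
    haveI := hR.henselian
    haveI := hsh (π z) hx (Hensel.Env (X.presheaf.stalk (π z)) (SeparableClosure (IsLocalRing.ResidueField (X.presheaf.stalk (π z)))))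
    exact not_both_closures U π hgen hrange hC hcov hz hz' hmax hx
      (Hensel.Env (X.presheaf.stalk (π z)) (SeparableClosure (IsLocalRing.ResidueField (X.presheaf.stalk (π z)))))
  have hcompl : (closure O)ᶜ = closure O' := Set.Subset.antisymm
    (fun z hz => (hcov.ge (Set.mem_univ z)).resolve_left hz) (fun z hz h => Set.disjoint_left.1 hdisj h hz)
  have hopen : IsOpen (closure O) := by
    rw [← isClosed_compl_iff, hcompl]
    exact isClosed_closure
  refine ⟨closure O, ⟨⟨isClosed_closure, hopen⟩, ?_⟩, fun W ⟨hW, hWC⟩ => ?_⟩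
  · rw [← hemb.isInducing.closure_eq_preimage_closure_image, hC.1.closure_eq]
  · have h1 : W ∩ Set.range (pullback.fst π U.ι) = O := by
      rw [← Set.image_preimage_eq_inter_range, hWC]
    refine Set.Subset.antisymm ?_ ?_
    · rw [← h1]
      exact (hd.open_subset_closure_inter hW.2)
    · exact closure_minimal (h1 ▸ Set.inter_subset_left) hW.1

end Groth.Agent.Purity
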