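import Mathlib
import Groth.Agent.SegreDim.Noether

/-!
# Height-one primes of large dimension
-/

set_option autoImplicit false

universe u

open IsLocalRing

namespace Groth.Agent.Purity

variable {R : Type u} [CommRing R]

theorem dim_quotient_eq_coheight (p : PrimeSpectrum R) :
    ringKrullDim (R ⧸ p.asIdeal) = (Order.coheight p : WithBot ℕ∞) := by
  rw [ringKrullDim_quotient, Order.coheight_eq_krullDim_Ici]
  have : PrimeSpectrum.zeroLocus (p.asIdeal : Set R) = Set.Ici p := by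
    ext q
    simp [PrimeSpectrum.mem_zeroLocus, ← PrimeSpectrum.asIdeal_le_asIdeal]
  rw [this]

theorem height_add_coheight_le (p : PrimeSpectrum R) :
    ((Order.height p + Order.coheight p : ℕ∞) : WithBot ℕ∞) ≤ ringKrullDim R := by
  haveI : Nonempty (PrimeSpectrum R) := ⟨p⟩
  rw [ringKrullDim, Order.krullDim_eq_iSup_height_add_coheight_of_nonempty]
  exact WithBot.coe_le_coe.2 (le_iSup (fun q => Order.height q + Order.coheight q) p)

theorem height_eq_one_of {p₀ p : PrimeSpectrum R} (hlt : p₀ < p) {d : ℕ} (hd : ringKrullDim R = d)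
    (h : (d : ℕ∞) ≤ Order.coheight p + 1) : Order.height p = 1 := by
  refine le_antisymm ?_ ((le_add_self).trans (Order.height_add_one_le hlt))
  have h1 := (height_add_coheight_le p).trans hd.le
  rw [show ((d : WithBot ℕ∞)) = ((d : ℕ∞) : WithBot ℕ∞) from rfl, WithBot.coe_le_coe] at h1
  have hc : Order.coheight p ≠ ⊤ := fun ht => by simp [ht] at h1
  have h2 : Order.height p + Order.coheight p ≤ 1 + Order.coheight p := h1.trans (h.trans_eq (add_comm _ _))
  exact (ENat.add_le_add_iff_right hc).1 h2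

/-- An element of the maximal ideal lies in a height-one prime of maximal dimension. -/
theorem exists_height_one [IsNoetherianRing R] [IsLocalRing R] {d : ℕ} (hd : ringKrullDim R = d) (hd1 : 1 ≤ d)
    (f : R) (hf : f ∈ maximalIdeal R) :
    ∃ p : PrimeSpectrum R, f ∈ p.asIdeal ∧ Order.height p = 1 ∧ (d : ℕ∞) ≤ Order.coheight p + 1 := by
  obtain ⟨s, hs⟩ := Order.le_krullDim_iff.1 (le_of_eq hd.symm : (d : WithBot ℕ∞) ≤ Order.krullDim (PrimeSpectrum R))
  set p₀ := s.head
  have hp₀ : (d : ℕ∞) ≤ Order.coheight p₀ := hs ▸ Order.length_le_coheight_head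
  obtain ⟨g, hgm, hg0, hfg⟩ : ∃ g ∈ maximalIdeal R, g ∉ p₀.asIdeal ∧ f ∈ p₀.asIdeal ⊔ Ideal.span {g} := by
    by_cases hfp : f ∈ p₀.asIdeal
    · obtain ⟨g, hg, hg0⟩ : ∃ g ∈ maximalIdeal R, g ∉ p₀.asIdeal := by
        by_contra! hall
        have hle : IsLocalRing.closedPoint R ≤ p₀ := hall
        have := (hp₀.trans (Order.coheight_anti hle)).trans_eq
          (Order.coheight_eq_zero.2 fun q _ => le_maximalIdeal q.2.ne_top)
        exact absurd (ENat.coe_le_coe.1 this) (by omega)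
      exact ⟨g, hg, hg0, Ideal.mem_sup_left hfp⟩
    · exact ⟨f, hf, hfp, Ideal.mem_sup_right (Ideal.mem_span_singleton_self f)⟩
  haveI := p₀.2
  haveI : Nontrivial (R ⧸ p₀.asIdeal) := Ideal.Quotient.nontrivial_iff.2 p₀.2.ne_top
  haveI : IsLocalRing (R ⧸ p₀.asIdeal) := .of_surjective' _ Ideal.Quotient.mk_surjective
  haveI : IsLocalHom (Ideal.Quotient.mk p₀.asIdeal) := .of_surjective _ Ideal.Quotient.mk_surjective
  have h1 : (d : WithBot ℕ∞) ≤ ringKrullDim (R ⧸ (p₀.asIdeal ⊔ Ideal.span {g})) + 1 := by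
    have hmm : ((maximalIdeal (R ⧸ p₀.asIdeal)).height : WithBot ℕ∞) ≤
        ringKrullDim ((R ⧸ p₀.asIdeal) ⧸ Ideal.span {Ideal.Quotient.mk p₀.asIdeal g}) + 1 :=
      Ideal.height_le_ringKrullDim_quotient_add_one
        (show Ideal.Quotient.mk p₀.asIdeal g ∈ maximalIdeal (R ⧸ p₀.asIdeal) from fun hu =>
          hgm (isUnit_of_map_unit (Ideal.Quotient.mk p₀.asIdeal) g hu))
    rw [IsLocalRing.maximalIdeal_height_eq_ringKrullDim, dim_quotient_eq_coheight] at hmm
    refine le_trans ?_ (hmm.trans (le_of_eq ?_))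
    · exact WithBot.coe_le_coe.2 hp₀
    · rw [← Set.image_singleton, ← Ideal.map_span]
      rw [ringKrullDim_eq_of_ringEquiv (DoubleQuot.quotQuotEquivQuotSup p₀.asIdeal (Ideal.span {g}))]
  obtain ⟨n, hn⟩ : ∃ n : ℕ, ringKrullDim (R ⧸ (p₀.asIdeal ⊔ Ideal.span {g})) = n := by
    have hlt : ringKrullDim (R ⧸ (p₀.asIdeal ⊔ Ideal.span {g})) ≤ d := hd ▸ ringKrullDim_quotient_le _
    cases hk : ringKrullDim (R ⧸ (p₀.asIdeal ⊔ Ideal.span {g})) with
    | bot => rw [hk] at h1; simp at h1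
    | coe k =>
      cases k with
      | top =>
        rw [hk, show ((d : WithBot ℕ∞)) = ((d : ℕ∞) : WithBot ℕ∞) from rfl, WithBot.coe_le_coe] at hlt
        exact absurd hlt (by simp)
      | coe k => exact ⟨k, rfl⟩
  rw [ringKrullDim_quotient] at hn
  obtain ⟨t, ht⟩ := Order.le_krullDim_iff.1 (le_of_eq hn.symm : (n : WithBot ℕ∞) ≤ _)
  set p : PrimeSpectrum R := t.head.1
  have hmem : p₀.asIdeal ⊔ Ideal.span {g} ≤ p.asIdeal := t.head.2
  have hcoh : (d : ℕ∞) ≤ Order.coheight p + 1 := by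
    let t' : LTSeries (PrimeSpectrum R) := t.map Subtype.val fun _ _ h => h
    have h2 : (n : ℕ∞) ≤ Order.coheight p := ht ▸ (Order.length_le_coheight_head (p := t'))
    rw [← ringKrullDim_quotient] at hn
    rw [hn, show ((d : WithBot ℕ∞)) = ((d : ℕ∞) : WithBot ℕ∞) from rfl, ← WithBot.coe_one,
      show ((n : WithBot ℕ∞)) = ((n : ℕ∞) : WithBot ℕ∞) from rfl, ← WithBot.coe_add, WithBot.coe_le_coe] at h1
    exact h1.trans (add_le_add_left h2 1)
  have hlt : p₀ < p := lt_of_le_of_ne (le_sup_left.trans hmem) fun h =>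
    hg0 (h ▸ hmem (Ideal.mem_sup_right (Ideal.mem_span_singleton_self g)))
  exact ⟨p, hmem hfg, height_eq_one_of hlt hd hcoh, hcoh⟩

/-- A height-one prime above a point of large coheight. -/
theorem exists_height_one_above [IsNoetherianRing R] [IsLocalRing R] {d : ℕ} (hd : ringKrullDim R ≤ d) (hd1 : 1 ≤ d)
    (q : PrimeSpectrum R) (hq : (d : ℕ∞) ≤ Order.coheight q) :
    ∃ q₁ : PrimeSpectrum R, q < q₁ ∧ Order.height q₁ = 1 := by
  obtain ⟨s, hs, hl⟩ := Order.exists_series_of_le_coheight q hq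
  have hlen : 0 < s.length := by omega
  have hlt : q < s ⟨1, by omega⟩ := hs ▸ s.strictMono (show (⟨0, by omega⟩ : Fin (s.length + 1)) < ⟨1, by omega⟩ from Nat.zero_lt_one)
  have heq : ringKrullDim R = d := le_antisymm hd (Order.le_krullDim_iff.2 ⟨s, hl⟩)
  refine ⟨_, hlt, height_eq_one_of hlt heq ?_⟩
  have h := Order.length_le_coheight_head (p := s.drop ⟨1, by omega⟩)
  rw [RelSeries.head_drop] at h
  refine le_trans ?_ (add_le_add_left h 1)
  have hgoal : ∀ a b : ℕ, a ≤ b + 1 → (a : ℕ∞) ≤ (b : ℕ∞) + 1 := fun a b hab => by exact_mod_cast hab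
  exact hgoal _ _ (by rw [RelSeries.drop_length]; show d ≤ s.length - 1 + 1; omega)

/-- Coheight along an integral extension. -/
theorem coheight_under_le {A B : Type u} [CommRing A] [CommRing B] [Algebra A B] [Algebra.IsIntegral A B]
    (Q : PrimeSpectrum B) : Order.coheight (PrimeSpectrum.comap (algebraMap A B) Q) ≤ Order.coheight Q := by
  rw [← WithBot.coe_le_coe, ← dim_quotient_eq_coheight, ← dim_quotient_eq_coheight]
  set P := Q.asIdeal.under A
  haveI : Q.asIdeal.LiesOver P := ⟨rfl⟩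
  exact (SegreDim.ringKrullDim_eq_of_injective_integral (A := A ⧸ P) (B := B ⧸ Q.asIdeal)
    (FaithfulSMul.algebraMap_injective _ _)).le

end Groth.Agent.Purity
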