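import Groth.Agent.Purity.Equiv
import Groth.Agent.SerreReg.Descent

/-!
# The punctured spectrum of a regular local ring
-/

set_option autoImplicit false

universe u

open AlgebraicGeometry CategoryTheory IsLocalRing

namespace Groth.Agent.Purity

variable (A : Type u) [CommRing A]

theorem isRegularLocalRing_stalk_spec [IsRegularLocalRing A] (x : Spec (CommRingCat.of A)) :
    IsRegularLocalRing ((Spec (CommRingCat.of A)).presheaf.stalk x) := by
  haveI := SerreReg.isRegularRing_of_isRegularLocalRing A
  let y : PrimeSpectrum A := x
  haveI := IsRegularRing.isRegularLocalRing_localization (R := A) y.asIdeal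
  exact IsRegularLocalRing.of_ringEquiv (IsLocalization.algEquiv y.asIdeal.primeCompl (Localization.AtPrime y.asIdeal)
    ((Spec.structureSheaf A).presheaf.stalk y)).toRingEquiv

theorem ringKrullDim_stalk_spec_closedPoint [IsLocalRing A] :
    ringKrullDim ((Spec (CommRingCat.of A)).presheaf.stalk (IsLocalRing.closedPoint A)) = ringKrullDim A := by
  let y : PrimeSpectrum A := IsLocalRing.closedPoint A
  refine (IsLocalization.AtPrime.ringKrullDim_eq_height y.asIdeal ((Spec.structureSheaf A).presheaf.stalk y)).trans ?_
  exact IsLocalRing.maximalIdeal_height_eq_ringKrullDim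

/-- Restriction to the punctured spectrum is an equivalence in dimension at least two. -/
theorem restrict_punctured_isEquivalence [IsRegularLocalRing A] (h : (2 : WithBot ℕ∞) ≤ ringKrullDim A) :
    (FEt.restrict (FEt.puncturedSpec A).ι).IsEquivalence := by
  refine restrict_isEquivalence _ (isRegularLocalRing_stalk_spec A) fun x hx => ?_
  obtain rfl : x = IsLocalRing.closedPoint A := not_not.1 hx
  rw [ringKrullDim_stalk_spec_closedPoint]
  exact h

end Groth.Agent.Purity
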