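import Groth.Agent.Purity.DepthRestrict
import Groth.Agent.Purity.SpecRegular
import Groth.Agent.Purity.FlatDim
import Groth.Agent.S2195

/-!
# Applications of depth two: flat covers, sections
-/

set_option autoImplicit false

universe u v

open scoped TensorProduct

namespace Groth.Agent.Purity

/-- A finite flat algebra which is unramified over `D(a)` and `D(b)` for a regular pair is étale. -/
theorem etale_of_flat_two {R : Type u} [CommRing R] {B : Type v} [CommRing B] [Algebra R B] [IsNoetherianRing R] [Module.Flat R B] [Module.Finite R B] {a b : R} (h : TwoWith a b R)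
    [Algebra.FormallyUnramified R (Localization.Away (algebraMap R B a))]
    [Algebra.FormallyUnramified R (Localization.Away (algebraMap R B b))] : Algebra.Etale R B := by
  haveI : Algebra.FinitePresentation R B := Algebra.FinitePresentation.of_finiteType.1 inferInstance
  suffices hu : Algebra.FormallyUnramified R B from .of_formallyUnramified_of_flat
  set K := KaehlerDifferential.ideal R B
  have hT : TwoWith a b (B ⊗[R] B) := two_of_flat h _
  have hB : TwoWith a b B := two_of_flat h _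
  obtain ⟨Na, hNa⟩ := exists_pow_smul_mem_sq (B := B) a
  obtain ⟨Nb, hNb⟩ := exists_pow_smul_mem_sq (B := B) b
  obtain ⟨Ma, ka, hka, hwa⟩ := exists_killer K (KaehlerDifferential.ideal_fg R B) a Na hNa
  obtain ⟨Mb, kb, hkb, hwb⟩ := exists_killer K (KaehlerDifferential.ideal_fg R B) b Nb hNb
  set wa := algebraMap R (B ⊗[R] B) a ^ Ma + ka
  set wb := algebraMap R (B ⊗[R] B) b ^ Mb + kb
  have hab : b ^ Mb • wa = a ^ Ma • wb := by
    have h1 : wa * wb = b ^ Mb • wa := by
      rw [← algebraMap_smul (B ⊗[R] B) (b ^ Mb), smul_eq_mul, map_pow, mul_add, hwa kb hkb, add_zero, mul_comm]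
    have h2 : wb * wa = a ^ Ma • wb := by
      rw [← algebraMap_smul (B ⊗[R] B) (a ^ Ma), smul_eq_mul, map_pow, mul_add, hwb ka hka, add_zero, mul_comm]
    rw [← h1, ← h2, mul_comm]
  obtain ⟨e, he⟩ := hT.cancel_pow Ma Mb wa wb hab
  have heK : ∀ k ∈ K, e * k = 0 := fun k hk => hT.inj_pow Ma (by rw [← smul_mul_assoc, ← he, hwa k hk])
  have he1 : Algebra.TensorProduct.lmul' R (S := B) e = 1 := by
    refine hB.inj_pow_eq Ma ?_
    rw [← map_smul, ← he, map_add, show Algebra.TensorProduct.lmul' R (S := B) ka = 0 from hka, add_zero,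
      map_pow, AlgHom.commutes, ← map_pow, Algebra.algebraMap_eq_smul_one]
  rw [Algebra.FormallyUnramified.iff_exists_tensorProduct]
  exact ⟨e, fun s => by rw [mul_comm]; exact heK _ (KaehlerDifferential.one_smul_sub_smul_one_mem_ideal R s), he1⟩

theorem exists_etale_away' {A : Type u} [CommRing A] [IsNoetherianRing A] {C : Type v} [CommRing C] [Algebra A C] [Module.Finite A C]
    (p : Ideal A) [p.IsPrime]
    (h : ∀ q : Ideal C, (hq : q.IsPrime) → q.comap (algebraMap A C) = p → Algebra.IsEtaleAt A q) :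
    ∃ s ∉ p, Algebra.Etale A (Localization.Away (algebraMap A C s)) := by
  haveI : Algebra.FinitePresentation A C := Algebra.FinitePresentation.of_finiteType.1 inferInstance
  set Z := PrimeSpectrum.comap (algebraMap A C) '' (Algebra.etaleLocus A C)ᶜ
  have hZ : IsClosed Z := PrimeSpectrum.isClosedMap_comap_of_isIntegral _
    (algebraMap_isIntegral_iff.2 (Algebra.IsIntegral.of_finite A C)) _ Algebra.isOpen_etaleLocus.isClosed_compl
  have hp : (⟨p, inferInstance⟩ : PrimeSpectrum A) ∈ Zᶜ := by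
    rintro ⟨q, hq, hqp⟩
    exact hq (h q.asIdeal q.2 (congrArg PrimeSpectrum.asIdeal hqp))
  obtain ⟨_, ⟨_, ⟨s, rfl⟩, rfl⟩, hps, hs⟩ :=
    PrimeSpectrum.isBasis_basic_opens.exists_subset_of_mem_open hp hZ.isOpen_compl
  refine ⟨s, hps, Algebra.basicOpen_subset_etaleLocus_iff_etale.1 fun q hq => ?_⟩
  by_contra hne
  exact hs (show PrimeSpectrum.comap (algebraMap A C) q ∈ PrimeSpectrum.basicOpen s from hq) ⟨q, hne, rfl⟩

/-- The discriminant lies in `P` only if some prime over `P` is not étale. -/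
theorem exists_not_isEtaleAt' {T : Type u} {D : Type v} [CommRing T] [IsNoetherianRing T] [CommRing D] [Algebra T D]
    [Module.Finite T D] {ι : Type} [Fintype ι] [DecidableEq ι] (b : Module.Basis ι T D) (P : Ideal T) [P.IsPrime]
    (hδ : Algebra.discr T b ∈ P) :
    ∃ Q : Ideal D, ∃ _ : Q.IsPrime, Q.comap (algebraMap T D) = P ∧ ¬ Algebra.IsEtaleAt T Q := by
  by_contra hall
  push Not at hall
  obtain ⟨s, hs, hse⟩ := exists_etale_away' (A := T) (C := D) P fun q hq hqp => hall q hq hqp
  haveI := hse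
  let Ts := Localization.Away s
  haveI : IsLocalization.Away (algebraMap T D s) (D ⊗[T] Ts) := inferInstance
  haveI : Algebra.Etale Ts (Ts ⊗[T] D) := by
    haveI : Algebra.Etale T (D ⊗[T] Ts) :=
      Algebra.Etale.of_equiv ((IsLocalization.algEquiv (Submonoid.powers (algebraMap T D s))
        (Localization.Away (algebraMap T D s)) (D ⊗[T] Ts)).restrictScalars T)
    haveI : Algebra.Etale T (Ts ⊗[T] D) := Algebra.Etale.of_equiv (Algebra.TensorProduct.comm T D Ts)
    haveI : Algebra.FinitePresentation Ts (Ts ⊗[T] D) := by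
      haveI : Algebra.FinitePresentation T D := Algebra.FinitePresentation.of_finiteType.1 inferInstance
      infer_instance
    haveI : Algebra.FormallyEtale T Ts := Algebra.FormallyEtale.of_isLocalization (Submonoid.powers s)
    haveI : Algebra.FormallyEtale Ts (Ts ⊗[T] D) := Algebra.FormallyEtale.of_restrictScalars (R := T)
    constructor <;> infer_instance
  let b' := Algebra.TensorProduct.basis Ts b
  have hu := (Groth.Agent.S2195.result b').1 inferInstance
  have hd : Algebra.discr Ts b' = algebraMap T Ts (Algebra.discr T b) := by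
    haveI : Module.Free T D := Module.Free.of_basis b
    rw [Algebra.discr_def, Algebra.discr_def, RingHom.map_det]
    congr 1
    ext i j
    simp only [Algebra.traceMatrix_apply, Algebra.traceForm_apply, RingHom.mapMatrix_apply, Matrix.map_apply,
      b', Algebra.TensorProduct.basis_apply, Algebra.TensorProduct.tmul_mul_tmul, one_mul]
    rw [Algebra.trace_apply, Algebra.trace_apply, show Algebra.lmul Ts (Ts ⊗[T] D) ((1 : Ts) ⊗ₜ[T] (b i * b j)) =
      (Algebra.lmul T D (b i * b j)).baseChange Ts from ?_, LinearMap.trace_baseChange]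
    refine (Algebra.TensorProduct.basis Ts b).ext fun k => ?_
    simp [Algebra.TensorProduct.basis_apply, Algebra.TensorProduct.tmul_mul_tmul]
  rw [hd] at hu
  obtain ⟨z, hz⟩ := hu.exists_right_inv
  obtain ⟨⟨x, ⟨_, k, rfl⟩⟩, hx⟩ := IsLocalization.surj (Submonoid.powers s) z
  have h := congrArg (algebraMap T Ts (Algebra.discr T b) * ·) hx
  simp only [← mul_assoc, hz, one_mul, ← map_mul] at h
  obtain ⟨⟨_, j, rfl⟩, hj⟩ := (IsLocalization.eq_iff_exists (Submonoid.powers s) Ts).1 h
  simp only [← pow_add] at hj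
  exact hs (Ideal.IsPrime.mem_of_pow_mem inferInstance (j + k)
    (hj ▸ P.mul_mem_left _ (P.mul_mem_right _ hδ)))

/-- Flat, finite and étale on the punctured spectrum. -/
theorem etale_of_flat_punctured {A : Type u} {B : Type v} [CommRing A] [CommRing B] [Algebra A B]
    [IsNoetherianRing A] [IsLocalRing A] (hdim : (2 : WithBot ℕ∞) ≤ ringKrullDim A) [Module.Finite A B] [Module.Flat A B]
    (h : ∀ q : PrimeSpectrum B, q.asIdeal.comap (algebraMap A B) ≠ IsLocalRing.maximalIdeal A →
      Algebra.IsEtaleAt A q.asIdeal) : Algebra.Etale A B := by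
  classical
  haveI : Module.Free A B := Module.free_of_flat_of_isLocalRing
  let b := (Module.Free.chooseBasis A B).reindex (Fintype.equivFin _)
  refine (Groth.Agent.S2195.result b).2 ?_
  by_contra hδ
  obtain ⟨d, hd⟩ : ∃ d : ℕ, ringKrullDim A = d := by
    cases hk : ringKrullDim A with
    | bot => exact absurd hk ringKrullDim_ne_bot
    | coe k =>
      cases k with
      | top => exact absurd hk (ringKrullDim_lt_top (R := A)).ne
      | coe k => exact ⟨k, rfl⟩
  have hd2 : 2 ≤ d := by rw [hd] at hdim; exact_mod_cast hdim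
  obtain ⟨P, hPδ, hP1, -⟩ := exists_height_one hd (by omega) _ ((IsLocalRing.mem_maximalIdeal _).2 hδ)
  haveI := P.2
  obtain ⟨Q, hQp, hQP, hQ⟩ := exists_not_isEtaleAt' b P.asIdeal hPδ
  refine hQ (h ⟨Q, hQp⟩ fun hmax => ?_)
  rw [show Q.comap (algebraMap A B) = P.asIdeal from hQP] at hmax
  have h1 : ((1 : ℕ∞) : WithBot ℕ∞) = ringKrullDim A := by
    rw [← IsLocalRing.maximalIdeal_height_eq_ringKrullDim, ← hmax, PrimeSpectrum.height_eq_orderHeight, hP1]
  rw [hd] at h1
  exact absurd (by exact_mod_cast h1 : 1 = d) (by omega)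

section

open AlgebraicGeometry CategoryTheory Limits

/-- Depth two off `U`: flat covers étale over `U` are étale. -/
theorem etale_of_flat_of_depth {X Y : Scheme.{u}} [IsLocallyNoetherian X] (U : X.Opens)
    (hU : ∀ x : X, x ∉ U → (2 : ℕ∞) ≤ LocCoh.depth (X.presheaf.stalk x) (X.presheaf.stalk x)) (π : Y ⟶ X)
    [IsFinite π] [Flat π] [Etale (pullback.snd π U.ι)] : Etale π := by
  refine (IsZariskiLocalAtTarget.iff_of_iSup_eq_top (P := @Etale) (fun V : {V : X.Opens // IsAffineOpen V} => V.1)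
    (iSup_affineOpens_eq_top X)).2 fun ⟨V, hV⟩ => ?_
  haveI : IsAffine V.toScheme := hV
  haveI : IsAffine (π ⁻¹ᵁ V).toScheme := hV.preimage π
  refine HasRingHomProperty.iff_of_isAffine.2 (appTop_morphismRestrict RingHom.Etale.respectsIso _ _ ?_)
  obtain ⟨a, b, haI, hbI, hA⟩ := exists_pair_chart_of_depth U hU V hV
  haveI : IsNoetherianRing Γ(X, V) := IsLocallyNoetherian.component_noetherian ⟨V, hV⟩
  letI := (π.app V).hom.toAlgebra
  haveI : Module.Finite Γ(X, V) Γ(Y, π ⁻¹ᵁ V) := π.finite_app V hV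
  haveI : Module.Flat Γ(X, V) Γ(Y, π ⁻¹ᵁ V) := by
    have := HasRingHomProperty.appLE @Flat π ‹_› ⟨V, hV⟩ ⟨π ⁻¹ᵁ V, hV.preimage π⟩ le_rfl
    rwa [← π.app_eq_appLE] at this
  have hunr : ∀ f ∈ outerIdeal U hV,
      Algebra.FormallyUnramified Γ(X, V) (Localization.Away (algebraMap Γ(X, V) Γ(Y, π ⁻¹ᵁ V) f)) := by
    intro f hf
    set O := Y.basicOpen (π.app V f)
    haveI : IsLocalization.Away (algebraMap Γ(X, V) Γ(Y, π ⁻¹ᵁ V) f) Γ(Y, O) :=
      (hV.preimage π).isLocalization_basicOpen (π.app V f)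
    have hO : IsAffineOpen O := (hV.preimage π).basicOpen _
    have hOU : O ≤ π ⁻¹ᵁ U := by
      rw [show O = π ⁻¹ᵁ X.basicOpen f from (Scheme.preimage_basicOpen π f).symm]
      exact Scheme.Hom.preimage_mono _ (basicOpen_le_of_mem_outerIdeal hV hf)
    letI : Algebra Γ(X, V) Γ(Y, O) := (π.appLE V O (Y.basicOpen_le _)).hom.toAlgebra
    haveI : IsScalarTower Γ(X, V) Γ(Y, π ⁻¹ᵁ V) Γ(Y, O) := .of_algebraMap_eq fun r => by
      show π.appLE V O (Y.basicOpen_le _) r = Y.presheaf.map _ (π.app V r)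
      rw [show π.app V r = π.appLE V (π ⁻¹ᵁ V) le_rfl r by rw [← π.app_eq_appLE]]
      exact (res_appLE π le_rfl _ r).symm
    have het : Etale ((π ⁻¹ᵁ U).ι ≫ π) := by
      have hpb := IsPullback.of_hasPullback π U.ι
      have : Etale (π ∣_ U) := by
        rw [← MorphismProperty.cancel_left_of_respectsIso @Etale (pullbackRestrictIsoRestrict π U).hom,
          pullbackRestrictIsoRestrict_hom_morphismRestrict]
        infer_instance
      rw [← morphismRestrict_ι]
      infer_instance
    have hO' : IsAffineOpen ((π ⁻¹ᵁ U).ι ⁻¹ᵁ O) := hO.preimage_of_isOpenImmersion _ (by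
      rw [Scheme.Opens.opensRange_ι]; exact hOU)
    haveI : IsIso ((π ⁻¹ᵁ U).ι.app O) := Scheme.Hom.isIso_app _ O (by rw [Scheme.Opens.opensRange_ι]; exact hOU)
    have h1 : (((π ⁻¹ᵁ U).ι ≫ π).appLE V ((π ⁻¹ᵁ U).ι ⁻¹ᵁ O)
        (Scheme.Hom.preimage_mono _ (Y.basicOpen_le _))).hom.Etale :=
      HasRingHomProperty.appLE @Etale _ het ⟨V, hV⟩ ⟨_, hO'⟩ _
    have h2 : (π.appLE V O (Y.basicOpen_le _)).hom.Etale := by
      rw [← Scheme.Hom.appLE_comp_appLE (π ⁻¹ᵁ U).ι π V O _ (Y.basicOpen_le _) le_rfl,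
        ← (π ⁻¹ᵁ U).ι.app_eq_appLE] at h1
      exact (RingHom.Etale.respectsIso.cancel_right_isIso _ _).1 h1
    haveI : Algebra.Etale Γ(X, V) Γ(Y, O) := h2
    exact Algebra.FormallyUnramified.of_equiv ((IsLocalization.algEquiv
      (Submonoid.powers (algebraMap Γ(X, V) Γ(Y, π ⁻¹ᵁ V) f)) Γ(Y, O)
      (Localization.Away (algebraMap Γ(X, V) Γ(Y, π ⁻¹ᵁ V) f))).restrictScalars Γ(X, V))
  haveI := hunr a haI
  haveI := hunr b hbI
  exact RingHom.etale_algebraMap.2 (etale_of_flat_two hA)

/-- Sections over a big open of an affine scheme. -/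
theorem bijective_ι_app_top {X : Scheme.{u}} [IsAffine X] (U : X.Opens) [QuasiCompact U.ι]
    (hV : IsAffineOpen (⊤ : X.Opens))
    (hpair : ∃ a b : Γ(X, ⊤), a ∈ outerIdeal U hV ∧ b ∈ outerIdeal U hV ∧ TwoWith a b Γ(X, ⊤)) :
    Function.Bijective (X.presheaf.map (homOfLE (le_top : U ≤ ⊤)).op) := by
  have h := bijective_fst_app' (𝟙 X) hV hpair
  haveI : IsIso ((pullback.fst (𝟙 X) U.ι).appTop) := (ConcreteCategory.isIso_iff_bijective _).2 h
  have e : (pullback.fst (𝟙 X) U.ι).appTop = U.ι.appTop ≫ (pullback.snd (𝟙 X) U.ι).appTop := by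
    rw [← Scheme.Hom.comp_appTop, show pullback.fst (𝟙 X) U.ι = pullback.snd (𝟙 X) U.ι ≫ U.ι from
      by rw [← pullback.condition, Category.comp_id]]
  haveI : IsIso (pullback.snd (𝟙 X) U.ι) := inferInstance
  haveI : IsIso ((pullback.snd (𝟙 X) U.ι).appTop) :=
    inferInstanceAs (IsIso ((pullback.snd (𝟙 X) U.ι).app ⊤))
  haveI : IsIso (U.ι.appTop ≫ (pullback.snd (𝟙 X) U.ι).appTop) := e ▸ inferInstance
  haveI : IsIso U.ι.appTop := IsIso.of_isIso_comp_right _ (pullback.snd (𝟙 X) U.ι).appTop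
  have hb : Function.Bijective U.ι.appTop := ConcreteCategory.bijective_of_isIso _
  have key : ∀ O : X.Opens, O = U → ∀ hle : O ≤ ⊤, Function.Bijective (X.presheaf.map (homOfLE hle).op) →
      Function.Bijective (X.presheaf.map (homOfLE (le_top : U ≤ ⊤)).op) := by
    rintro _ rfl _ hb'
    exact hb'
  exact key _ U.ι_image_top le_top hb

/-- Global sections of the restriction of a finite étale cover to a big open of an affine scheme. -/
theorem finite_etale_sections {X E V : Scheme.{u}} [IsAffine X] (U : X.Opens) [QuasiCompact U.ι]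
    (hV : IsAffineOpen (⊤ : X.Opens))
    (hpair : ∃ a b : Γ(X, ⊤), a ∈ outerIdeal U hV ∧ b ∈ outerIdeal U hV ∧ TwoWith a b Γ(X, ⊤))
    (π : E ⟶ X) [IsFinite π] [Etale π] (ei : V ≅ pullback π U.ι) (g : V ⟶ X)
    (hg : g = ei.hom ≫ pullback.fst π U.ι ≫ π) : g.appTop.hom.Finite ∧ g.appTop.hom.Etale := by
  haveI : IsIso (pullback.fst π U.ι).appTop :=
    (ConcreteCategory.isIso_iff_bijective _).2 (bijective_fst_app' π hV hpair)
  haveI : IsAffine E := isAffine_of_isAffineHom π
  have hE : π.appTop.hom.Etale := HasRingHomProperty.iff_of_isAffine.1 ‹Etale π›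
  have hF : π.appTop.hom.Finite := (HasAffineProperty.iff_of_isAffine.1 ‹IsFinite π›).2
  haveI : IsIso ei.hom.appTop := inferInstanceAs (IsIso (ei.hom.app ⊤))
  haveI : IsIso ((pullback.fst π U.ι).appTop ≫ ei.hom.appTop) := IsIso.comp_isIso' inferInstance inferInstance
  rw [hg, Scheme.Hom.comp_appTop, Scheme.Hom.comp_appTop, Category.assoc]
  exact ⟨(RingHom.finite_respectsIso.cancel_right_isIso _ _).2 hF,
    (RingHom.Etale.respectsIso.cancel_right_isIso _ _).2 hE⟩

end

end Groth.Agent.Purity
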