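import Groth.Agent.Purity.SectionsFF
import Mathlib.AlgebraicGeometry.Morphisms.Flat
import Mathlib.RingTheory.Flat.EquationalCriterion
import Mathlib.RingTheory.Finiteness.ModuleFinitePresentation

/-!
# Sections of a finite étale cover along a morphism bijective on sections
-/

set_option autoImplicit false
set_option backward.isDefEq.respectTransparency false

universe u

open AlgebraicGeometry CategoryTheory TopologicalSpace Limits Opposite
open scoped TensorProduct

namespace Groth.Agent.Purity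

/-- Dual bases of a finite flat algebra of finite presentation. -/
theorem exists_dual_basis (R A : Type u) [CommRing R] [CommRing A] [Algebra R A] [Module.Finite R A] [Module.Flat R A]
    [Algebra.FinitePresentation R A] : ∃ (n : ℕ) (m : Fin n → A) (l : Fin n → A →ₗ[R] R),
      ∀ x, ∑ i, l i x • m i = x := by
  haveI : Module.FinitePresentation R A := Module.FinitePresentation.of_finite_of_finitePresentation R A
  haveI : Module.Projective R A := Module.Flat.projective_of_finitePresentation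
  obtain ⟨n, p, hp⟩ := Module.Finite.exists_fin' R A
  obtain ⟨s, hs⟩ := Module.projective_lifting_property p LinearMap.id hp
  refine ⟨n, fun i => p (Pi.single i 1), fun i => (LinearMap.proj i).comp s, fun x => ?_⟩
  have h : p (s x) = x := LinearMap.congr_fun hs x
  conv_rhs => rw [← h, pi_eq_sum_univ' (s x), map_sum]
  exact Finset.sum_congr rfl fun i _ => by
    rw [map_smul]
    rfl

/-- Coordinates on a pushout. -/
theorem exists_coord {R A B Q : CommRingCat.{u}} {φA : R ⟶ A} {φB : R ⟶ B} {a : A ⟶ Q} {b : B ⟶ Q}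
    (H : IsPushout φA φB a b) {n : ℕ} (m : Fin n → A) :
    letI := φA.hom.toAlgebra
    ∀ (l : Fin n → A →ₗ[R] R), (∀ x, ∑ i, l i x • m i = x) →
    (∀ (M : Type u) [AddCommGroup M] (F G : Q →+ M), (∀ x y, F (a x * b y) = G (a x * b y)) → F = G) ∧
      ∃ Λ : Fin n → (Q →+ B), (∀ i x y, Λ i (a x * b y) = φB (l i x) * y) ∧
        ∀ t, ∑ i, a (m i) * b (Λ i t) = t := by
  letI := φA.hom.toAlgebra
  intro l hl
  letI := φB.hom.toAlgebra
  letI := a.hom.toAlgebra
  letI := b.hom.toAlgebra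
  letI : Algebra R Q := (φB ≫ b).hom.toAlgebra
  haveI : IsScalarTower R B Q := .of_algebraMap_eq fun _ => rfl
  haveI : IsScalarTower R A Q := .of_algebraMap_eq fun r => (ConcreteCategory.congr_hom H.w r).symm
  haveI hpo : Algebra.IsPushout R B A Q := CommRingCat.isPushout_iff_isPushout.1 H.flip
  let e : B ⊗[R] A ≃ₐ[B] Q := Algebra.IsPushout.equiv R B A Q
  have he : ∀ y x, e (y ⊗ₜ x) = b y * a x := fun y x => Algebra.IsPushout.equiv_tmul R B A Q y x
  have hext : ∀ (M : Type u) [AddCommGroup M] (F G : Q →+ M), (∀ x y, F (a x * b y) = G (a x * b y)) → F = G := by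
    intro M _ F G hFG
    refine AddMonoidHom.ext fun t => ?_
    obtain ⟨z, rfl⟩ := e.surjective t
    induction z with
    | zero => simp
    | tmul y x => rw [he, mul_comm]; exact hFG x y
    | add z z' hz hz' => rw [map_add, map_add, map_add, hz, hz']
  refine ⟨hext, fun i => ((TensorProduct.rid R B).toLinearMap.comp ((l i).lTensor B)).toAddMonoidHom.comp
    e.symm.toLinearEquiv.toLinearMap.toAddMonoidHom, fun i x y => ?_, fun t => ?_⟩
  · show (TensorProduct.rid R B) ((l i).lTensor B (e.symm (a x * b y))) = φB (l i x) * y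
    rw [mul_comm (a x), ← he, AlgEquiv.symm_apply_apply, LinearMap.lTensor_tmul, TensorProduct.rid_tmul,
      Algebra.smul_def]
    rfl
  · obtain ⟨z, rfl⟩ := e.surjective t
    show ∑ i, a (m i) * b ((TensorProduct.rid R B) ((l i).lTensor B (e.symm (e z)))) = e z
    rw [AlgEquiv.symm_apply_apply]
    induction z with
    | zero => simp
    | tmul y x =>
      rw [he]
      conv_rhs => rw [← hl x, map_sum, Finset.mul_sum]
      refine Finset.sum_congr rfl fun i _ => ?_
      rw [LinearMap.lTensor_tmul, TensorProduct.rid_tmul, Algebra.smul_def, Algebra.smul_def, map_mul, map_mul,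
        show a (algebraMap R A (l i x)) = b (algebraMap R B (l i x)) from ConcreteCategory.congr_hom H.w (l i x)]
      ring
    | add z z' hz hz' =>
      simp only [map_add, mul_add, Finset.sum_add_distrib, hz, hz']

variable {T S E : Scheme.{u}}

theorem res_res' {X : Scheme.{u}} {O O' O'' : X.Opens} (h : O'' ≤ O') (h' : O' ≤ O) (z : Γ(X, O)) :
    X.presheaf.map (homOfLE h).op (X.presheaf.map (homOfLE h').op z) = X.presheaf.map (homOfLE (h.trans h')).op z := by
  rw [← CommRingCat.comp_apply, ← Functor.map_comp, ← op_comp, homOfLE_comp]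

/-- Sections of a finite étale cover do not change along a morphism bijective on sections. -/
theorem bijective_fst_app_of_app (f : T ⟶ S) (π : E ⟶ S) [IsFinite π] [Etale π] {V : S.Opens} (hV : IsAffineOpen V)
    (hf : Function.Bijective (f.app V)) : Function.Bijective ((pullback.fst π f).app (π ⁻¹ᵁ V)) := by
  classical
  set fst := pullback.fst π f
  set snd := pullback.snd π f
  have hU : IsAffineOpen (π ⁻¹ᵁ V) := hV.preimage π
  have happ : π.appLE V (π ⁻¹ᵁ V) le_rfl = π.app V := π.app_eq_appLE.symm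
  letI : Algebra Γ(S, V) Γ(E, π ⁻¹ᵁ V) := (π.app V).hom.toAlgebra
  haveI : Module.Finite Γ(S, V) Γ(E, π ⁻¹ᵁ V) := π.finite_app V hV
  haveI : Algebra.Etale Γ(S, V) Γ(E, π ⁻¹ᵁ V) := by
    have h := π.etale_appLE hV hU le_rfl
    rw [happ] at h
    exact h
  obtain ⟨n, m, l, hl⟩ := exists_dual_basis Γ(S, V) Γ(E, π ⁻¹ᵁ V)
  let P := (pullback π f : Scheme.{u})
  have hpre : fst ⁻¹ᵁ π ⁻¹ᵁ V = snd ⁻¹ᵁ f ⁻¹ᵁ V := by
    rw [← Scheme.Hom.comp_preimage, ← Scheme.Hom.comp_preimage]
    exact congrArg (fun h => h ⁻¹ᵁ V) pullback.condition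
  let ι := {W : T.Opens // IsAffineOpen W ∧ W ≤ f ⁻¹ᵁ V}
  have hle : ∀ W : ι, snd ⁻¹ᵁ W.1 ≤ fst ⁻¹ᵁ π ⁻¹ᵁ V := fun W => (snd.preimage_mono W.2.2).trans hpre.ge
  have hpo : ∀ W : ι, IsPushout (π.app V) (f.appLE V W.1 W.2.2) (fst.appLE (π ⁻¹ᵁ V) (snd ⁻¹ᵁ W.1) (hle W))
      (snd.app W.1) := by
    intro W
    have h := (isIso_pushoutSection_iff (IsPullback.of_hasPullback π f) W.2.2 (le_refl (π ⁻¹ᵁ V))
      (UY := snd ⁻¹ᵁ W.1) (inf_eq_right.2 (hle W)).symm).1
      (isIso_pushoutSection_of_isAffineOpen _ _ _ _ hV W.2.1 hU)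
    rw [happ, ← snd.app_eq_appLE] at h
    exact h
  choose hext Λ hΛ hsum using fun W : ι => exists_coord (hpo W) m l hl
  have hnat : ∀ (W W' : ι) (hWW : W'.1 ≤ W.1) (i : Fin n) (t : Γ(P, snd ⁻¹ᵁ W.1)),
      T.presheaf.map (homOfLE hWW).op (Λ W i t) =
        Λ W' i (P.presheaf.map (homOfLE (snd.preimage_mono hWW)).op t) := by
    intro W W' hWW i t
    have := hext W _ ((T.presheaf.map (homOfLE hWW).op).hom.toAddMonoidHom.comp (Λ W i))
      ((Λ W' i).comp (P.presheaf.map (homOfLE (snd.preimage_mono hWW)).op).hom.toAddMonoidHom) fun x y => by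
        show T.presheaf.map (homOfLE hWW).op (Λ W i _) = Λ W' i (P.presheaf.map _ _)
        rw [hΛ W i x y, map_mul, map_mul]
        rw [show P.presheaf.map (homOfLE (snd.preimage_mono hWW)).op (fst.appLE (π ⁻¹ᵁ V) (snd ⁻¹ᵁ W.1) (hle W) x) =
            fst.appLE (π ⁻¹ᵁ V) (snd ⁻¹ᵁ W'.1) (hle W') x from by
          rw [← CommRingCat.comp_apply, Scheme.Hom.appLE_map]]
        rw [show P.presheaf.map (homOfLE (snd.preimage_mono hWW)).op (snd.app W.1 y) =
            snd.app W'.1 (T.presheaf.map (homOfLE hWW).op y) from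
          (ConcreteCategory.congr_hom (snd.naturality (homOfLE hWW).op) y).symm]
        rw [hΛ W' i, ← CommRingCat.comp_apply, Scheme.Hom.appLE_map]
    exact DFunLike.congr_fun this t
  have hcovT : f ⁻¹ᵁ V ≤ ⨆ W : ι, W.1 := by
    intro x hx
    obtain ⟨_, ⟨W, hW, rfl⟩, hxW, hWle⟩ := T.isBasis_affineOpens.exists_subset_of_mem_open hx (f ⁻¹ᵁ V).2
    exact Opens.mem_iSup.2 ⟨⟨W, hW, hWle⟩, hxW⟩
  have hcovP : fst ⁻¹ᵁ π ⁻¹ᵁ V ≤ ⨆ W : ι, snd ⁻¹ᵁ W.1 := by
    rw [hpre, ← Scheme.Hom.preimage_iSup]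
    exact snd.preimage_mono hcovT
  refine ⟨(injective_iff_map_eq_zero _).2 fun x hx => ?_, fun t => ?_⟩
  · rw [← hl x]
    refine Finset.sum_eq_zero fun i _ => ?_
    suffices hli : l i x = 0 by rw [hli, zero_smul]
    refine hf.1 ((TopCat.Sheaf.eq_of_locally_eq' T.sheaf (fun W : ι => W.1) (f ⁻¹ᵁ V) (fun W => homOfLE W.2.2) hcovT
      (f.app V (l i x)) 0 fun W => ?_).trans (map_zero (f.app V).hom).symm)
    rw [map_zero]
    have h := hΛ W i x 1
    rw [map_one, mul_one, mul_one] at h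
    have hz : fst.appLE (π ⁻¹ᵁ V) (snd ⁻¹ᵁ W.1) (hle W) x = 0 := by
      show P.presheaf.map (homOfLE (hle W)).op (fst.app (π ⁻¹ᵁ V) x) = 0
      rw [hx, map_zero]
    rw [hz, map_zero] at h
    exact h.symm
  · let tW : ∀ W : ι, Γ(P, snd ⁻¹ᵁ W.1) := fun W => P.presheaf.map (homOfLE (hle W)).op t
    have hglue : ∀ i, ∃ c : Γ(T, f ⁻¹ᵁ V), ∀ W : ι, T.presheaf.map (homOfLE W.2.2).op c = Λ W i (tW W) := by
      intro i
      obtain ⟨c, hc, -⟩ := TopCat.Sheaf.existsUnique_gluing' T.sheaf (fun W : ι => W.1) (f ⁻¹ᵁ V)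
        (fun W => homOfLE W.2.2) hcovT (fun W => Λ W i (tW W)) (fun W W' => by
          refine TopCat.Sheaf.eq_of_locally_eq' T.sheaf (fun U : {U : ι // U.1 ≤ W.1 ⊓ W'.1} => U.1.1) (W.1 ⊓ W'.1)
            (fun U => homOfLE U.2) ?_ _ _ fun U => ?_
          · intro z hz
            obtain ⟨_, ⟨O, hO, rfl⟩, hzO, hOle⟩ := T.isBasis_affineOpens.exists_subset_of_mem_open hz (W.1 ⊓ W'.1).2
            exact Opens.mem_iSup.2 ⟨⟨⟨O, hO, fun y hy => W.2.2 (hOle hy).1⟩, hOle⟩, hzO⟩
          · show T.presheaf.map (homOfLE U.2).op (T.presheaf.map (homOfLE inf_le_left).op (Λ W i (tW W))) =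
              T.presheaf.map (homOfLE U.2).op (T.presheaf.map (homOfLE inf_le_right).op (Λ W' i (tW W')))
            rw [res_res', res_res', hnat W U.1, hnat W' U.1]
            simp only [tW, res_res'])
      exact ⟨c, hc⟩
    choose c hc using hglue
    choose r hr using fun i => hf.2 (c i)
    refine ⟨∑ i, r i • m i, TopCat.Sheaf.eq_of_locally_eq' P.sheaf (fun W : ι => snd ⁻¹ᵁ W.1) (fst ⁻¹ᵁ π ⁻¹ᵁ V)
      (fun W => homOfLE (hle W)) hcovP _ _ fun W => ?_⟩
    show P.presheaf.map (homOfLE (hle W)).op (fst.app (π ⁻¹ᵁ V) (∑ i, r i • m i)) = tW W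
    rw [← hsum W (tW W), map_sum, map_sum]
    refine Finset.sum_congr rfl fun i _ => ?_
    rw [Algebra.smul_def, map_mul, map_mul, mul_comm]
    refine congrArg₂ (· * ·) rfl ?_
    rw [← hc i W, ← hr i]
    show (π.app V ≫ fst.appLE (π ⁻¹ᵁ V) (snd ⁻¹ᵁ W.1) (hle W)) (r i) = (f.appLE V W.1 W.2.2 ≫ snd.app W.1) (r i)
    rw [(hpo W).w]

/-- `O_S = f_* O_X` makes restriction of finite étale covers fully faithful. -/
theorem restrict_full_faithful_of_app (f : T ⟶ S)
    (hf : ∀ V : S.Opens, IsAffineOpen V → Function.Bijective (f.app V)) :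
    (FEt.restrict f).Full ∧ (FEt.restrict f).Faithful :=
  restrict_full_faithful_of_sections f fun _ π hπ he V hV => @bijective_fst_app_of_app _ _ _ f π hπ he V hV (hf V hV)

end Groth.Agent.Purity
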