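import Groth.Agent.Purity.Two
import Groth.Agent.QGorD.Basic
import Groth.Agent.ZCl.Alg
import Groth.Agent.LocH.DepthMisc

/-!
# Regular pairs from depth at least two
-/

set_option autoImplicit false

universe u

open IsLocalRing

namespace Groth.Agent.Purity

/-- A regular pair from ideal depth. -/
theorem exists_pair_of_idealDepth {A : Type u} [CommRing A] [IsNoetherianRing A] {I : Ideal A}
    (h : (2 : ℕ∞) ≤ LocCoh.idealDepth I A) : ∃ a b : A, a ∈ I ∧ b ∈ I ∧ TwoWith a b A := by
  obtain ⟨a, haI, ha⟩ := QGorD.exists_regular_of_one_le I A (le_trans (by norm_num) h)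
  obtain ⟨b, hbI, hb⟩ := QGorD.exists_regMod_of_two_le h haI ha
  exact ⟨a, b, haI, hbI, fun m hm => ha.right_eq_zero_of_smul hm, hb⟩

theorem depth_eq_of_ringEquiv {R S : Type u} [CommRing R] [IsLocalRing R] [IsNoetherianRing R] [CommRing S]
    [IsLocalRing S] [IsNoetherianRing S] (e : R ≃+* S) : LocCoh.depth S S = LocCoh.depth R R := by
  letI : Algebra R S := e.toRingHom.toAlgebra
  let l : R ≃ₗ[R] S := LinearEquiv.ofBijective (Algebra.linearMap R S) e.bijective
  haveI : Module.Finite R S := Module.Finite.equiv l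
  have hm : (maximalIdeal R).map (algebraMap R S) = maximalIdeal S := by
    haveI : ((maximalIdeal R).map (algebraMap R S)).IsMaximal :=
      Ideal.map_isMaximal_of_equiv e
    exact IsLocalRing.eq_maximalIdeal ‹_›
  rw [LocCoh.depth, LocCoh.depth, LocH.idealDepth_congr l, LocH.idealDepth_map_eq (R' := S) (maximalIdeal R) S, hm]

/-- A regular pair in an ideal of a Noetherian ring with depth at least two at all its primes. -/
theorem exists_pair_of_depth {A : Type u} [CommRing A] [IsNoetherianRing A] (I : Ideal A)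
    (h : ∀ p : Ideal A, (hp : p.IsPrime) → I ≤ p →
      (2 : ℕ∞) ≤ LocCoh.depth (Localization.AtPrime p) (Localization.AtPrime p)) :
    ∃ a b : A, a ∈ I ∧ b ∈ I ∧ TwoWith a b A := by
  classical
  have hdep : ∀ p : Ideal A, (hp : p.IsPrime) → I ≤ p →
      (2 : ℕ∞) ≤ LocCoh.depth (Localization.AtPrime p) (LocalizedModule p.primeCompl A) := fun p hp hle => h p hp hle
  obtain ⟨a, haI, ha⟩ : ∃ a ∈ I, IsSMulRegular A a := by
    by_contra! hall
    have hsub : (I : Set A) ⊆ ⋃ p ∈ associatedPrimes A A, (p : Set A) := fun a haI => by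
      by_contra hm
      exact hall a haI ((QGorD.isSMulRegular_iff_not_mem a).2 hm)
    have hfin := associatedPrimes.finite A A
    obtain ⟨p, hp, hle⟩ := (Ideal.subset_union_prime_finite hfin (f := id) ⊥ ⊥ fun i hi _ _ => hi.isPrime).1 hsub
    haveI := hp.isPrime
    obtain ⟨-, n, hn⟩ := isAssociatedPrime_iff.1 hp
    exact ZCl.not_ann_eq_of_depth (le_trans (by norm_num) (hdep p inferInstance hle)) n fun c => by
      rw [show p = _ from hn]
      simp
  obtain ⟨b, hbI, hb⟩ : ∃ b ∈ I, IsSMulRegular (A ⧸ (Ideal.span {a} • (⊤ : Submodule A A))) b := by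
    by_contra! hall
    have hsub : (I : Set A) ⊆ ⋃ p ∈ associatedPrimes A (A ⧸ (Ideal.span {a} • (⊤ : Submodule A A))), (p : Set A) :=
      fun b hbI => by
        by_contra hm
        exact hall b hbI ((QGorD.isSMulRegular_iff_not_mem b).2 hm)
    have hfin := associatedPrimes.finite A (A ⧸ (Ideal.span {a} • (⊤ : Submodule A A)))
    obtain ⟨p, hp, hle⟩ := (Ideal.subset_union_prime_finite hfin (f := id) ⊥ ⊥ fun i hi _ _ => hi.isPrime).1 hsub
    haveI := hp.isPrime
    obtain ⟨-, n, hn⟩ := isAssociatedPrime_iff.1 hp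
    exact ZCl.not_ann_quot_of_depth (hdep p inferInstance hle)
      (fun m hm => ⟨1, p.one_notMem, by rw [one_smul]; exact ha.right_eq_zero_of_smul hm⟩) n fun c => by
      rw [show p = _ from hn]
      simp
  refine ⟨a, b, haI, hbI, fun m hm => ha.right_eq_zero_of_smul hm, fun m n hmn => ?_⟩
  have h0 : Submodule.Quotient.mk (p := Ideal.span {a} • (⊤ : Submodule A A)) m = 0 :=
    hb.right_eq_zero_of_smul (by
      rw [← Submodule.Quotient.mk_smul, Submodule.Quotient.mk_eq_zero, hmn, ZCl.mem_span_smul_top_iff]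
      exact ⟨n, rfl⟩)
  rw [Submodule.Quotient.mk_eq_zero, ZCl.mem_span_smul_top_iff] at h0
  obtain ⟨z, hz⟩ := h0
  exact ⟨z, hz.symm⟩

end Groth.Agent.Purity
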