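import Groth.Agent.Purity.Normal

/-!
# Purity over a regular domain
-/

set_option autoImplicit false

universe u v

open scoped TensorProduct

namespace Groth.Agent.Purity

variable {A : Type u} [CommRing A]

/-- A regular pair in an ideal of height at least two of a normal domain. -/
theorem exists_pair_normal [IsDomain A] [IsNoetherianRing A] [IsIntegrallyClosed A] (I : Ideal A)
    (hI : ∀ p : Ideal A, p.IsPrime → I ≤ p → 2 ≤ p.height) :
    ∃ a b : A, a ∈ I ∧ b ∈ I ∧ a ≠ 0 ∧ b ≠ 0 ∧ TwoWith a b A := by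
  classical
  obtain ⟨a, haI, ha0⟩ : ∃ a ∈ I, a ≠ 0 := by
    by_contra! h
    have h2 := hI ⊥ Ideal.isPrime_bot fun x hx => (Ideal.mem_bot).2 (h x hx)
    rw [Ideal.height_bot] at h2
    exact absurd h2 (by norm_num)
  have hfin := Ideal.finite_minimalPrimes_of_isNoetherianRing A (Ideal.span {a})
  obtain ⟨b, hbI, hb⟩ : ∃ b ∈ I, ∀ P ∈ (Ideal.span {a}).minimalPrimes, b ∉ P := by
    by_contra! h
    have hsub : (I : Set A) ⊆ ⋃ i ∈ (↑hfin.toFinset : Set (Ideal A)), ((id i : Ideal A) : Set A) := by
      intro b hb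
      obtain ⟨P, hP, hbP⟩ := h b hb
      exact Set.mem_biUnion (hfin.mem_toFinset.2 hP) hbP
    obtain ⟨P, hP, hle⟩ := (Ideal.subset_union_prime (f := id) ⊥ ⊥ fun i hi _ _ =>
      (hfin.mem_toFinset.1 hi).1.1).1 hsub
    haveI := (hfin.mem_toFinset.1 hP).1.1
    have h1 := hI P inferInstance hle
    have h2 : P.height ≤ 1 := Ideal.height_le_one_of_isPrincipal_of_mem_minimalPrimes _ _ (hfin.mem_toFinset.1 hP)
    exact absurd (h1.trans h2) (by norm_num)
  by_cases hu : IsUnit a
  · obtain ⟨u, rfl⟩ := hu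
    exact ⟨u, u, haI, haI, ha0, ha0, fun m hm => by simpa using hm, fun m n _ =>
      ⟨(↑u⁻¹ : A) * m, by rw [smul_eq_mul, ← mul_assoc, Units.mul_inv, one_mul]⟩⟩
  have hb0 : b ≠ 0 := by
    rintro rfl
    obtain ⟨P, hP⟩ := Ideal.nonempty_minimalPrimes (R := A) (I := Ideal.span {a})
      (fun h => hu (Ideal.span_singleton_eq_top.1 h))
    exact hb P hP (zero_mem _)
  refine ⟨a, b, haI, hbI, ha0, hb0, fun m hm => (mul_eq_zero.1 hm).resolve_left ha0, fun m n hmn => ?_⟩
  rw [smul_eq_mul, smul_eq_mul] at hmn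
  obtain ⟨z, hz⟩ := InvGen.dvd_of_forall_height_one (c := m) ha0 fun P hP hP1 => by
    haveI := hP
    by_cases haP : a ∈ P
    · refine ⟨b, hb P ?_, ⟨n, hmn⟩⟩
      obtain ⟨Q, hQ, hQP⟩ := Ideal.exists_minimalPrimes_le ((Ideal.span_singleton_le_iff_mem P).2 haP)
      haveI := hQ.1.1
      have hQ0 : Q ≠ ⊥ := fun e => ha0 (by
        have := hQ.1.2 (Ideal.mem_span_singleton_self a)
        rwa [e, Ideal.mem_bot] at this)
      rcases hQP.lt_or_eq with hlt | rfl
      · haveI : (⊥ : Ideal A).IsPrime := Ideal.isPrime_bot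
        have h1 := Ideal.height_add_one_le_of_lt_of_isPrime (bot_lt_iff_ne_bot.2 hQ0)
        have h2 := Ideal.height_add_one_le_of_lt_of_isPrime hlt
        rw [Ideal.height_bot, zero_add] at h1
        rw [hP1] at h2
        have : (1 : ℕ∞) + 1 ≤ 1 := (by gcongr : (1 : ℕ∞) + 1 ≤ Q.height + 1).trans h2
        exact absurd this (by norm_num)
      · exact hQ
    · exact ⟨a, haP, dvd_mul_right a m⟩
  exact ⟨z, hz⟩

/-- A torsion free module which is finitely generated over two opens of a regular pair and embeds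
in a lattice is finite. -/
theorem finite_of_two [IsDomain A] [IsNoetherianRing A] {a b : A} (h : TwoWith a b A) (ha : a ≠ 0) (hb : b ≠ 0)
    {C : Type v} [AddCommGroup C] [Module A C] (htf : ∀ (r : A) (c : C), r ≠ 0 → r • c = 0 → c = 0)
    (Ga Gb : Finset C) (hGa : ∀ c : C, ∃ k : ℕ, a ^ k • c ∈ Submodule.span A (Ga : Set C))
    (hGb : ∀ c : C, ∃ k : ℕ, b ^ k • c ∈ Submodule.span A (Gb : Set C)) : Module.Finite A C := by
  classical
  let K := FractionRing A
  let V := LocalizedModule (nonZeroDivisors A) C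
  let f : C →ₗ[A] V := LocalizedModule.mkLinearMap _ C
  have hf : ∀ c, f c = 0 → c = 0 := fun c hc => by
    obtain ⟨r, hr⟩ := (IsLocalizedModule.eq_zero_iff (nonZeroDivisors A) f).1 hc
    exact htf r c (nonZeroDivisors.ne_zero r.2) hr
  have hKa : algebraMap A K a ≠ 0 := (map_ne_zero_iff _ (IsFractionRing.injective A K)).2 ha
  have hspan : ∀ c, f c ∈ Submodule.span K (f '' Ga) := by
    intro c
    obtain ⟨k, hk⟩ := hGa c
    have h1 : f (a ^ k • c) ∈ Submodule.span K (f '' Ga) := by
      have h2 := Submodule.mem_map_of_mem (f := f) hk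
      rw [Submodule.map_span] at h2
      exact Submodule.span_le_restrictScalars A K _ h2
    rw [map_smul, ← algebraMap_smul K, map_pow] at h1
    exact (Submodule.smul_mem_iff _ (pow_ne_zero k hKa)).1 h1
  haveI : Module.Finite K V := by
    refine ⟨⟨Ga.image f, ?_⟩⟩
    rw [Finset.coe_image, eq_top_iff]
    intro v _
    obtain ⟨⟨c, s⟩, hs⟩ := IsLocalizedModule.surj (nonZeroDivisors A) f v
    have h1 : (algebraMap A K (s : A)) • v ∈ Submodule.span K (f '' Ga) := by
      rw [algebraMap_smul]
      exact (show (s : A) • v = f c from hs) ▸ hspan c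
    exact (Submodule.smul_mem_iff _ ((map_ne_zero_iff _ (IsFractionRing.injective A K)).2
      (nonZeroDivisors.ne_zero s.2))).1 h1
  let β := Module.finBasis K V
  obtain ⟨c₀, hc₀⟩ := IsLocalization.exist_integer_multiples (nonZeroDivisors A) ((Ga ∪ Gb) ×ˢ Finset.univ)
    (fun q : C × Fin (Module.finrank K V) => β.repr (f q.1) q.2)
  have hmem : ∀ (m : C), m ∈ Submodule.span A ((Ga ∪ Gb : Finset C) : Set C) →
      ∀ i, ∃ r : A, algebraMap A K r = (c₀ : A) • β.repr (f m) i := by
    intro m hm i
    induction hm using Submodule.span_induction with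
    | mem x hx => exact hc₀ (x, i) (Finset.mem_product.2 ⟨hx, Finset.mem_univ i⟩)
    | zero => exact ⟨0, by simp⟩
    | add x y _ _ hx hy =>
      obtain ⟨r, hr⟩ := hx
      obtain ⟨r', hr'⟩ := hy
      exact ⟨r + r', by rw [map_add, hr, hr', map_add, map_add, Finsupp.add_apply, smul_add]⟩
    | smul t x _ hx =>
      obtain ⟨r, hr⟩ := hx
      refine ⟨t * r, ?_⟩
      rw [map_mul, hr, map_smul, ← algebraMap_smul K t, map_smul, Finsupp.smul_apply, smul_eq_mul, mul_smul_comm]
  have hall : ∀ c i, ∃ r : A, algebraMap A K r = (c₀ : A) • β.repr (f c) i := by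
    intro c i
    obtain ⟨k, hk⟩ := hGa c
    obtain ⟨l, hl⟩ := hGb c
    obtain ⟨r₁, hr₁⟩ := hmem _ (Submodule.span_mono (by simp) hk) i
    obtain ⟨r₂, hr₂⟩ := hmem _ (Submodule.span_mono (by simp) hl) i
    rw [map_smul, ← algebraMap_smul K (a ^ k), map_smul, Finsupp.smul_apply, smul_eq_mul, ← algebraMap_smul K (c₀ : A),
      smul_eq_mul] at hr₁
    rw [map_smul, ← algebraMap_smul K (b ^ l), map_smul, Finsupp.smul_apply, smul_eq_mul, ← algebraMap_smul K (c₀ : A),
      smul_eq_mul] at hr₂
    have e : b ^ l * r₁ = a ^ k * r₂ := IsFractionRing.injective A K (by rw [map_mul, map_mul, hr₁, hr₂]; ring)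
    obtain ⟨z, hz⟩ := h.cancel_pow k l r₁ r₂ e
    refine ⟨z, mul_left_cancel₀ (pow_ne_zero k hKa) ?_⟩
    rw [← map_pow, ← map_mul, show a ^ k * z = r₁ from hz.symm, hr₁, ← algebraMap_smul K (c₀ : A), smul_eq_mul]
    ring
  choose φ hφ using hall
  have hK := IsFractionRing.injective A K
  let Φ : C →ₗ[A] (Fin (Module.finrank K V) → A) :=
    { toFun := φ
      map_add' := fun x y => funext fun i => hK (by
        rw [Pi.add_apply, map_add, hφ, hφ, hφ, map_add, map_add, Finsupp.add_apply, smul_add])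
      map_smul' := fun t x => funext fun i => hK (by
        rw [RingHom.id_apply, Pi.smul_apply, smul_eq_mul, map_mul, hφ, hφ, map_smul, ← algebraMap_smul K t,
          map_smul, Finsupp.smul_apply, smul_eq_mul, mul_smul_comm]) }
  refine Module.Finite.of_injective Φ ((injective_iff_map_eq_zero _).2 fun c hc => hf c (β.ext_elem fun i => ?_))
  rw [map_zero, Finsupp.zero_apply]
  have := hφ c i
  rw [show φ c i = 0 from congrFun hc i, map_zero, eq_comm, ← algebraMap_smul K (c₀ : A), smul_eq_mul] at this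
  exact (mul_eq_zero.1 this).resolve_left fun h0 => nonZeroDivisors.ne_zero c₀.2 (hK (h0.trans (map_zero _).symm))

/-- The prime ideals over which a finite algebra is étale are open below. -/
theorem exists_etale_away [IsNoetherianRing A] {C : Type u} [CommRing C] [Algebra A C] [Module.Finite A C]
    (p : Ideal A) [p.IsPrime]
    (h : ∀ q : Ideal C, (hq : q.IsPrime) → q.comap (algebraMap A C) = p → Algebra.IsEtaleAt A q) :
    ∃ s ∉ p, Algebra.Etale A (Localization.Away (algebraMap A C s)) := by
  haveI : Algebra.FinitePresentation A C := Algebra.FinitePresentation.of_finiteType.1 inferInstance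
  set Z := PrimeSpectrum.comap (algebraMap A C) '' (Algebra.etaleLocus A C)ᶜ
  have hZ : IsClosed Z := PrimeSpectrum.isClosedMap_comap_of_isIntegral _
    (algebraMap_isIntegral_iff.2 (Algebra.IsIntegral.of_finite A C)) _ Algebra.isOpen_etaleLocus.isClosed_compl
  have hp : (⟨p, inferInstance⟩ : PrimeSpectrum A) ∈ Zᶜ := by
    rintro ⟨q, hq, hqp⟩
    exact hq (h q.asIdeal q.2 (congrArg PrimeSpectrum.asIdeal hqp))
  obtain ⟨_, ⟨_, ⟨s, rfl⟩, rfl⟩, hps, hs⟩ :=
    PrimeSpectrum.isBasis_basic_opens.exists_subset_of_mem_open hp hZ.isOpen_compl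
  refine ⟨s, hps, Algebra.basicOpen_subset_etaleLocus_iff_etale.1 fun q hq => ?_⟩
  by_contra hne
  exact hs (show PrimeSpectrum.comap (algebraMap A C) q ∈ PrimeSpectrum.basicOpen s from hq) ⟨q, hne, rfl⟩

/-- A finite algebra which is étale at every prime over `p` after localising at `p` is étale there. -/
theorem isEtaleAt_of_localization {C : Type u} [CommRing C] [Algebra A C] (p : Ideal A) [p.IsPrime]
    [Algebra.Etale (Localization.AtPrime p) (Localization.AtPrime p ⊗[A] C)]
    (q : Ideal C) [q.IsPrime] (hq : q.comap (algebraMap A C) = p) : Algebra.IsEtaleAt A q := by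
  let S := Localization.AtPrime p
  haveI : Algebra.FormallyEtale A S := .of_isLocalization p.primeCompl
  haveI : Algebra.FormallyEtale A (S ⊗[A] C) := .comp A S (S ⊗[A] C)
  haveI : Algebra.FormallyEtale A (C ⊗[A] S) := .of_equiv (Algebra.TensorProduct.comm A S C)
  have hle : Algebra.algebraMapSubmonoid C p.primeCompl ≤ q.primeCompl := by
    rintro _ ⟨s, hs, rfl⟩ hmem
    exact hs (hq ▸ (show s ∈ q.comap (algebraMap A C) from hmem))
  let Cq := Localization.AtPrime q
  letI : Algebra (C ⊗[A] S) Cq :=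
    IsLocalization.localizationAlgebraOfSubmonoidLe (C ⊗[A] S) Cq _ _ hle
  haveI : IsScalarTower C (C ⊗[A] S) Cq :=
    IsLocalization.localization_isScalarTower_of_submonoid_le (C ⊗[A] S) Cq _ _ hle
  haveI : IsScalarTower A (C ⊗[A] S) Cq := IsScalarTower.to₁₃₄ A C (C ⊗[A] S) Cq
  haveI := IsLocalization.isLocalization_of_submonoid_le (C ⊗[A] S) Cq _ _ hle
  haveI : Algebra.FormallyEtale (C ⊗[A] S) Cq :=
    .of_isLocalization (q.primeCompl.map (algebraMap C (C ⊗[A] S)))
  exact Algebra.FormallyEtale.comp A (C ⊗[A] S) Cq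

/-- Purity over a Noetherian regular domain. -/
theorem etale_of_away [IsDomain A] [IsNoetherianRing A]
    (hreg : ∀ p : Ideal A, (hp : p.IsPrime) → IsRegularLocalRing (Localization.AtPrime p)) (I : Ideal A)
    (hI : ∀ p : Ideal A, p.IsPrime → I ≤ p → 2 ≤ p.height)
    {C : Type u} [CommRing C] [Algebra A C] [Module.Finite A C] {a b : A} (haI : a ∈ I) (hbI : b ∈ I)
    (hA : TwoWith a b A) (hC : TwoWith a b C)
    (het : ∀ f ∈ I, Algebra.Etale A (Localization.Away (algebraMap A C f))) : Algebra.Etale A C := by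
  haveI : Algebra.FinitePresentation A C := Algebra.FinitePresentation.of_finiteType.1 inferInstance
  suffices key : ∀ n : ℕ, ∀ p : Ideal A, p.IsPrime → p.height ≤ n →
      ∀ q : Ideal C, (hq : q.IsPrime) → q.comap (algebraMap A C) = p → Algebra.IsEtaleAt A q by
    refine Algebra.etaleLocus_eq_univ_iff_etale.1 (Set.eq_univ_of_forall fun q => ?_)
    haveI : (q.asIdeal.comap (algebraMap A C)).IsPrime := inferInstance
    obtain ⟨n, hn⟩ := ENat.ne_top_iff_exists.1 (Ideal.height_ne_top_of_isPrime (I := q.asIdeal.comap (algebraMap A C)))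
    exact key n _ inferInstance hn.ge q.asIdeal q.2 rfl
  intro n
  induction n using Nat.strong_induction_on with
  | _ n ih =>
    intro p hp hn q hq hqp
    haveI := hp
    by_cases hIp : I ≤ p
    swap
    · obtain ⟨f, hfI, hfp⟩ := SetLike.not_le_iff_exists.1 hIp
      exact (Algebra.basicOpen_subset_etaleLocus_iff_etale.2 (het f hfI))
        (show algebraMap A C f ∉ (⟨q, hq⟩ : PrimeSpectrum C).asIdeal from fun hf => hfp (hqp ▸ hf))
    haveI := hreg p hp
    set S := Localization.AtPrime p
    obtain ⟨d, hd⟩ := SerreReg.exists_dim S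
    have hdp : (p.height : WithBot ℕ∞) = (d : WithBot ℕ∞) :=
      (IsLocalization.AtPrime.ringKrullDim_eq_height p S).symm.trans hd
    have h2 : 2 ≤ d := by
      have := hI p hp hIp
      rw [show p.height = (d : ℕ∞) from WithBot.coe_injective hdp] at this
      exact_mod_cast this
    have hdn : d ≤ n := by
      rw [show p.height = (d : ℕ∞) from WithBot.coe_injective hdp] at hn
      exact_mod_cast hn
    have hmem : ∀ {r}, r ∈ p → algebraMap A S r ∈ IsLocalRing.maximalIdeal S := fun {r} hr =>
      (IsLocalization.AtPrime.to_map_mem_maximal_iff S p r).2 hr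
    haveI : Algebra.Etale S (S ⊗[A] C) := by
      refine etale_of_onPunct (d - 2) S (by rw [hd, Nat.sub_add_cancel h2]) _ _ (hmem (hIp haI)) (hmem (hIp hbI))
        (two_algebraMap_iff.2 (two_of_flat hA S)) (S ⊗[A] C) hC.tensor
        (onPunct_of_gens (algebraMap A S '' {s | Algebra.Etale A (Localization.Away (algebraMap A C s))} ∩
          IsLocalRing.maximalIdeal S) ?_ ?_)
      · rw [Ideal.radical_eq_sInf]
        refine le_sInf fun P ⟨hP, hPp⟩ => ?_
        by_contra hne
        haveI := hPp
        have hPle := IsLocalRing.le_maximalIdeal hPp.ne_top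
        have hlt : P < IsLocalRing.maximalIdeal S := lt_of_le_of_ne hPle fun e => hne e.ge
        haveI : (P.under A).IsPrime := inferInstance
        have hlt' : P.under A < p := by
          refine lt_of_le_of_ne (fun x hx => (IsLocalization.AtPrime.to_map_mem_maximal_iff S p x).1 (hPle hx)) fun e => ?_
          apply hlt.ne
          rw [← IsLocalization.map_under p.primeCompl S P, ← IsLocalization.map_under p.primeCompl S (IsLocalRing.maximalIdeal S)]
          congr 1
          rw [e]
          ext x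
          exact (IsLocalization.AtPrime.to_map_mem_maximal_iff S p x).symm
        obtain ⟨m, hm⟩ := ENat.ne_top_iff_exists.1 (Ideal.height_ne_top_of_isPrime (I := P.under A))
        have hmn : m < n := by
          have h := (Ideal.height_add_one_le_of_lt_of_isPrime hlt').trans hn
          rw [← hm] at h
          have h' : m + 1 ≤ n := by exact_mod_cast h
          omega
        obtain ⟨s, hs, hse⟩ := exists_etale_away (C := C) (P.under A) (ih m hmn _ inferInstance hm.ge)
        by_cases hsp : s ∈ p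
        · exact hs (hP (Ideal.subset_span ⟨⟨s, hse, rfl⟩, hmem hsp⟩))
        · -- then `p` itself is in the open set
          obtain ⟨t, htp, htP⟩ := SetLike.exists_of_lt hlt'
          have : Algebra.Etale A (Localization.Away (algebraMap A C (s * t))) := by
            rw [← Algebra.basicOpen_subset_etaleLocus_iff_etale] at hse ⊢
            refine fun r hr => hse ?_
            rw [map_mul, PrimeSpectrum.basicOpen_mul] at hr
            exact hr.1
          exact (Ideal.IsPrime.mul_notMem inferInstance hs htP)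
            (hP (Ideal.subset_span ⟨⟨s * t, this, rfl⟩, hmem (p.mul_mem_left s htp)⟩))
      · rintro _ ⟨⟨s, hs, rfl⟩, -⟩
        haveI : Algebra.Etale A (Localization.Away (algebraMap A C s)) := hs
        rw [show algebraMap S (S ⊗[A] C) (algebraMap A S s) = (1 : S) ⊗ₜ[A] algebraMap A C s by
          rw [← IsScalarTower.algebraMap_apply, Algebra.TensorProduct.algebraMap_apply']]
        exact Algebra.Etale.of_equiv (IsLocalization.Away.tensorProductEquivTMulRight A S (algebraMap A C s)
          (Localization.Away (algebraMap A C s)))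
    exact isEtaleAt_of_localization p q hqp

/-- Comparison of two algebras with the same restriction to a regular pair. -/
theorem bijective_of_two {a b : A} {C : Type u} [CommRing C] [Algebra A C] {C' : Type u} [CommRing C'] [Algebra A C']
    (hC : TwoWith a b C) (hC' : TwoWith a b C') (φ : C →ₐ[A] C')
    (hka : ∀ c, φ c = 0 → ∃ k : ℕ, a ^ k • c = 0) (hkb : ∀ c, φ c = 0 → ∃ k : ℕ, b ^ k • c = 0)
    (hia : ∀ c', ∃ k : ℕ, a ^ k • c' ∈ φ.range) (hib : ∀ c', ∃ k : ℕ, b ^ k • c' ∈ φ.range) :
    Function.Bijective φ := by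
  have hinj : ∀ c, φ c = 0 → c = 0 := fun c hc => by
    obtain ⟨k, hk⟩ := hka c hc
    exact hC.inj_pow k hk
  refine ⟨(injective_iff_map_eq_zero φ).2 hinj, fun c' => ?_⟩
  obtain ⟨k, c₁, hc₁⟩ := hia c'
  obtain ⟨l, c₂, hc₂⟩ := hib c'
  change φ c₁ = _ at hc₁
  change φ c₂ = _ at hc₂
  have h : b ^ l • c₁ = a ^ k • c₂ :=
    sub_eq_zero.1 (hinj _ (by rw [map_sub, map_smul, map_smul, hc₁, hc₂, smul_comm, sub_self]))
  obtain ⟨z, rfl⟩ := hC.cancel_pow k l c₁ c₂ h
  exact ⟨z, hC'.inj_pow_eq k (by rw [← map_smul, hc₁])⟩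

end Groth.Agent.Purity
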