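import Groth.Agent.Purity.Extend
import Groth.Prelude.Def_FEt

/-!
# Purity: restriction of finite étale covers to a big open is an equivalence
-/

set_option autoImplicit false

universe u

open AlgebraicGeometry CategoryTheory TopologicalSpace Limits

namespace Groth.Agent.Purity

variable {X E : Scheme.{u}} (π : E ⟶ X) {U : X.Opens}

theorem fst_comp_eq : pullback.fst π U.ι ≫ π = pullback.snd π U.ι ≫ U.ι := pullback.condition

/-- Sections of a finite étale cover over an affine chart only depend on the big open. -/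
theorem bijective_fst_app [IsLocallyNoetherian X] (hreg : ∀ x : X, IsRegularLocalRing (X.presheaf.stalk x))
    (hU : ∀ x : X, x ∉ U → (2 : WithBot ℕ∞) ≤ ringKrullDim (X.presheaf.stalk x)) [IsFinite π] [Etale π]
    {V : X.Opens} (hV : IsAffineOpen V) [IsDomain Γ(X, V)] :
    Function.Bijective ((pullback.fst π U.ι).app (π ⁻¹ᵁ V)) := by
  set ι' := pullback.fst π U.ι
  set W := π ⁻¹ᵁ V
  obtain ⟨a, b, haI, hbI, ha, hb, hA⟩ := exists_pair_chart hV hreg hU
  letI : Algebra Γ(X, V) Γ(E, W) := (π.app V).hom.toAlgebra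
  letI : Algebra Γ(X, V) Γ(pullback π U.ι, ι' ⁻¹ᵁ W) := ((ι' ≫ π).app V).hom.toAlgebra
  let φ : Γ(E, W) →ₐ[Γ(X, V)] Γ(pullback π U.ι, ι' ⁻¹ᵁ W) :=
    { (ι'.app W).hom with commutes' := fun r => rfl }
  have hC : TwoWith a b Γ(E, W) := by
    have := two_sections π hV hA ha (W := W) le_rfl
    rw [← π.app_eq_appLE] at this
    exact this
  haveI : Etale (ι' ≫ π) := inferInstance
  have hC' : TwoWith a b Γ(pullback π U.ι, ι' ⁻¹ᵁ W) := by
    have := two_sections (ι' ≫ π) hV hA ha (W := ι' ⁻¹ᵁ W) le_rfl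
    rw [show (ι' ≫ π).appLE V (ι' ⁻¹ᵁ W) le_rfl = (ι' ≫ π).app V from (ι' ≫ π).app_eq_appLE.symm] at this
    exact this
  have hWc : IsCompact (W : Set E) := (hV.preimage π).isCompact
  have hWs : IsQuasiSeparated (W : Set E) := (hV.preimage π).isQuasiSeparated
  have main : ∀ f ∈ outerIdeal U hV,
      (∀ c, φ c = 0 → ∃ k : ℕ, f ^ k • c = 0) ∧ ∀ c', ∃ k : ℕ, f ^ k • c' ∈ φ.range := by
    intro f hf
    set O := E.basicOpen (π.app V f)
    have hO : O ≤ ι'.opensRange := by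
      rw [show ι'.opensRange = π ⁻¹ᵁ U.ι.opensRange from Scheme.Hom.opensRange_pullbackFst U.ι π,
        Scheme.Opens.opensRange_ι, show O = π ⁻¹ᵁ X.basicOpen f from (Scheme.preimage_basicOpen π f).symm]
      exact Scheme.Hom.preimage_mono _ (basicOpen_le_of_mem_outerIdeal hV hf)
    haveI : IsIso (ι'.app O) := Scheme.Hom.isIso_app ι' O hO
    have hbij := ConcreteCategory.bijective_of_isIso (ι'.app O)
    haveI := isLocalization_basicOpen_of_qcqs hWc hWs (π.app V f)
    have hnat : ∀ c : Γ(E, W), ι'.app O (algebraMap Γ(E, W) Γ(E, O) c) =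
        (pullback π U.ι).presheaf.map (homOfLE (Scheme.Hom.preimage_mono ι' (E.basicOpen_le _))).op (ι'.app W c) :=
      fun c => ConcreteCategory.congr_hom (Scheme.Hom.naturality ι' (homOfLE (E.basicOpen_le _)).op) c
    refine ⟨fun c hc => ?_, fun c' => ?_⟩
    · have h0 : algebraMap Γ(E, W) Γ(E, O) c = 0 := hbij.1 (by
        rw [hnat, show ι'.app W c = 0 from hc, map_zero, map_zero])
      obtain ⟨⟨_, k, rfl⟩, hk⟩ := (IsLocalization.map_eq_zero_iff (Submonoid.powers (π.app V f)) _ c).1 h0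
      exact ⟨k, by rw [Algebra.smul_def, map_pow]; exact hk⟩
    · obtain ⟨z, hz⟩ := hbij.2
        ((pullback π U.ι).presheaf.map (homOfLE (Scheme.Hom.preimage_mono ι' (E.basicOpen_le _))).op c')
      obtain ⟨⟨c, ⟨_, k, rfl⟩⟩, hk⟩ := IsLocalization.surj (Submonoid.powers (π.app V f)) z
      have h1 := congrArg (ι'.app O) hk
      rw [map_mul, hz, hnat, hnat] at h1
      -- multiply by a power of `f` to lift the equality from the basic open
      have heq : ι' ⁻¹ᵁ O = (pullback π U.ι).basicOpen (ι'.app W (π.app V f)) := Scheme.preimage_basicOpen ι' _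
      have hWc' : IsCompact ((ι' ⁻¹ᵁ W) : Set (pullback π U.ι :)) := ι'.isCompact_preimage hWc
      have hWs' : IsQuasiSeparated ((ι' ⁻¹ᵁ W) : Set (pullback π U.ι :)) := ι'.isQuasiSeparated_preimage hWs
      have key : ∀ (O' : (pullback π U.ι).Opens) (hle : O' ≤ (ι' ⁻¹ᵁ W)),
          O' = (pullback π U.ι).basicOpen (ι'.app W (π.app V f)) →
          ∀ s t : Γ(pullback π U.ι, (ι' ⁻¹ᵁ W)), (pullback π U.ι).presheaf.map (homOfLE hle).op s =
            (pullback π U.ι).presheaf.map (homOfLE hle).op t →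
          ∃ n : ℕ, ι'.app W (π.app V f) ^ n * s = ι'.app W (π.app V f) ^ n * t := by
        rintro _ hle rfl s t hst
        exact exists_of_res_eq_of_qcqs hWc' hWs' hst
      rw [← map_mul] at h1
      obtain ⟨n, hn⟩ := key _ _ heq _ _ h1
      refine ⟨n + k, ?_⟩
      have e : f ^ (n + k) • c' = φ (f ^ n • c) := by
        rw [Algebra.smul_def, map_smul, Algebra.smul_def (f ^ n) (φ c), map_pow, map_pow, pow_add, mul_assoc]
        show ι'.app W (π.app V f) ^ n * (ι'.app W (π.app V f) ^ k * c') = ι'.app W (π.app V f) ^ n * ι'.app W c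
        rw [← hn, map_pow, mul_comm (ι'.app W (π.app V f) ^ k)]
      rw [e]
      exact ⟨_, rfl⟩
  exact bijective_of_two hC hC' φ (main a haI).1 (main b hbI).1 (main a haI).2 (main b hbI).2

/-- A finite étale cover is the normalisation of `X` in its restriction to a big open. -/
theorem isIso_normalizationDesc [IsLocallyNoetherian X] (hreg : ∀ x : X, IsRegularLocalRing (X.presheaf.stalk x))
    (hU : ∀ x : X, x ∉ U → (2 : WithBot ℕ∞) ≤ ringKrullDim (X.presheaf.stalk x)) [IsFinite π] [Etale π]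
    [QuasiCompact (pullback.fst π U.ι ≫ π)] [QuasiSeparated (pullback.fst π U.ι ≫ π)] :
    IsIso ((pullback.fst π U.ι ≫ π).normalizationDesc (pullback.fst π U.ι) π rfl) := by
  set ι' := pullback.fst π U.ι
  set g := ι' ≫ π
  set ν := g.normalizationDesc ι' π rfl
  haveI : IsFinite (pullback.snd π U.ι) := inferInstance
  have hcov : (⨆ V : {V : X.Opens // IsAffineOpen V ∧ IsDomain Γ(X, V)}, π ⁻¹ᵁ V.1) = ⊤ := by
    rw [← Scheme.Hom.preimage_iSup, iSup_chart hreg, Scheme.Hom.preimage_top]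
  refine (IsZariskiLocalAtTarget.iff_of_iSup_eq_top (P := .isomorphisms _) _ hcov).2 fun V => ?_
  obtain ⟨V, hV, hdom⟩ := V
  haveI := hdom
  refine (isIso_morphismRestrict_iff_isIso_app ν (hV.preimage π)).2 ?_
  have hpre : ν ⁻¹ᵁ π ⁻¹ᵁ V = g.fromNormalization ⁻¹ᵁ V := by
    rw [← Scheme.Hom.comp_preimage, g.normalizationDesc_comp]
  have hbij := bijective_fst_app π hreg hU (U := U) hV
  haveI : IsIso (ι'.app (π ⁻¹ᵁ V)) := (ConcreteCategory.isIso_iff_bijective _).2 hbij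
  letI := (g.app V).hom.toAlgebra
  haveI : Mono (CommRingCat.ofHom (integralClosure Γ(X, V) Γ(pullback π U.ι, g ⁻¹ᵁ V)).val.toRingHom) :=
    ConcreteCategory.mono_of_injective _ Subtype.val_injective
  haveI hmono : ∀ O : (g.normalization).Opens, O = g.fromNormalization ⁻¹ᵁ V → Mono (g.toNormalization.app O) := by
    rintro _ rfl
    rw [show g.toNormalization.app (g.fromNormalization ⁻¹ᵁ V) =
      (g.normalizationObjIso hV).hom ≫ CommRingCat.ofHom
        (integralClosure Γ(X, V) Γ(pullback π U.ι, g ⁻¹ᵁ V)).val.toRingHom ≫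
        (pullback π U.ι).presheaf.map (eqToHom (by simp [← Scheme.Hom.comp_preimage])).op from
      g.toNormalization_app_preimage ⟨V, hV⟩]
    infer_instance
  haveI := hmono _ hpre
  haveI : IsIso (ν.app (π ⁻¹ᵁ V) ≫ g.toNormalization.app (ν ⁻¹ᵁ π ⁻¹ᵁ V)) := by
    rw [show ν.app (π ⁻¹ᵁ V) ≫ g.toNormalization.app (ν ⁻¹ᵁ π ⁻¹ᵁ V) =
        (g.toNormalization ≫ ν).app (π ⁻¹ᵁ V) from rfl,
      Scheme.Hom.congr_app (g.toNormalization_normalizationDesc ι' π rfl) (π ⁻¹ᵁ V)]
    exact IsIso.comp_isIso' inferInstance (Functor.map_isIso _ _)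
  haveI : IsSplitEpi (g.toNormalization.app (ν ⁻¹ᵁ π ⁻¹ᵁ V)) :=
    IsSplitEpi.mk' ⟨inv (ν.app (π ⁻¹ᵁ V) ≫ g.toNormalization.app (ν ⁻¹ᵁ π ⁻¹ᵁ V)) ≫ ν.app (π ⁻¹ᵁ V), by
      rw [Category.assoc, IsIso.inv_hom_id]⟩
  haveI := isIso_of_mono_of_isSplitEpi (g.toNormalization.app (ν ⁻¹ᵁ π ⁻¹ᵁ V))
  exact IsIso.of_isIso_comp_right (ν.app (π ⁻¹ᵁ V)) (g.toNormalization.app (ν ⁻¹ᵁ π ⁻¹ᵁ V))

end Groth.Agent.Purity
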