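import Groth.Agent.Purity.DepthPair
import Groth.Agent.Purity.Restrict

/-!
# Depth two off an open: full faithfulness of restriction of finite étale covers
-/

set_option autoImplicit false
set_option backward.isDefEq.respectTransparency false

universe u

open AlgebraicGeometry CategoryTheory TopologicalSpace Limits Opposite

namespace Groth.Agent.Purity

variable {X Y E : Scheme.{u}}

section

variable (g : Y ⟶ X) [Etale g] {V : X.Opens} (hV : IsAffineOpen V)

include hV in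
theorem eq_zero_of_mul_affine' {a b : Γ(X, V)} (hA : TwoWith a b Γ(X, V)) {O : Y.Opens} (hO : IsAffineOpen O)
    (e : O ≤ g ⁻¹ᵁ V) {z : Γ(Y, O)} (hz : g.appLE V O e a * z = 0) : z = 0 := by
  letI := (g.appLE V O e).hom.toAlgebra
  haveI : Algebra.Etale Γ(X, V) Γ(Y, O) := g.etale_appLE hV hO e
  exact (two_of_flat hA Γ(Y, O)).inj z (by rw [Algebra.smul_def]; exact hz)

include hV in
theorem eq_zero_of_mul' {a b : Γ(X, V)} (hA : TwoWith a b Γ(X, V)) {W : Y.Opens} (e : W ≤ g ⁻¹ᵁ V)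
    {z : Γ(Y, W)} (hz : g.appLE V W e a * z = 0) : z = 0 := by
  refine TopCat.Sheaf.eq_of_locally_eq' Y.sheaf (fun O : {O : Y.Opens // IsAffineOpen O ∧ O ≤ W} => O.1) W
    (fun O => homOfLE O.2.2) (le_iSup_affine W) z 0 fun O => ?_
  rw [map_zero]
  refine eq_zero_of_mul_affine' g hV hA O.2.1 (O.2.2.trans e) ?_
  have := congrArg (Y.presheaf.map (homOfLE O.2.2).op) hz
  rw [map_mul, map_zero, res_appLE] at this
  exact this

include hV in
theorem cancel_affine' {a b : Γ(X, V)} (hA : TwoWith a b Γ(X, V)) {O : Y.Opens} (hO : IsAffineOpen O)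
    (e : O ≤ g ⁻¹ᵁ V) {m n : Γ(Y, O)} (h : g.appLE V O e b * m = g.appLE V O e a * n) :
    ∃ z, m = g.appLE V O e a * z := by
  letI := (g.appLE V O e).hom.toAlgebra
  haveI : Algebra.Etale Γ(X, V) Γ(Y, O) := g.etale_appLE hV hO e
  obtain ⟨z, hz⟩ := (two_of_flat hA Γ(Y, O)).cancel m n (by rw [Algebra.smul_def, Algebra.smul_def]; exact h)
  exact ⟨z, hz.trans (Algebra.smul_def a z)⟩

include hV in
/-- Sections of an étale scheme have depth two along a regular pair. -/
theorem two_sections' {a b : Γ(X, V)} (hA : TwoWith a b Γ(X, V)) {W : Y.Opens} (e : W ≤ g ⁻¹ᵁ V) :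
    letI := (g.appLE V W e).hom.toAlgebra
    TwoWith a b Γ(Y, W) := by
  letI := (g.appLE V W e).hom.toAlgebra
  refine ⟨fun m hm => ?_, fun m n hmn => ?_⟩
  · rw [Algebra.smul_def] at hm
    exact eq_zero_of_mul' g hV hA e hm
  rw [Algebra.smul_def, Algebra.smul_def] at hmn
  change g.appLE V W e b * m = g.appLE V W e a * n at hmn
  have hloc : ∀ O : {O : Y.Opens // IsAffineOpen O ∧ O ≤ W}, ∃ z,
      Y.presheaf.map (homOfLE O.2.2).op m = g.appLE V O.1 (O.2.2.trans e) a * z := fun O => by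
    refine cancel_affine' g hV hA O.2.1 _ (n := Y.presheaf.map (homOfLE O.2.2).op n) ?_
    have := congrArg (Y.presheaf.map (homOfLE O.2.2).op) hmn
    rw [map_mul, map_mul, res_appLE, res_appLE] at this
    exact this
  choose z hz using hloc
  obtain ⟨s, hs, -⟩ := TopCat.Sheaf.existsUnique_gluing' Y.sheaf
    (fun O : {O : Y.Opens // IsAffineOpen O ∧ O ≤ W} => O.1) W (fun O => homOfLE O.2.2) (le_iSup_affine W) z
    (fun i j => by
      show Y.presheaf.map (homOfLE inf_le_left).op (z i) = Y.presheaf.map (homOfLE inf_le_right).op (z j)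
      refine sub_eq_zero.1 (eq_zero_of_mul' g hV hA ((inf_le_left.trans i.2.2).trans e) ?_)
      have h1 := congrArg (Y.presheaf.map (homOfLE (inf_le_left : i.1 ⊓ j.1 ≤ i.1)).op) (hz i)
      have h2 := congrArg (Y.presheaf.map (homOfLE (inf_le_right : i.1 ⊓ j.1 ≤ j.1)).op) (hz j)
      rw [res_res, map_mul, res_appLE] at h1 h2
      rw [mul_sub, ← h1, ← h2, sub_self])
  refine ⟨(show Γ(Y, W) from s), ?_⟩
  rw [Algebra.smul_def]
  show m = g.appLE V W e a * (show Γ(Y, W) from s)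
  refine TopCat.Sheaf.eq_of_locally_eq' Y.sheaf (fun O : {O : Y.Opens // IsAffineOpen O ∧ O ≤ W} => O.1) W
    (fun O => homOfLE O.2.2) (le_iSup_affine W) _ _ fun O => ?_
  show Y.presheaf.map (homOfLE O.2.2).op m = Y.presheaf.map (homOfLE O.2.2).op (g.appLE V W e a * (show Γ(Y, W) from s))
  rw [map_mul, res_appLE, hz O]
  congr 1
  exact (hs O).symm

end

section

variable (π : E ⟶ X) {U : X.Opens}

/-- Sections of a finite étale cover over an affine chart only depend on the big open. -/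
theorem bijective_fst_app' [IsFinite π] [Etale π] [QuasiCompact U.ι]
    {V : X.Opens} (hV : IsAffineOpen V)
    (hpair : ∃ a b : Γ(X, V), a ∈ outerIdeal U hV ∧ b ∈ outerIdeal U hV ∧ TwoWith a b Γ(X, V)) :
    Function.Bijective ((pullback.fst π U.ι).app (π ⁻¹ᵁ V)) := by
  set ι' := pullback.fst π U.ι
  set W := π ⁻¹ᵁ V
  obtain ⟨a, b, haI, hbI, hA⟩ := hpair
  letI : Algebra Γ(X, V) Γ(E, W) := (π.app V).hom.toAlgebra
  letI : Algebra Γ(X, V) Γ(pullback π U.ι, ι' ⁻¹ᵁ W) := ((ι' ≫ π).app V).hom.toAlgebra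
  let φ : Γ(E, W) →ₐ[Γ(X, V)] Γ(pullback π U.ι, ι' ⁻¹ᵁ W) :=
    { (ι'.app W).hom with commutes' := fun r => rfl }
  have hC : TwoWith a b Γ(E, W) := by
    have := two_sections' π hV hA (W := W) le_rfl
    rw [← π.app_eq_appLE] at this
    exact this
  haveI : Etale (ι' ≫ π) := inferInstance
  have hC' : TwoWith a b Γ(pullback π U.ι, ι' ⁻¹ᵁ W) := by
    have := two_sections' (ι' ≫ π) hV hA (W := ι' ⁻¹ᵁ W) le_rfl
    rw [show (ι' ≫ π).appLE V (ι' ⁻¹ᵁ W) le_rfl = (ι' ≫ π).app V from (ι' ≫ π).app_eq_appLE.symm] at this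
    exact this
  have hWc : IsCompact (W : Set E) := (hV.preimage π).isCompact
  have hWs : IsQuasiSeparated (W : Set E) := (hV.preimage π).isQuasiSeparated
  have main : ∀ f ∈ outerIdeal U hV,
      (∀ c, φ c = 0 → ∃ k : ℕ, f ^ k • c = 0) ∧ ∀ c', ∃ k : ℕ, f ^ k • c' ∈ φ.range := by
    intro f hf
    set O := E.basicOpen (π.app V f)
    have hO : O ≤ ι'.opensRange := by
      rw [show ι'.opensRange = π ⁻¹ᵁ U.ι.opensRange from Scheme.Hom.opensRange_pullbackFst U.ι π,
        Scheme.Opens.opensRange_ι, show O = π ⁻¹ᵁ X.basicOpen f from (Scheme.preimage_basicOpen π f).symm]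
      exact Scheme.Hom.preimage_mono _ (basicOpen_le_of_mem_outerIdeal hV hf)
    haveI : IsIso (ι'.app O) := Scheme.Hom.isIso_app ι' O hO
    have hbij := ConcreteCategory.bijective_of_isIso (ι'.app O)
    haveI := isLocalization_basicOpen_of_qcqs hWc hWs (π.app V f)
    have hnat : ∀ c : Γ(E, W), ι'.app O (algebraMap Γ(E, W) Γ(E, O) c) =
        (pullback π U.ι).presheaf.map (homOfLE (Scheme.Hom.preimage_mono ι' (E.basicOpen_le _))).op (ι'.app W c) :=
      fun c => ConcreteCategory.congr_hom (Scheme.Hom.naturality ι' (homOfLE (E.basicOpen_le _)).op) c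
    refine ⟨fun c hc => ?_, fun c' => ?_⟩
    · have h0 : algebraMap Γ(E, W) Γ(E, O) c = 0 := hbij.1 (by
        rw [hnat, show ι'.app W c = 0 from hc, map_zero, map_zero])
      obtain ⟨⟨_, k, rfl⟩, hk⟩ := (IsLocalization.map_eq_zero_iff (Submonoid.powers (π.app V f)) _ c).1 h0
      exact ⟨k, by rw [Algebra.smul_def, map_pow]; exact hk⟩
    · obtain ⟨z, hz⟩ := hbij.2
        ((pullback π U.ι).presheaf.map (homOfLE (Scheme.Hom.preimage_mono ι' (E.basicOpen_le _))).op c')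
      obtain ⟨⟨c, ⟨_, k, rfl⟩⟩, hk⟩ := IsLocalization.surj (Submonoid.powers (π.app V f)) z
      have h1 := congrArg (ι'.app O) hk
      rw [map_mul, hz, hnat, hnat] at h1
      -- multiply by a power of `f` to lift the equality from the basic open
      have heq : ι' ⁻¹ᵁ O = (pullback π U.ι).basicOpen (ι'.app W (π.app V f)) := Scheme.preimage_basicOpen ι' _
      have hWc' : IsCompact ((ι' ⁻¹ᵁ W) : Set (pullback π U.ι :)) := ι'.isCompact_preimage hWc
      have hWs' : IsQuasiSeparated ((ι' ⁻¹ᵁ W) : Set (pullback π U.ι :)) := ι'.isQuasiSeparated_preimage hWs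
      have key : ∀ (O' : (pullback π U.ι).Opens) (hle : O' ≤ (ι' ⁻¹ᵁ W)),
          O' = (pullback π U.ι).basicOpen (ι'.app W (π.app V f)) →
          ∀ s t : Γ(pullback π U.ι, (ι' ⁻¹ᵁ W)), (pullback π U.ι).presheaf.map (homOfLE hle).op s =
            (pullback π U.ι).presheaf.map (homOfLE hle).op t →
          ∃ n : ℕ, ι'.app W (π.app V f) ^ n * s = ι'.app W (π.app V f) ^ n * t := by
        rintro _ hle rfl s t hst
        exact exists_of_res_eq_of_qcqs hWc' hWs' hst
      rw [← map_mul] at h1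
      obtain ⟨n, hn⟩ := key _ _ heq _ _ h1
      refine ⟨n + k, ?_⟩
      have e : f ^ (n + k) • c' = φ (f ^ n • c) := by
        rw [Algebra.smul_def, map_smul, Algebra.smul_def (f ^ n) (φ c), map_pow, map_pow, pow_add, mul_assoc]
        show ι'.app W (π.app V f) ^ n * (ι'.app W (π.app V f) ^ k * c') = ι'.app W (π.app V f) ^ n * ι'.app W c
        rw [← hn, map_pow, mul_comm (ι'.app W (π.app V f) ^ k)]
      rw [e]
      exact ⟨_, rfl⟩
  exact bijective_of_two hC hC' φ (main a haI).1 (main b hbI).1 (main a haI).2 (main b hbI).2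

/-- A finite étale cover is the normalisation of `X` in its restriction to a big open. -/
theorem isIso_normalizationDesc' [QuasiCompact U.ι]
    (hpair : ∀ (V : X.Opens) (hV : IsAffineOpen V),
      ∃ a b : Γ(X, V), a ∈ outerIdeal U hV ∧ b ∈ outerIdeal U hV ∧ TwoWith a b Γ(X, V)) [IsFinite π] [Etale π]
    [QuasiCompact (pullback.fst π U.ι ≫ π)] [QuasiSeparated (pullback.fst π U.ι ≫ π)] :
    IsIso ((pullback.fst π U.ι ≫ π).normalizationDesc (pullback.fst π U.ι) π rfl) := by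
  set ι' := pullback.fst π U.ι
  set g := ι' ≫ π
  set ν := g.normalizationDesc ι' π rfl
  haveI : IsFinite (pullback.snd π U.ι) := inferInstance
  have hcov : (⨆ V : {V : X.Opens // IsAffineOpen V}, π ⁻¹ᵁ V.1) = ⊤ := by
    rw [← Scheme.Hom.preimage_iSup, show (⨆ V : {V : X.Opens // IsAffineOpen V}, V.1) = ⊤ from iSup_affineOpens_eq_top X,
      Scheme.Hom.preimage_top]
  refine (IsZariskiLocalAtTarget.iff_of_iSup_eq_top (P := .isomorphisms _) _ hcov).2 fun V => ?_
  obtain ⟨V, hV⟩ := V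
  refine (isIso_morphismRestrict_iff_isIso_app ν (hV.preimage π)).2 ?_
  have hpre : ν ⁻¹ᵁ π ⁻¹ᵁ V = g.fromNormalization ⁻¹ᵁ V := by
    rw [← Scheme.Hom.comp_preimage, g.normalizationDesc_comp]
  have hbij := bijective_fst_app' π (U := U) hV (hpair V hV)
  haveI : IsIso (ι'.app (π ⁻¹ᵁ V)) := (ConcreteCategory.isIso_iff_bijective _).2 hbij
  letI := (g.app V).hom.toAlgebra
  haveI : Mono (CommRingCat.ofHom (integralClosure Γ(X, V) Γ(pullback π U.ι, g ⁻¹ᵁ V)).val.toRingHom) :=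
    ConcreteCategory.mono_of_injective _ Subtype.val_injective
  haveI hmono : ∀ O : (g.normalization).Opens, O = g.fromNormalization ⁻¹ᵁ V → Mono (g.toNormalization.app O) := by
    rintro _ rfl
    rw [show g.toNormalization.app (g.fromNormalization ⁻¹ᵁ V) =
      (g.normalizationObjIso hV).hom ≫ CommRingCat.ofHom
        (integralClosure Γ(X, V) Γ(pullback π U.ι, g ⁻¹ᵁ V)).val.toRingHom ≫
        (pullback π U.ι).presheaf.map (eqToHom (by simp [← Scheme.Hom.comp_preimage])).op from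
      g.toNormalization_app_preimage ⟨V, hV⟩]
    infer_instance
  haveI := hmono _ hpre
  haveI : IsIso (ν.app (π ⁻¹ᵁ V) ≫ g.toNormalization.app (ν ⁻¹ᵁ π ⁻¹ᵁ V)) := by
    rw [show ν.app (π ⁻¹ᵁ V) ≫ g.toNormalization.app (ν ⁻¹ᵁ π ⁻¹ᵁ V) =
        (g.toNormalization ≫ ν).app (π ⁻¹ᵁ V) from rfl,
      Scheme.Hom.congr_app (g.toNormalization_normalizationDesc ι' π rfl) (π ⁻¹ᵁ V)]
    exact IsIso.comp_isIso' inferInstance (Functor.map_isIso _ _)
  haveI : IsSplitEpi (g.toNormalization.app (ν ⁻¹ᵁ π ⁻¹ᵁ V)) :=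
    IsSplitEpi.mk' ⟨inv (ν.app (π ⁻¹ᵁ V) ≫ g.toNormalization.app (ν ⁻¹ᵁ π ⁻¹ᵁ V)) ≫ ν.app (π ⁻¹ᵁ V), by
      rw [Category.assoc, IsIso.inv_hom_id]⟩
  haveI := isIso_of_mono_of_isSplitEpi (g.toNormalization.app (ν ⁻¹ᵁ π ⁻¹ᵁ V))
  exact IsIso.of_isIso_comp_right (ν.app (π ⁻¹ᵁ V)) (g.toNormalization.app (ν ⁻¹ᵁ π ⁻¹ᵁ V))

end

variable (U : X.Opens)

/-- Morphisms between finite étale covers extend uniquely across a big open. -/
theorem existsUnique_extend' [QuasiCompact U.ι] [QuasiSeparated U.ι]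
    (hpair : ∀ (V : X.Opens) (hV : IsAffineOpen V),
      ∃ a b : Γ(X, V), a ∈ outerIdeal U hV ∧ b ∈ outerIdeal U hV ∧ TwoWith a b Γ(X, V)) {E₁ E₂ : Scheme.{u}}
    (π₁ : E₁ ⟶ X) (π₂ : E₂ ⟶ X) [IsFinite π₁] [Etale π₁] [IsFinite π₂]
    (φ : pullback π₁ U.ι ⟶ pullback π₂ U.ι) (hw : φ ≫ pullback.snd π₂ U.ι = pullback.snd π₁ U.ι) :
    ∃! ψ : E₁ ⟶ E₂, ψ ≫ π₂ = π₁ ∧ pullback.fst π₁ U.ι ≫ ψ = φ ≫ pullback.fst π₂ U.ι := by
  set g := pullback.fst π₁ U.ι ≫ π₁
  haveI : QuasiCompact g := inferInstance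
  haveI : QuasiSeparated g := inferInstance
  haveI hν : IsIso (g.normalizationDesc (pullback.fst π₁ U.ι) π₁ rfl) := isIso_normalizationDesc' π₁ hpair
  set ν := g.normalizationDesc (pullback.fst π₁ U.ι) π₁ rfl
  have H : g = (φ ≫ pullback.fst π₂ U.ι) ≫ π₂ := by
    rw [Category.assoc, pullback.condition, ← Category.assoc, hw]
    exact pullback.condition
  have hν₁ : g.toNormalization ≫ ν = pullback.fst π₁ U.ι := g.toNormalization_normalizationDesc _ _ rfl
  have hν₂ : ν ≫ π₁ = g.fromNormalization := g.normalizationDesc_comp _ _ rfl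
  refine ⟨inv ν ≫ g.normalizationDesc _ π₂ H, ⟨?_, ?_⟩, fun ψ ⟨h₁, h₂⟩ => ?_⟩
  · rw [Category.assoc, g.normalizationDesc_comp, IsIso.inv_comp_eq, hν₂]
  · rw [← hν₁, Category.assoc, IsIso.hom_inv_id_assoc, g.toNormalization_normalizationDesc]
  · rw [IsIso.eq_inv_comp]
    refine Scheme.Hom.normalization.hom_ext _ _ _ π₂ ?_ (by rw [Category.assoc, h₁, hν₂])
      (g.normalizationDesc_comp _ _ H)
    rw [← Category.assoc, hν₁, h₂, g.toNormalization_normalizationDesc]

/-- Restriction of finite étale covers to an open with complement of depth two is fully faithful. -/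
theorem restrict_full_faithful [QuasiCompact U.ι] [QuasiSeparated U.ι]
    (hpair : ∀ (V : X.Opens) (hV : IsAffineOpen V),
      ∃ a b : Γ(X, V), a ∈ outerIdeal U hV ∧ b ∈ outerIdeal U hV ∧ TwoWith a b Γ(X, V)) :
    (FEt.restrict U.ι).Full ∧ (FEt.restrict U.ι).Faithful := by
  have key : ∀ (E₁ E₂ : FEt.Cat X) (φ : (FEt.restrict U.ι).obj E₁ ⟶ (FEt.restrict U.ι).obj E₂),
      ∃! ψ : E₁.left ⟶ E₂.left, ψ ≫ E₂.hom = E₁.hom ∧
        pullback.fst E₁.hom U.ι ≫ ψ = φ.left ≫ pullback.fst E₂.hom U.ι := fun E₁ E₂ φ =>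
    @existsUnique_extend' X U _ _ hpair E₁.left E₂.left E₁.hom E₂.hom E₁.prop.1 E₁.prop.2 E₂.prop.1 φ.left
      (MorphismProperty.Over.w φ)
  have hmap : ∀ (E₁ E₂ : FEt.Cat X) (ψ : E₁ ⟶ E₂),
      ((FEt.restrict U.ι).map ψ).left ≫ pullback.fst E₂.hom U.ι = pullback.fst E₁.hom U.ι ≫ ψ.left :=
    fun E₁ E₂ ψ => pullback.lift_fst _ _ _
  have hF : (FEt.restrict U.ι).Faithful := ⟨fun {E₁ E₂} {ψ₁ ψ₂} h => MorphismProperty.Over.Hom.ext
    ((key E₁ E₂ _).unique ⟨MorphismProperty.Over.w ψ₁, (hmap _ _ ψ₁).symm⟩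
      ⟨MorphismProperty.Over.w ψ₂, (hmap _ _ ψ₂).symm.trans (by rw [h])⟩)⟩
  have hFull : (FEt.restrict U.ι).Full := ⟨fun {E₁ E₂} φ => by
    obtain ⟨ψ, ⟨h₁, h₂⟩, -⟩ := key E₁ E₂ φ
    refine ⟨MorphismProperty.Over.homMk ψ h₁, MorphismProperty.Over.Hom.ext (pullback.hom_ext ?_ ?_)⟩
    · exact (hmap _ _ _).trans h₂
    · exact (MorphismProperty.Over.w ((FEt.restrict U.ι).map (MorphismProperty.Over.homMk ψ h₁))).trans
        (MorphismProperty.Over.w φ).symm⟩
  exact ⟨hFull, hF⟩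

/-- Pairs on charts from the depth of the local rings outside `U`. -/
theorem exists_pair_chart_of_depth [IsLocallyNoetherian X]
    (h : ∀ x : X, x ∉ U → (2 : ℕ∞) ≤ LocCoh.depth (X.presheaf.stalk x) (X.presheaf.stalk x))
    (V : X.Opens) (hV : IsAffineOpen V) :
    ∃ a b : Γ(X, V), a ∈ outerIdeal U hV ∧ b ∈ outerIdeal U hV ∧ TwoWith a b Γ(X, V) := by
  haveI : IsNoetherianRing Γ(X, V) := IsLocallyNoetherian.component_noetherian ⟨V, hV⟩
  refine exists_pair_of_depth _ fun p hp hle => ?_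
  haveI := hp
  set y : PrimeSpectrum Γ(X, V) := ⟨p, hp⟩
  have hy : hV.fromSpec y ∈ V := hV.range_fromSpec.le ⟨y, rfl⟩
  letI := X.presheaf.algebra_section_stalk ⟨_, hy⟩
  haveI : IsLocalization.AtPrime (X.presheaf.stalk (hV.fromSpec y)) p := hV.isLocalization_stalk' y hy
  haveI : IsNoetherianRing (X.presheaf.stalk (hV.fromSpec y)) :=
    IsLocalization.isNoetherianRing p.primeCompl _ inferInstance
  haveI : IsNoetherianRing (Localization.AtPrime p) := IsLocalization.isNoetherianRing p.primeCompl _ inferInstance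
  rw [depth_eq_of_ringEquiv (IsLocalization.algEquiv p.primeCompl (X.presheaf.stalk (hV.fromSpec y))
    (Localization.AtPrime p)).toRingEquiv]
  exact h _ (mem_of_outerIdeal_le hV hle)

/-- Depth two outside `U`: restriction is fully faithful. -/
theorem restrict_full_faithful_of_depth [IsLocallyNoetherian X] [QuasiCompact U.ι]
    (h : ∀ x : X, x ∉ U → (2 : ℕ∞) ≤ LocCoh.depth (X.presheaf.stalk x) (X.presheaf.stalk x)) :
    (FEt.restrict U.ι).Full ∧ (FEt.restrict U.ι).Faithful :=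
  restrict_full_faithful U (exists_pair_chart_of_depth U h)

/-- The local ring of `Spec A` at the closed point. -/
theorem depth_stalk_closedPoint (A : Type u) [CommRing A] [IsNoetherianRing A] [IsLocalRing A] :
    LocCoh.depth ((Spec (CommRingCat.of A)).presheaf.stalk (IsLocalRing.closedPoint A))
      ((Spec (CommRingCat.of A)).presheaf.stalk (IsLocalRing.closedPoint A)) = LocCoh.depth A A := by
  let y : PrimeSpectrum A := IsLocalRing.closedPoint A
  haveI : IsLocalization.AtPrime A (IsLocalRing.maximalIdeal A) := IsLocalization.of_le_isUnit fun s hs =>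
    IsLocalRing.notMem_maximalIdeal.1 hs
  haveI : IsLocalization.AtPrime ((Spec.structureSheaf A).presheaf.stalk y) (IsLocalRing.maximalIdeal A) :=
    inferInstanceAs (IsLocalization.AtPrime ((Spec.structureSheaf A).presheaf.stalk y) y.asIdeal)
  haveI : IsNoetherianRing ((Spec.structureSheaf A).presheaf.stalk y) :=
    IsLocalization.isNoetherianRing (IsLocalRing.maximalIdeal A).primeCompl _ inferInstance
  exact depth_eq_of_ringEquiv (IsLocalization.algEquiv (IsLocalRing.maximalIdeal A).primeCompl A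
    ((Spec.structureSheaf A).presheaf.stalk y)).toRingEquiv

end Groth.Agent.Purity
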