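import Groth.Prelude.Def_FEt
import Groth.Agent.SubDescent.ConnFibres
import Groth.Agent.GeomConn.Basic

/-!
# Full faithfulness of pullback of finite étale covers along morphisms with connected fibres
-/

set_option autoImplicit false
set_option backward.isDefEq.respectTransparency false

universe u

open AlgebraicGeometry CategoryTheory Limits

namespace Groth.Agent.Purity

variable {X S : Scheme.{u}}

theorem univSubmersive_of_universallyClosed (f : X ⟶ S) [UniversallyClosed f] [Surjective f] :
    SGA1.UnivSubmersive f := by
  intro X' S' a b f' H
  haveI : UniversallyClosed f' := MorphismProperty.of_isPullback (P := @UniversallyClosed) H.flip ‹_›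
  haveI : Surjective f' := MorphismProperty.of_isPullback (P := @Surjective) H.flip ‹_›
  exact f'.isClosedMap.isQuotientMap f'.continuous f'.surjective

theorem univSubmersive_of_universallyOpen (f : X ⟶ S) [UniversallyOpen f] [Surjective f] :
    SGA1.UnivSubmersive f := by
  intro X' S' a b f' H
  haveI : UniversallyOpen f' := MorphismProperty.of_isPullback (P := @UniversallyOpen) H.flip ‹_›
  haveI : Surjective f' := MorphismProperty.of_isPullback (P := @Surjective) H.flip ‹_›
  exact f'.isOpenMap.isQuotientMap f'.continuous f'.surjective

theorem surjective_of_geomConnFibres (f : X ⟶ S) (h : SubDescent.GeomConnFibres f) : Surjective f := by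
  refine ⟨fun s => ?_⟩
  obtain ⟨z⟩ := (h _ (SubDescent.geomPoint s)).toNonempty
  exact ⟨pullback.fst f (SubDescent.geomPoint s) z, by
    rw [← Scheme.Hom.comp_apply, pullback.condition, Scheme.Hom.comp_apply, SubDescent.geomPoint_apply]⟩

/-- Pullback of finite étale covers is fully faithful along universally submersive morphisms with
geometrically connected fibres. -/
theorem restrict_full_faithful_of_connFibres (f : X ⟶ S) (hg : SGA1.UnivSubmersive f)
    (h : SubDescent.GeomConnFibres f) : (FEt.restrict f).Full ∧ (FEt.restrict f).Faithful := by
  have hbij : ∀ A B : FEt.Cat S, Function.Bijective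
      ((Over.pullback f).map : (Over.mk A.hom ⟶ Over.mk B.hom) → _) := fun A B => by
    haveI : Etale (Over.mk B.hom).hom := B.prop.2
    exact SubDescent.bijective_pullback_map_of_connFibres f hg h _ _
  refine ⟨⟨fun {A B} φ => ?_⟩, ⟨fun {A B} {u v} e => ?_⟩⟩
  · obtain ⟨ψ, hψ⟩ := (hbij A B).2 (Over.homMk φ.left (MorphismProperty.Over.w φ))
    refine ⟨MorphismProperty.Over.homMk ψ.left (Over.w ψ), MorphismProperty.Over.Hom.ext ?_⟩
    exact congrArg CommaMorphism.left hψ
  · have := (hbij A B).1 (a₁ := Over.homMk u.left (MorphismProperty.Over.w u))
      (a₂ := Over.homMk v.left (MorphismProperty.Over.w v))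
      (Over.OverMorphism.ext (congrArg (fun k : (FEt.restrict f).obj A ⟶ (FEt.restrict f).obj B => k.left) e))
    exact MorphismProperty.Over.Hom.ext (congrArg CommaMorphism.left this)

/-- Over a field, connectedness over an algebraic closure gives connected geometric fibres. -/
theorem geomConnFibres_of_algClosure {k : Type u} [Field k] (f : X ⟶ Spec (CommRingCat.of k))
    [ConnectedSpace ↥(pullback f (Spec.map (CommRingCat.ofHom (algebraMap k (AlgebraicClosure k)))))] :
    SubDescent.GeomConnFibres f := by
  let g := Spec.map (CommRingCat.ofHom (algebraMap k (AlgebraicClosure k)))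
  have h1 : geometrically (ConnectedSpace ·) (pullback.snd f g) := by
    refine geometrically_iff_of_commRing.2 fun L _ _ Z fst snd hZ => ?_
    haveI := GeomConn.geometricallyConnected_Spec (k := AlgebraicClosure k) L
    haveI : UniversallyOpen (Spec.map (CommRingCat.ofHom (algebraMap (AlgebraicClosure k) L))) := inferInstance
    exact hZ.isoPullback.hom.homeomorph.symm.surjective.connectedSpace
      hZ.isoPullback.hom.homeomorph.symm.continuous
  haveI : Subsingleton (Spec (CommRingCat.of k)) := inferInstanceAs (Subsingleton (PrimeSpectrum k))
  haveI : Surjective g := ⟨fun t => ⟨IsLocalRing.closedPoint _, Subsingleton.elim _ _⟩⟩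
  intro K _ _ ξ
  exact GeomConn.geometrically_descends _ GeomConn.connectedSpace_of_surjective f g h1 ξ _ _
    (IsPullback.of_hasPullback f ξ)

end Groth.Agent.Purity
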