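import Groth.Agent.Purity.Chart
import Groth.Agent.RegLocus.Normal
import Mathlib.AlgebraicGeometry.Normalization

/-!
# Extending finite étale covers across codimension two
-/

set_option autoImplicit false

universe u

open AlgebraicGeometry CategoryTheory TopologicalSpace Limits

namespace Groth.Agent.Purity

variable {X Y : Scheme.{u}}

/-- Regular schemes are covered by integral affine charts. -/
theorem iSup_chart [IsLocallyNoetherian X] (hreg : ∀ x : X, IsRegularLocalRing (X.presheaf.stalk x)) :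
    (⨆ V : {V : X.Opens // IsAffineOpen V ∧ IsDomain Γ(X, V)}, V.1) = ⊤ := by
  rw [eq_top_iff]
  intro x _
  obtain ⟨_, ⟨V₀, hV₀, rfl⟩, hx, -⟩ := X.isBasis_affineOpens.exists_subset_of_mem_open (Set.mem_univ x) isOpen_univ
  have hV₀ : IsAffineOpen V₀ := hV₀
  set p := hV₀.primeIdealOf ⟨x, hx⟩
  haveI := isRegularLocalRing_chart hreg hV₀ p.asIdeal
  haveI := RegLoc.isDomain (Localization.AtPrime p.asIdeal)
  haveI : IsNoetherianRing Γ(X, V₀) := IsLocallyNoetherian.component_noetherian ⟨V₀, hV₀⟩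
  obtain ⟨f, hfp, hdom⟩ := RegLocus.exists_isDomain_away p
  haveI := hdom
  haveI := hV₀.isLocalization_basicOpen f
  have hxf : x ∈ X.basicOpen f := by
    have h : p ∈ hV₀.fromSpec ⁻¹ᵁ X.basicOpen f := by
      rw [hV₀.fromSpec_preimage_basicOpen]; exact hfp
    have h' : hV₀.fromSpec p ∈ X.basicOpen f := h
    rw [show hV₀.fromSpec p = x from hV₀.fromSpec_primeIdealOf ⟨x, hx⟩] at h'
    exact h'
  exact Opens.mem_iSup.2 ⟨⟨X.basicOpen f, hV₀.basicOpen f,
    MulEquiv.isDomain (Localization.Away f)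
      (IsLocalization.algEquiv (Submonoid.powers f) Γ(X, X.basicOpen f) (Localization.Away f)).toMulEquiv⟩, hxf⟩

theorem appTop_morphismRestrict {Q : ∀ {R S : Type u} [CommRing R] [CommRing S], (R →+* S) → Prop}
    (hQ : RingHom.RespectsIso @Q) (f : Y ⟶ X) (V : X.Opens) (h : Q (f.app V).hom) : Q (f ∣_ V).appTop.hom := by
  rw [morphismRestrict_appTop]
  have key : ∀ V' : X.Opens, V' = V → Q (f.app V').hom := by rintro _ rfl; exact h
  exact (hQ.cancel_right_isIso (f.app _) _).2 (key _ V.ι_image_top)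

variable {U : X.Opens}

/-- The normalisation of `X` in a finite étale cover of a big open is finite étale. -/
theorem fromNormalization_finite_etale [IsLocallyNoetherian X]
    (hreg : ∀ x : X, IsRegularLocalRing (X.presheaf.stalk x))
    (hU : ∀ x : X, x ∉ U → (2 : WithBot ℕ∞) ≤ ringKrullDim (X.presheaf.stalk x)) (h : Y ⟶ U.toScheme)
    [IsFinite h] [Etale h] [QuasiCompact (h ≫ U.ι)] [QuasiSeparated (h ≫ U.ι)] :
    IsFinite (h ≫ U.ι).fromNormalization ∧ Etale (h ≫ U.ι).fromNormalization := by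
  set g := h ≫ U.ι
  have key : ∀ V : {V : X.Opens // IsAffineOpen V ∧ IsDomain Γ(X, V)},
      (g.fromNormalization.app V.1).hom.Finite ∧ (g.fromNormalization.app V.1).hom.Etale := by
    rintro ⟨V, hV, hdom⟩
    haveI := hdom
    obtain ⟨hfin, het⟩ := finite_etale_chart hV hreg hU h
    letI := (g.app V).hom.toAlgebra
    haveI : Module.Finite Γ(X, V) Γ(Y, g ⁻¹ᵁ V) := hfin
    haveI : Algebra.Etale Γ(X, V) Γ(Y, g ⁻¹ᵁ V) := het
    have htop : integralClosure Γ(X, V) Γ(Y, g ⁻¹ᵁ V) = ⊤ :=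
      eq_top_iff.2 fun c _ => Algebra.IsIntegral.isIntegral c
    let e : integralClosure Γ(X, V) Γ(Y, g ⁻¹ᵁ V) ≃ₐ[Γ(X, V)] Γ(Y, g ⁻¹ᵁ V) :=
      (Subalgebra.equivOfEq _ _ htop).trans Subalgebra.topEquiv
    haveI : Module.Finite Γ(X, V) (integralClosure Γ(X, V) Γ(Y, g ⁻¹ᵁ V)) :=
      Module.Finite.equiv e.symm.toLinearEquiv
    haveI : Algebra.Etale Γ(X, V) (integralClosure Γ(X, V) Γ(Y, g ⁻¹ᵁ V)) := Algebra.Etale.of_equiv e.symm
    rw [g.fromNormalization_app hV]
    exact ⟨(RingHom.finite_respectsIso.cancel_right_isIso _ _).2 (RingHom.finite_algebraMap.2 inferInstance),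
      (RingHom.Etale.respectsIso.cancel_right_isIso _ _).2 (RingHom.etale_algebraMap.2 inferInstance)⟩
  refine ⟨(IsZariskiLocalAtTarget.iff_of_iSup_eq_top (P := @IsFinite) _ (iSup_chart hreg)).2 fun V => ?_,
    (IsZariskiLocalAtTarget.iff_of_iSup_eq_top (P := @Etale) _ (iSup_chart hreg)).2 fun V => ?_⟩
  · haveI : IsAffine V.1.toScheme := V.2.1
    exact HasAffineProperty.iff_of_isAffine.2 ⟨V.2.1.preimage g.fromNormalization,
      appTop_morphismRestrict RingHom.finite_respectsIso _ _ (key V).1⟩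
  · haveI : IsAffine V.1.toScheme := V.2.1
    haveI : IsAffine (g.fromNormalization ⁻¹ᵁ V.1).toScheme := V.2.1.preimage g.fromNormalization
    exact HasRingHomProperty.iff_of_isAffine.2 (appTop_morphismRestrict RingHom.Etale.respectsIso _ _ (key V).2)

/-- A finite étale cover of a big open is the restriction of one of the whole scheme. -/
theorem exists_extension [IsLocallyNoetherian X] (hreg : ∀ x : X, IsRegularLocalRing (X.presheaf.stalk x))
    (hU : ∀ x : X, x ∉ U → (2 : WithBot ℕ∞) ≤ ringKrullDim (X.presheaf.stalk x)) (h : Y ⟶ U.toScheme)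
    [IsFinite h] [Etale h] [QuasiCompact (h ≫ U.ι)] [QuasiSeparated (h ≫ U.ι)] :
    ∃ (Z : Scheme.{u}) (ρ : Z ⟶ X), IsFinite ρ ∧ Etale ρ ∧
      ∃ e : Y ≅ pullback ρ U.ι, e.hom ≫ pullback.snd ρ U.ι = h := by
  set g := h ≫ U.ι
  obtain ⟨hf, het⟩ := fromNormalization_finite_etale hreg hU h
  refine ⟨g.normalization, g.fromNormalization, hf, het, ?_⟩
  have sq : IsPullback (𝟙 Y) h g U.ι := by
    refine IsPullback.of_isLimit' ⟨by simp [g]⟩ (PullbackCone.IsLimit.mk _ (fun s => s.fst) (fun s => by simp)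
      (fun s => ?_) (fun s m h₁ _ => by simpa using h₁))
    rw [← cancel_mono U.ι, Category.assoc]
    exact s.condition
  let e₀ : Y ≅ pullback g U.ι := sq.isoPullback
  have he : e₀.hom ≫ pullback.snd g U.ι = h := sq.isoPullback_hom_snd
  haveI : IsFinite (pullback.snd g U.ι) := by
    rw [← MorphismProperty.cancel_left_of_respectsIso @IsFinite e₀.hom, he]; infer_instance
  haveI : Smooth U.ι := inferInstance
  refine ⟨e₀ ≪≫ asIso (pullback.snd g U.ι).toNormalization ≪≫ asIso (g.normalizationPullback U.ι), ?_⟩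
  simp only [Iso.trans_hom, asIso_hom, Category.assoc, Scheme.Hom.normalizationPullback_snd,
    Scheme.Hom.toNormalization_fromNormalization, he]

end Groth.Agent.Purity
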