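import Groth.Agent.Purity.Restrict

/-!
# Purity of finite étale covers: the equivalence
-/

set_option autoImplicit false
set_option backward.isDefEq.respectTransparency false

universe u

open AlgebraicGeometry CategoryTheory TopologicalSpace Limits

namespace Groth.Agent.Purity

variable {X : Scheme.{u}} (U : X.Opens)

/-- Morphisms between finite étale covers extend uniquely across a big open. -/
theorem existsUnique_extend [IsLocallyNoetherian X] [QuasiCompact U.ι]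
    (hreg : ∀ x : X, IsRegularLocalRing (X.presheaf.stalk x))
    (hU : ∀ x : X, x ∉ U → (2 : WithBot ℕ∞) ≤ ringKrullDim (X.presheaf.stalk x)) {E₁ E₂ : Scheme.{u}}
    (π₁ : E₁ ⟶ X) (π₂ : E₂ ⟶ X) [IsFinite π₁] [Etale π₁] [IsFinite π₂]
    (φ : pullback π₁ U.ι ⟶ pullback π₂ U.ι) (hw : φ ≫ pullback.snd π₂ U.ι = pullback.snd π₁ U.ι) :
    ∃! ψ : E₁ ⟶ E₂, ψ ≫ π₂ = π₁ ∧ pullback.fst π₁ U.ι ≫ ψ = φ ≫ pullback.fst π₂ U.ι := by
  set g := pullback.fst π₁ U.ι ≫ π₁
  haveI : QuasiCompact g := inferInstance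
  haveI : QuasiSeparated g := inferInstance
  haveI hν : IsIso (g.normalizationDesc (pullback.fst π₁ U.ι) π₁ rfl) := isIso_normalizationDesc π₁ hreg hU
  set ν := g.normalizationDesc (pullback.fst π₁ U.ι) π₁ rfl
  have H : g = (φ ≫ pullback.fst π₂ U.ι) ≫ π₂ := by
    rw [Category.assoc, pullback.condition, ← Category.assoc, hw]
    exact pullback.condition
  have hν₁ : g.toNormalization ≫ ν = pullback.fst π₁ U.ι := g.toNormalization_normalizationDesc _ _ rfl
  have hν₂ : ν ≫ π₁ = g.fromNormalization := g.normalizationDesc_comp _ _ rfl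
  refine ⟨inv ν ≫ g.normalizationDesc _ π₂ H, ⟨?_, ?_⟩, fun ψ ⟨h₁, h₂⟩ => ?_⟩
  · rw [Category.assoc, g.normalizationDesc_comp, IsIso.inv_comp_eq, hν₂]
  · rw [← hν₁, Category.assoc, IsIso.hom_inv_id_assoc, g.toNormalization_normalizationDesc]
  · rw [IsIso.eq_inv_comp]
    refine Scheme.Hom.normalization.hom_ext _ _ _ π₂ ?_ (by rw [Category.assoc, h₁, hν₂])
      (g.normalizationDesc_comp _ _ H)
    rw [← Category.assoc, hν₁, h₂, g.toNormalization_normalizationDesc]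

/-- Restriction of finite étale covers to an open with complement of codimension two is an equivalence. -/
theorem restrict_isEquivalence [IsLocallyNoetherian X] [QuasiCompact U.ι]
    (hreg : ∀ x : X, IsRegularLocalRing (X.presheaf.stalk x))
    (hU : ∀ x : X, x ∉ U → (2 : WithBot ℕ∞) ≤ ringKrullDim (X.presheaf.stalk x)) :
    (FEt.restrict U.ι).IsEquivalence := by
  have key : ∀ (E₁ E₂ : FEt.Cat X) (φ : (FEt.restrict U.ι).obj E₁ ⟶ (FEt.restrict U.ι).obj E₂),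
      ∃! ψ : E₁.left ⟶ E₂.left, ψ ≫ E₂.hom = E₁.hom ∧
        pullback.fst E₁.hom U.ι ≫ ψ = φ.left ≫ pullback.fst E₂.hom U.ι := fun E₁ E₂ φ =>
    @existsUnique_extend X U _ _ hreg hU E₁.left E₂.left E₁.hom E₂.hom E₁.prop.1 E₁.prop.2 E₂.prop.1 φ.left
      (MorphismProperty.Over.w φ)
  have hmap : ∀ (E₁ E₂ : FEt.Cat X) (ψ : E₁ ⟶ E₂),
      ((FEt.restrict U.ι).map ψ).left ≫ pullback.fst E₂.hom U.ι = pullback.fst E₁.hom U.ι ≫ ψ.left :=
    fun E₁ E₂ ψ => pullback.lift_fst _ _ _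
  have hF : (FEt.restrict U.ι).Faithful := ⟨fun {E₁ E₂} {ψ₁ ψ₂} h => MorphismProperty.Over.Hom.ext
    ((key E₁ E₂ _).unique ⟨MorphismProperty.Over.w ψ₁, (hmap _ _ ψ₁).symm⟩
      ⟨MorphismProperty.Over.w ψ₂, (hmap _ _ ψ₂).symm.trans (by rw [h])⟩)⟩
  have hFull : (FEt.restrict U.ι).Full := ⟨fun {E₁ E₂} φ => by
    obtain ⟨ψ, ⟨h₁, h₂⟩, -⟩ := key E₁ E₂ φ
    refine ⟨MorphismProperty.Over.homMk ψ h₁, MorphismProperty.Over.Hom.ext (pullback.hom_ext ?_ ?_)⟩
    · exact (hmap _ _ _).trans h₂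
    · exact (MorphismProperty.Over.w ((FEt.restrict U.ι).map (MorphismProperty.Over.homMk ψ h₁))).trans
        (MorphismProperty.Over.w φ).symm⟩
  have hE : (FEt.restrict U.ι).EssSurj := ⟨fun E => by
    haveI : IsFinite E.hom := E.prop.1
    haveI : Etale E.hom := E.prop.2
    obtain ⟨Z, ρ, hρ, hρe, e, he⟩ := exists_extension hreg hU E.hom
    exact ⟨MorphismProperty.Over.mk ⊤ ρ ⟨hρ, hρe⟩,
      ⟨(MorphismProperty.Over.isoMk (A := E) (B := (FEt.restrict U.ι).obj (MorphismProperty.Over.mk ⊤ ρ ⟨hρ, hρe⟩)) e he).symm⟩⟩⟩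
  exact { }

end Groth.Agent.Purity
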