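import Mathlib

/-!
Separating elements in invariant subalgebras of normal subgroups: if the inertia groups over a prime lie in `K`, then for elements outside
`K` there are Chase-Harrison-Rosenberg systems in the `K`-invariants, up to an element outside the prime.
-/

set_option autoImplicit false
universe u v w

open scoped Pointwise

noncomputable section

namespace Groth.Agent.Purity.CHR

variable (R : Type u) [CommRing R] {A : Type v} [CommRing A] [Algebra R A] {H : Type w} [Group H]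
  [MulSemiringAction H A] [SMulCommClass H R A]

variable (A) in
/-- The invariants of a subgroup. -/
abbrev fix (K : Subgroup H) : Subalgebra R A := FixedPoints.subalgebra R A K

lemma mem_fix {K : Subgroup H} {z : A} : z ∈ fix R A K ↔ ∀ h ∈ K, h • z = z :=
  ⟨fun hz h hh => hz ⟨h, hh⟩, fun hz h => hz h h.2⟩

variable {R}

lemma smul_mem_fix {K : Subgroup H} [K.Normal] {z : A} (hz : z ∈ fix R A K) (σ : H) : σ • z ∈ fix R A K :=
  (mem_fix R).2 fun h hh => by
    have h1 := (mem_fix R).1 hz (σ⁻¹ * h * σ⁻¹⁻¹) (Subgroup.Normal.conj_mem inferInstance h hh σ⁻¹)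
    rw [inv_inv] at h1
    calc h • σ • z = σ • ((σ⁻¹ * h * σ) • z) := by
          rw [← mul_smul, ← mul_smul, mul_assoc σ⁻¹, mul_inv_cancel_left]
      _ = σ • z := by rw [h1]

lemma fix_anti {K K' : Subgroup H} (hK : K ≤ K') {z : A} (hz : z ∈ fix R A K') : z ∈ fix R A K :=
  (mem_fix R).2 fun h hh => (mem_fix R).1 hz h (hK hh)

variable [IsNoetherianRing R] [Module.Finite R A] [Finite H]

/-- An automorphism outside `K` moves the invariants of `K` by the unit ideal over `p`. -/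
theorem exists_mem_span_sub (hinj : Function.Injective (algebraMap R A)) {p : Ideal R} [p.IsPrime]
    {K : Subgroup H} [K.Normal] (hI : ∀ P : Ideal A, P.IsPrime → P.comap (algebraMap R A) = p → P.inertia H ≤ K) {σ : H}
    (hσ : σ ∉ K) :
    ∃ s ∉ p, algebraMap R (fix R A K) s ∈
      Ideal.span (Set.range fun d : fix R A K => d - ⟨σ • (d : A), smul_mem_fix d.2 σ⟩) := by
  set D := fix R A K
  set J : Ideal D := Ideal.span (Set.range fun d : D => d - ⟨σ • (d : A), smul_mem_fix d.2 σ⟩)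
  by_contra! hno
  haveI : Algebra.IsIntegral R A := Algebra.IsIntegral.of_finite R A
  haveI : IsNoetherian R A := isNoetherian_of_isNoetherianRing_of_finite R A
  haveI : Module.Finite R D := Module.Finite.of_fg (IsNoetherian.noetherian (Subalgebra.toSubmodule D))
  haveI : Algebra.IsIntegral R D := Algebra.IsIntegral.of_finite R D
  haveI : Algebra.IsIntegral D A := Algebra.IsIntegral.tower_top (R := R)
  obtain ⟨Q, hJQ, hQ, hQp⟩ := Ideal.exists_ideal_over_prime_of_isIntegral p J fun s hs => by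
    by_contra h
    exact hno s h hs
  obtain ⟨P, -, hP, hPQ⟩ := Ideal.exists_ideal_over_prime_of_isIntegral Q (⊥ : Ideal A) fun d hd =>
    (show d = 0 from Subtype.ext (Ideal.mem_bot.1 hd)) ▸ Q.zero_mem
  have hPp : P.comap (algebraMap R A) = p := by
    rw [← hQp, ← hPQ, Ideal.comap_comap, ← IsScalarTower.algebraMap_eq]
  have hsub : ∀ d : D, σ • (d : A) - d ∈ P := fun d => by
    have h1 : d - ⟨σ • (d : A), smul_mem_fix d.2 σ⟩ ∈ Q := hJQ (Ideal.subset_span ⟨d, rfl⟩)
    rw [← hPQ] at h1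
    rw [← neg_sub]
    exact P.neg_mem h1
  haveI : SMulCommClass K D A := ⟨fun κ d a => by
    show (κ : H) • ((d : A) * a) = (d : A) * ((κ : H) • a)
    rw [smul_mul', (mem_fix R).1 d.2 κ κ.2]⟩
  haveI : Algebra.IsInvariant D A K := ⟨fun a h => ⟨⟨a, h⟩, rfl⟩⟩
  haveI : (σ • P).IsPrime := hP.smul σ
  obtain ⟨τ, hτ⟩ := Algebra.IsInvariant.exists_smul_of_under_eq D A K P (σ • P) (by
    ext d
    show algebraMap D A d ∈ P ↔ algebraMap D A d ∈ σ • P
    rw [Ideal.mem_pointwise_smul_iff_inv_smul_mem]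
    have h2 : σ • (σ⁻¹ • (d : A)) - σ⁻¹ • (d : A) ∈ P := hsub ⟨σ⁻¹ • (d : A), smul_mem_fix d.2 _⟩
    rw [smul_inv_smul] at h2
    exact ⟨fun h => by simpa using P.sub_mem h h2, fun h => by simpa using P.add_mem h2 h⟩)
  let ρ : H := (τ : H)⁻¹ * σ
  have hρ : ρ • P = P := by
    show ((τ : H)⁻¹ * σ) • P = P
    rw [mul_smul, show σ • P = (τ : H) • P from hτ, inv_smul_smul]
  have hρd : ∀ d : D, ρ • (d : A) - d ∈ P := fun d => by
    show ((τ : H)⁻¹ * σ) • (d : A) - d ∈ P
    rw [mul_smul, (mem_fix R).1 (smul_mem_fix d.2 σ) _ (K.inv_mem τ.2)]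
    exact hsub d
  haveI : P.LiesOver Q := ⟨hPQ.symm⟩
  have hmap : P = P.map ((MulSemiringAction.toRingEquiv H A ρ : A ≃+* A) : A →+* A) := hρ.symm
  let e : (A ⧸ P) ≃+* (A ⧸ P) := Ideal.quotientEquiv P P (MulSemiringAction.toRingEquiv H A ρ) hmap
  have he : ∀ x : A, e (Ideal.Quotient.mk P x) = Ideal.Quotient.mk P (ρ • x) := fun x =>
    Ideal.quotientEquiv_mk P P _ hmap x
  let f : (A ⧸ P) ≃ₐ[D ⧸ Q] (A ⧸ P) := AlgEquiv.ofRingEquiv (f := e) (fun q => by
    obtain ⟨d, rfl⟩ := Ideal.Quotient.mk_surjective q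
    show e (Ideal.Quotient.mk P (d : A)) = Ideal.Quotient.mk P (d : A)
    rw [he]
    exact Ideal.Quotient.eq.2 (hρd d))
  obtain ⟨κ, hκ⟩ := Ideal.Quotient.stabilizerHom_surjective K Q P f
  have hκρ : ∀ x : A, ρ • x - (κ : H) • x ∈ P := fun x => by
    refine Ideal.Quotient.eq.1 ?_
    have h1 := congrArg (fun g : (A ⧸ P) ≃ₐ[D ⧸ Q] (A ⧸ P) => g (Ideal.Quotient.mk P x)) hκ
    exact (he x).symm.trans h1.symm
  have hin : (κ : H)⁻¹ * ρ ∈ P.inertia H := by
    rw [AddSubgroup.mem_inertia]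
    intro x
    have h3 : (κ : H) • P = P := κ.2
    show ((κ : H)⁻¹ * ρ) • x - x ∈ P
    rw [mul_smul, ← inv_smul_smul (κ : H) x, ← smul_sub, inv_smul_smul, ← Ideal.mem_pointwise_smul_iff_inv_smul_mem, h3]
    exact hκρ x
  refine hσ ?_
  have h2 := K.mul_mem (K.mul_mem τ.2 (κ : K).2) (hI P hP hPp hin)
  rwa [show (τ : H) * (κ : H) * ((κ : H)⁻¹ * ρ) = σ by simp [ρ, mul_assoc]] at h2

/-- Chase-Harrison-Rosenberg systems. -/
theorem exists_chr (hinj : Function.Injective (algebraMap R A)) {p : Ideal R} [p.IsPrime]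
    {K : Subgroup H} [K.Normal] (hI : ∀ P : Ideal A, P.IsPrime → P.comap (algebraMap R A) = p → P.inertia H ≤ K)
    (σs : Finset H) (hσs : ∀ σ ∈ σs, σ ∉ K) :
    ∃ s ∉ p, ∃ (ι : Type) (_ : Fintype ι) (x y : ι → A), (∀ k, x k ∈ fix R A K) ∧ (∀ k, y k ∈ fix R A K) ∧
      ∑ k, x k * y k = algebraMap R A s ∧ ∀ σ ∈ σs, ∑ k, x k * σ • y k = 0 := by
  classical
  induction σs using Finset.induction_on with
  | empty => exact ⟨1, ‹p.IsPrime›.one_notMem, Unit, inferInstance, fun _ => 1, fun _ => 1, fun _ => one_mem _,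
      fun _ => one_mem _, by simp, by simp⟩
  | @insert σ S hσS ih =>
    obtain ⟨s₂, hs₂, ι₂, _, x₂, y₂, hx₂, hy₂, hsum₂, hz₂⟩ := ih fun τ hτ => hσs τ (Finset.mem_insert_of_mem hτ)
    obtain ⟨s₁, hs₁, hmem⟩ := exists_mem_span_sub hinj hI (hσs σ (Finset.mem_insert_self σ S))
    obtain ⟨m, a, g, hag⟩ := Submodule.mem_span_set'.1 hmem
    choose d hd using fun k => (g k).2
    have hag' : ∑ k, (a k : A) * ((d k : A) - σ • (d k : A)) = algebraMap R A s₁ := by
      refine Eq.trans ?_ (congrArg Subtype.val hag)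
      rw [AddSubmonoidClass.coe_finsetSum]
      refine Finset.sum_congr rfl fun k _ => ?_
      rw [← hd k]
      rfl
    let x₁ : Option (Fin m) → A := fun o => o.elim (-∑ k, (a k : A) * σ • (d k : A)) fun k => a k
    let y₁ : Option (Fin m) → A := fun o => o.elim 1 fun k => d k
    have hx₁ : ∀ o, x₁ o ∈ fix R A K := fun o => by
      cases o with
      | none => exact neg_mem (sum_mem fun k _ => mul_mem (a k).2 (smul_mem_fix (d k).2 σ))
      | some k => exact (a k).2
    have hy₁ : ∀ o, y₁ o ∈ fix R A K := fun o => by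
      cases o with
      | none => exact one_mem _
      | some k => exact (d k).2
    refine ⟨s₁ * s₂, fun h => (‹p.IsPrime›.mem_or_mem h).elim hs₁ hs₂, Option (Fin m) × ι₂, inferInstance,
      fun q => x₁ q.1 * x₂ q.2, fun q => y₁ q.1 * y₂ q.2, fun q => mul_mem (hx₁ q.1) (hx₂ q.2),
      fun q => mul_mem (hy₁ q.1) (hy₂ q.2), ?_, fun τ hτ => ?_⟩
    · have h1 : ∑ o, x₁ o * y₁ o = algebraMap R A s₁ := by
        rw [Fintype.sum_option, ← hag']
        simp only [x₁, y₁, Option.elim, mul_one, mul_sub, Finset.sum_sub_distrib]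
        abel
      rw [map_mul, ← h1, ← hsum₂, Finset.sum_mul_sum, Fintype.sum_prod_type]
      exact Finset.sum_congr rfl fun o _ => Finset.sum_congr rfl fun k _ => by ring
    · have h2 : ∑ q : Option (Fin m) × ι₂, x₁ q.1 * x₂ q.2 * τ • (y₁ q.1 * y₂ q.2) =
          (∑ o, x₁ o * τ • y₁ o) * ∑ k, x₂ k * τ • y₂ k := by
        rw [Finset.sum_mul_sum, Fintype.sum_prod_type]
        exact Finset.sum_congr rfl fun o _ => Finset.sum_congr rfl fun k _ => by rw [smul_mul']; ring
      rw [h2]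
      rcases Finset.mem_insert.1 hτ with rfl | hτ
      · rw [Fintype.sum_option]
        simp only [x₁, y₁, Option.elim, smul_one, mul_one, neg_add_cancel, zero_mul]
      · rw [hz₂ τ hτ, mul_zero]

end Groth.Agent.Purity.CHR
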