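import Groth.Agent.Purity.CodimOne
import Groth.Agent.Purity.CHR
import Groth.Agent.SerreReg.Descent

/-!
# The Galois group of a normal extension of a regular local ring is generated by inertia in codimension one
-/

set_option autoImplicit false

universe u v w

open scoped Pointwise

namespace Groth.Agent.Purity

/-- Heights of primes do not increase along injective integral extensions of domains. -/
theorem height_le_one_of_comap {R : Type u} [CommRing R] {A : Type v} [CommRing A] [IsDomain A] [Algebra R A]
    [Algebra.IsIntegral R A] [IsDomain R] (hinj : Function.Injective (algebraMap R A)) (P : Ideal A) [P.IsPrime]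
    (h : (P.comap (algebraMap R A)).height ≤ 1) : P.height ≤ 1 := by
  refine (Ideal.height_le_iff (n := 1)).2 fun Q hQ hQP => ?_
  by_cases h0 : Q = ⊥
  · rw [h0, Ideal.height_bot]; exact zero_lt_one
  exfalso
  haveI := hQ
  haveI : (⊥ : Ideal R).IsPrime := Ideal.isPrime_bot
  have h1 : (⊥ : Ideal R) < Q.comap (algebraMap R A) :=
    bot_lt_iff_ne_bot.2 fun e => h0 (Ideal.eq_bot_of_comap_eq_bot (R := R) e)
  have h2 : Q.comap (algebraMap R A) < P.comap (algebraMap R A) := Ideal.IsIntegral.comap_lt_comap hQP
  have e1 := Ideal.height_add_one_le_of_lt_of_isPrime h1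
  have e2 := Ideal.height_add_one_le_of_lt_of_isPrime h2
  rw [Ideal.height_bot, zero_add] at e1
  have : (1 : ℕ∞) + 1 ≤ 1 :=
    (by gcongr : (1 : ℕ∞) + 1 ≤ (Q.comap (algebraMap R A)).height + 1).trans (e2.trans h)
  exact absurd this (by norm_num)

/-- S15802. -/
theorem iSup_inertia_eq_top
    (R : Type u) [CommRing R] [IsRegularLocalRing R]
    (A : Type v) [CommRing A] [IsDomain A] [IsIntegrallyClosed A] [IsLocalRing A]
    [Algebra R A] [Module.Finite R A] (hinj : Function.Injective (algebraMap R A))
    (hres : Function.Surjective (IsLocalRing.residue A ∘ algebraMap R A))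
    (H : Type w) [Group H] [Finite H] [MulSemiringAction H A] [SMulCommClass H R A] [FaithfulSMul H A]
    (hfix : ∀ a : A, (∀ h : H, h • a = a) → a ∈ Set.range (algebraMap R A)) :
    (⨆ P : {P : Ideal A // P.IsPrime ∧ P.height = 1}, P.1.inertia H) = ⊤ := by
  classical
  haveI := RegLoc.isDomain R
  haveI := UFDLib.ufd_of_isRegularLocalRing R
  haveI : Fintype H := Fintype.ofFinite H
  haveI : Algebra.IsIntegral R A := Algebra.IsIntegral.of_finite R A
  set N : Subgroup H := ⨆ P : {P : Ideal A // P.IsPrime ∧ P.height = 1}, P.1.inertia H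
  haveI hN : N.Normal := by
    refine ⟨fun n hn g => ?_⟩
    refine (show N ≤ N.comap (MulAut.conj g).toMonoidHom from iSup_le fun P => ?_) hn
    intro x hx
    have hmem : g * x * g⁻¹ ∈ (g • P.1).inertia H := by
      intro a
      have h1 : x • (g⁻¹ • a) - g⁻¹ • a ∈ P.1 := hx (g⁻¹ • a)
      have h2 := Ideal.smul_mem_pointwise_smul g _ P.1 h1
      rw [smul_sub, smul_inv_smul] at h2
      show (g * x * g⁻¹) • a - a ∈ g • P.1
      rw [mul_smul, mul_smul]
      exact h2
    haveI := P.2.1
    have hP' : (g • P.1).IsPrime ∧ (g • P.1).height = 1 := by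
      refine ⟨P.2.1.smul g, ?_⟩
      rw [Ideal.pointwise_smul_def]
      exact (RingEquiv.height_map (MulSemiringAction.toRingEquiv H A g) P.1).trans P.2.2
    exact le_iSup (fun Q : {P : Ideal A // P.IsPrime ∧ P.height = 1} => Q.1.inertia H) ⟨g • P.1, hP'⟩ hmem
  set C := CHR.fix R A N
  haveI : IsNoetherian R A := isNoetherian_of_isNoetherianRing_of_finite R A
  haveI : Module.Finite R C := Module.Finite.of_fg (IsNoetherian.noetherian (Subalgebra.toSubmodule C))
  have hI : ∀ p : Ideal R, p.IsPrime → p.height ≤ 1 →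
      ∀ P : Ideal A, P.IsPrime → P.comap (algebraMap R A) = p → P.inertia H ≤ N := by
    intro p hp hle P hP hPp
    haveI := hP
    rcases (eq_or_lt_of_le (height_le_one_of_comap hinj P (hPp ▸ hle))).symm.imp_left Order.lt_one_iff.1 with h0 | h1
    · have hP0 : P = ⊥ := by
        by_contra hne
        haveI : (⊥ : Ideal A).IsPrime := Ideal.isPrime_bot
        have h := Ideal.height_add_one_le_of_lt_of_isPrime (bot_lt_iff_ne_bot.2 hne)
        rw [Ideal.height_bot, h0] at h
        exact absurd h (by norm_num)
      intro x hx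
      have hx1 : x = 1 := FaithfulSMul.eq_of_smul_eq_smul (α := A) fun a => by
        rw [one_smul, ← sub_eq_zero, ← Ideal.mem_bot, ← hP0]
        exact hx a
      rw [hx1]; exact N.one_mem
    · exact le_iSup (fun Q : {P : Ideal A // P.IsPrime ∧ P.height = 1} => Q.1.inertia H) ⟨P, hP, h1⟩
  -- the trace from `C` to `R`
  have hT : ∀ c : C, ∃ r : R, algebraMap R A r = ∑ q : H ⧸ N, q.out • (c : A) := by
    intro c
    refine hfix _ fun h => ?_
    rw [Finset.smul_sum]
    refine Fintype.sum_equiv (MulAction.toPerm h) _ _ fun q => ?_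
    show h • q.out • (c : A) = (h • q).out • (c : A)
    have hmem : ((h • q).out)⁻¹ * (h * q.out) ∈ N := by
      rw [← QuotientGroup.eq, QuotientGroup.out_eq']
      exact (congrArg (h • ·) (QuotientGroup.out_eq' q)).symm
    calc h • q.out • (c : A) = (h • q).out • (((h • q).out)⁻¹ * (h * q.out)) • (c : A) := by
          rw [← mul_smul, ← mul_smul, mul_inv_cancel_left]
      _ = (h • q).out • (c : A) := by rw [(CHR.mem_fix R).1 c.2 _ hmem]
  choose T hT using hT
  let t : C →ₗ[R] R :=
    { toFun := T
      map_add' := fun c c' => hinj (by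
        rw [map_add, hT, hT, hT, AddMemClass.coe_add]; simp only [smul_add, Finset.sum_add_distrib])
      map_smul' := fun r c => hinj (by
        rw [RingHom.id_apply, smul_eq_mul, map_mul, hT, hT, ← Algebra.smul_def, Finset.smul_sum]
        refine Finset.sum_congr rfl fun q _ => ?_
        rw [Subalgebra.coe_smul, smul_comm]) }
  haveI : Algebra.FiniteType R C := Module.Finite.finiteType C
  haveI : Algebra.Etale R C := by
    haveI := SerreReg.isRegularRing_of_isRegularLocalRing R
    refine etale_of_codim_one' (fun p hp => IsRegularRing.isRegularLocalRing_localization (R := R) p) ?_ ?_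
    · intro a b ha hb hab
      obtain ⟨hinjA, hcan⟩ := two_normal hab ha A hinj
      refine ⟨fun m hm => Subtype.ext (hinjA _ (congrArg Subtype.val hm)), fun m n hmn => ?_⟩
      obtain ⟨z, hz⟩ := hcan (m : A) (n : A) (congrArg Subtype.val hmn)
      refine ⟨⟨z, (CHR.mem_fix R).2 fun h hh => sub_eq_zero.1 (hinjA _ ?_)⟩, Subtype.ext hz⟩
      rw [smul_sub, ← smul_comm h a z, ← hz, (CHR.mem_fix R).1 m.2 h hh, sub_self]
    · intro p hp hle
      haveI := hp
      obtain ⟨s, hs, ι, hι, x, y, hx, hy, hsum, hzero⟩ :=
        CHR.exists_chr hinj (hI p hp hle) (Finset.univ.filter fun σ => σ ∉ N) (fun σ hσ => (Finset.mem_filter.1 hσ).2)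
      refine ⟨s, hs, etale_away_of_trace (fun i => (⟨x i, hx i⟩ : C)) (fun i => ⟨y i, hy i⟩) t s ?_ ?_ ?_⟩
      · exact Subtype.ext (by rw [AddSubmonoidClass.coe_finsetSum]; exact hsum)
      all_goals
        intro c
        refine Subtype.ext ?_
        rw [Subalgebra.coe_smul, AddSubmonoidClass.coe_finsetSum]
        simp only [Algebra.smul_def, Subalgebra.coe_algebraMap, t, LinearMap.coe_mk, AddHom.coe_mk, hT,
          MulMemClass.coe_mul, smul_mul', Finset.sum_mul]
        rw [Finset.sum_comm, Finset.sum_eq_single (((1 : H) : H ⧸ N))]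
      all_goals try exact fun h => absurd (Finset.mem_univ _) h
      · -- the class of one
        have h1 : (((1 : H) : H ⧸ N)).out ∈ N := (QuotientGroup.eq_one_iff _).1 (QuotientGroup.out_eq' _)
        simp only [(CHR.mem_fix R).1 c.2 _ h1, (CHR.mem_fix R).1 (hy _) _ h1]
        rw [← hsum, Finset.sum_mul]
        exact Finset.sum_congr rfl fun i _ => by ring
      · intro q _ hq
        have h0 := hzero q.out (Finset.mem_filter.2 ⟨Finset.mem_univ _, fun h => hq ((QuotientGroup.out_eq' q).symm.trans ((QuotientGroup.eq_one_iff _).2 h))⟩)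
        calc ∑ i, q.out • y i * q.out • (c : A) * x i = (∑ i, x i * q.out • y i) * q.out • (c : A) := by
              rw [Finset.sum_mul]; exact Finset.sum_congr rfl fun i _ => by ring
          _ = 0 := by rw [h0, zero_mul]
      · have h1 : (((1 : H) : H ⧸ N)).out ∈ N := (QuotientGroup.eq_one_iff _).1 (QuotientGroup.out_eq' _)
        simp only [(CHR.mem_fix R).1 c.2 _ h1, (CHR.mem_fix R).1 (hx _) _ h1]
        rw [← hsum, Finset.sum_mul]
        exact Finset.sum_congr rfl fun i _ => by ring
      · intro q _ hq
        have hq' : q.out ∉ N := fun h => hq ((QuotientGroup.out_eq' q).symm.trans ((QuotientGroup.eq_one_iff _).2 h))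
        have h0 := hzero (q.out)⁻¹ (Finset.mem_filter.2 ⟨Finset.mem_univ _, fun h => hq' (by simpa using N.inv_mem h)⟩)
        calc ∑ i, q.out • x i * q.out • (c : A) * y i =
            q.out • ((∑ i, x i * (q.out)⁻¹ • y i) * (c : A)) := by
              rw [Finset.sum_mul, Finset.smul_sum]
              refine Finset.sum_congr rfl fun i _ => ?_
              rw [smul_mul', smul_mul', smul_inv_smul]; ring
          _ = 0 := by rw [h0, zero_mul, smul_zero]
  -- `C = R`
  haveI : IsLocalHom C.val.toRingHom := ⟨fun c hc => by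
    obtain ⟨w, hw⟩ := hc
    have hwN : (↑w⁻¹ : A) ∈ C := (CHR.mem_fix R).2 fun h hh => by
      refine w.isUnit.mul_left_cancel ?_
      rw [Units.mul_inv]
      conv_lhs => rw [show (w : A) = h • (w : A) by
        rw [show (w : A) = (c : A) from hw, (CHR.mem_fix R).1 c.2 h hh]]
      rw [← smul_mul', Units.mul_inv, smul_one]
    exact IsUnit.of_mul_eq_one ⟨_, hwN⟩ (Subtype.ext (by
      show (c : A) * ↑w⁻¹ = 1
      rw [show (c : A) = (w : A) from hw.symm, Units.mul_inv]))⟩
  haveI : IsLocalRing C := RingHom.domain_isLocalRing C.val.toRingHom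
  haveI : IsLocalHom (algebraMap R A) := RingHom.IsIntegral.isLocalHom (algebraMap_isIntegral_iff.2 inferInstance) hinj
  haveI : IsLocalHom (algebraMap R C) := ⟨fun r hr => IsUnit.of_map (algebraMap R A) _ (hr.map C.val)⟩
  have hsurj : Function.Surjective (algebraMap R C) := by
    have hle : (⊤ : Submodule R C) ≤ LinearMap.range (Algebra.linearMap R C) ⊔
        IsLocalRing.maximalIdeal R • (⊤ : Submodule R C) := by
      intro c _
      obtain ⟨r, hr⟩ := hres (IsLocalRing.residue A (c : A))
      have hm : c - algebraMap R C r ∈ (IsLocalRing.maximalIdeal C) := by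
        rw [← IsLocalRing.maximalIdeal_comap C.val.toRingHom, Ideal.mem_comap]
        have : IsLocalRing.residue A ((c : A) - algebraMap R A r) = 0 := by
          rw [map_sub, sub_eq_zero]; exact hr.symm
        rw [IsLocalRing.residue_eq_zero_iff] at this
        exact this
      rw [← Algebra.FormallyUnramified.map_maximalIdeal (R := R)] at hm
      refine Submodule.mem_sup.2 ⟨algebraMap R C r, ⟨r, rfl⟩, c - algebraMap R C r, ?_, add_sub_cancel _ _⟩
      rw [Ideal.smul_top_eq_map]
      exact hm
    have h2 := Submodule.le_of_le_smul_of_le_jacobson_bot Module.Finite.fg_top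
      (IsLocalRing.jacobson_eq_maximalIdeal ⊥ bot_ne_top).ge hle
    intro c
    exact h2 (Submodule.mem_top (x := c))
  rw [eq_top_iff]
  intro σ _
  by_contra hσ
  let f : H → (A →* A) := fun h => (MulSemiringAction.toRingHom H A h).toMonoidHom
  have hf : Function.Injective f := fun h h' e => FaithfulSMul.eq_of_smul_eq_smul fun a => DFunLike.congr_fun e a
  have hli := (linearIndependent_monoidHom A A).comp f hf
  let g : H → A := fun h => (if h ∈ N then 1 else 0) - if σ⁻¹ * h ∈ N then 1 else 0
  have hg : ∑ h, g h • (fun h => (f h : A → A)) h = 0 := by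
    funext a
    simp only [Finset.sum_apply, Pi.smul_apply, smul_eq_mul, g, sub_mul, ite_mul, one_mul, zero_mul,
      Finset.sum_sub_distrib, Pi.zero_apply]
    rw [sub_eq_zero]
    set S := ∑ h : H, if h ∈ N then h • a else 0
    have hS : S ∈ C := (CHR.mem_fix R).2 fun n hn => by
      rw [Finset.smul_sum]
      refine Fintype.sum_equiv (Equiv.mulLeft n) _ _ fun h => ?_
      show n • (if h ∈ N then h • a else 0) = if n * h ∈ N then (n * h) • a else 0
      by_cases hh : h ∈ N
      · rw [if_pos hh, if_pos (N.mul_mem hn hh), mul_smul]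
      · rw [if_neg hh, if_neg (fun hc => hh ((Subgroup.mul_mem_cancel_left N hn).1 hc)), smul_zero]
    obtain ⟨r, hr⟩ := hsurj ⟨S, hS⟩
    have hσS : σ • S = S := by
      rw [show S = algebraMap R A r from (congrArg Subtype.val hr).symm, smul_algebraMap]
    show (∑ h : H, if h ∈ N then h • a else 0) = ∑ h : H, if σ⁻¹ * h ∈ N then h • a else 0
    refine hσS.symm.trans ?_
    rw [Finset.smul_sum]
    refine Fintype.sum_equiv (Equiv.mulLeft σ) _ _ fun h => ?_
    show σ • (if h ∈ N then h • a else 0) = if σ⁻¹ * (σ * h) ∈ N then (σ * h) • a else 0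
    rw [inv_mul_cancel_left, smul_ite, smul_zero, mul_smul]
  have h1 := Fintype.linearIndependent_iff.1 hli g hg 1
  have hσ' : σ⁻¹ ∉ N := fun hc => hσ (by simpa using N.inv_mem hc)
  simp only [g, if_pos N.one_mem, mul_one, if_neg hσ', sub_zero] at h1
  exact one_ne_zero h1

end Groth.Agent.Purity
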