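import Groth.Agent.Purity.Hull

/-!
# Algebras which are étale on the punctured spectrum
-/

set_option autoImplicit false

universe u v w

open scoped TensorProduct

namespace Groth.Agent.Purity

variable {R : Type u} [CommRing R]

/-- `B` is étale over the punctured spectrum of `R`. -/
def OnPunct (R : Type u) [CommRing R] [IsLocalRing R] (B : Type v) [CommRing B] [Algebra R B] : Prop :=
  ∀ f ∈ IsLocalRing.maximalIdeal R, Algebra.Etale R (Localization.Away (algebraMap R B f))

/-- A flat module inherits a regular pair of the ring. -/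
theorem two_of_flat {a b : R} (h : TwoWith a b R) (F : Type v) [CommRing F] [Algebra R F] [Module.Flat R F] :
    TwoWith a b F :=
  TwoWith.of_equiv (TensorProduct.rid R F) ((h.tensor (S := F)) |> fun h' =>
    { inj := fun m hm => h'.inj m (by rw [algebraMap_smul]; exact hm)
      cancel := fun m n hmn => by
        obtain ⟨z, hz⟩ := h'.cancel m n (by rw [algebraMap_smul, algebraMap_smul]; exact hmn)
        exact ⟨z, by rw [hz, algebraMap_smul]⟩ })

theorem onPunct_of_gens [IsNoetherianRing R] [IsLocalRing R] {B : Type v} [CommRing B] [Algebra R B]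
    [Algebra.FiniteType R B] (T : Set R) (hT : IsLocalRing.maximalIdeal R ≤ (Ideal.span T).radical)
    (h : ∀ t ∈ T, Algebra.Etale R (Localization.Away (algebraMap R B t))) : OnPunct R B := by
  haveI : Algebra.FinitePresentation R B := Algebra.FinitePresentation.of_finiteType.1 inferInstance
  intro f hf
  rw [← Algebra.basicOpen_subset_etaleLocus_iff_etale]
  intro q hq
  obtain ⟨t, ht, htq⟩ : ∃ t ∈ T, algebraMap R B t ∉ q.asIdeal := by
    by_contra! hall
    exact hq (show f ∈ q.asIdeal.comap (algebraMap R B) from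
      ((Ideal.IsPrime.radical_le_iff inferInstance).2 ((Ideal.span_le (I := q.asIdeal.comap (algebraMap R B))).2 hall))
        (hT hf))
  exact (Algebra.basicOpen_subset_etaleLocus_iff_etale.2 (h t ht)) htq

theorem OnPunct.tensor [IsLocalRing R] {B : Type u} [CommRing B] [Algebra R B] [Module.Finite R B]
    (h : OnPunct R B) (S : Type u) [CommRing S] [IsLocalRing S] [IsNoetherianRing S] [Algebra R S]
    (hS : IsLocalRing.maximalIdeal S ≤ ((IsLocalRing.maximalIdeal R).map (algebraMap R S)).radical) :
    OnPunct S (S ⊗[R] B) := by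
  refine onPunct_of_gens (algebraMap R S '' IsLocalRing.maximalIdeal R) hS ?_
  rintro _ ⟨f, hf, rfl⟩
  haveI := h f hf
  rw [show algebraMap S (S ⊗[R] B) (algebraMap R S f) = (1 : S) ⊗ₜ[R] algebraMap R B f by
    rw [← IsScalarTower.algebraMap_apply, Algebra.TensorProduct.algebraMap_apply']]
  exact Algebra.Etale.of_equiv (IsLocalization.Away.tensorProductEquivTMulRight R S (algebraMap R B f)
    (Localization.Away (algebraMap R B f)))

/-- Transfer along a map which is bijective over every `D(f)`. -/
theorem OnPunct.of_algHom [IsLocalRing R] {M : Type v} [CommRing M] [Algebra R M] {E : Type w} [CommRing E]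
    [Algebra R E] (φ : M →ₐ[R] E) (h : OnPunct R M)
    (hker : ∀ f ∈ IsLocalRing.maximalIdeal R, ∀ m, φ m = 0 → ∃ N : ℕ, f ^ N • m = 0)
    (him : ∀ f ∈ IsLocalRing.maximalIdeal R, ∀ e, ∃ N : ℕ, f ^ N • e ∈ φ.range) : OnPunct R E := by
  intro f hf
  haveI := h f hf
  have hbij : Function.Bijective (Localization.awayMap φ.toRingHom (algebraMap R M f)) := by
    refine ⟨Localization.awayMap_injective_iff.2 fun m hm => ?_, Localization.awayMap_surjective_iff.2 fun e => ?_⟩
    · obtain ⟨N, hN⟩ := hker f hf m hm
      exact ⟨N, by rw [← map_pow, ← smul_eq_mul, algebraMap_smul, hN]⟩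
    · obtain ⟨N, m, hm⟩ := him f hf e
      exact ⟨m, N, hm.trans (by rw [← algebraMap_smul E, smul_eq_mul, map_pow]; simp)⟩
  rw [show algebraMap R E f = φ (algebraMap R M f) from (φ.commutes f).symm]
  exact Algebra.Etale.of_equiv (AlgEquiv.ofBijective (Localization.awayMapₐ φ (algebraMap R M f)) hbij)

/-- Torsion-freeness. -/
theorem smul_eq_zero_of_two [IsDomain R] {a b : R} {M : Type v} [CommRing M] [Algebra R M] (h : TwoWith a b M)
    [Module.Flat R (Localization.Away (algebraMap R M a))] {r : R} (hr : r ≠ 0) {m : M} (hm : r • m = 0) :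
    m = 0 := by
  obtain ⟨N, hN⟩ := eq_zero_of_pow_smul (f := a) hr (k := 1) (by rwa [pow_one])
  exact h.inj_pow N hN

/-- Change of regular pair. -/
theorem TwoWith.change [IsDomain R] {a b a' b' : R} {M : Type v} [CommRing M] [Algebra R M] (h : TwoWith a b M)
    [Module.Flat R (Localization.Away (algebraMap R M a))]
    [Module.Flat R (Localization.Away (algebraMap R M b))]
    (h' : TwoWith a' b' R) (hb : b ≠ 0) (ha' : a' ≠ 0) : TwoWith a' b' M where
  inj m hm := smul_eq_zero_of_two h ha' hm
  cancel m n hmn := by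
    have step : ∀ c : R, c ≠ 0 → Module.Flat R (Localization.Away (algebraMap R M c)) →
        ∃ (k : ℕ) (z : M), c ^ k • m = a' • z := by
      intro c hc _
      set F := Localization.Away (algebraMap R M c)
      obtain ⟨z, hz⟩ := (two_of_flat h' F).cancel (algebraMap M F m) (algebraMap M F n)
        (by rw [← map_smul_loc, hmn, map_smul_loc])
      obtain ⟨⟨z₀, ⟨_, k, rfl⟩⟩, hzk⟩ := IsLocalization.surj (Submonoid.powers (algebraMap R M c)) z
      simp only [map_pow, ← IsScalarTower.algebraMap_apply] at hzk
      have h0 : algebraMap M F (c ^ k • m - a' • z₀) = 0 := by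
        rw [map_sub, map_smul_loc, map_smul_loc, hz, ← hzk, sub_eq_zero, smul_comm, ← algebraMap_smul F (c ^ k),
          smul_eq_mul, map_pow, mul_comm]
      obtain ⟨⟨_, j, rfl⟩, hj⟩ := (IsLocalization.map_eq_zero_iff (Submonoid.powers (algebraMap R M c)) F _).1 h0
      simp only [← map_pow, ← smul_eq_mul, algebraMap_smul] at hj
      exact ⟨k, z₀, sub_eq_zero.1 (smul_eq_zero_of_two h (pow_ne_zero j hc) hj)⟩
    by_cases ha : a = 0
    · exact ⟨0, by rw [smul_zero]; exact h.inj m (by rw [ha, zero_smul])⟩
    obtain ⟨k, z₀, hk⟩ := step a ha inferInstance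
    obtain ⟨l, z₁, hl⟩ := step b hb inferInstance
    have h1 : b ^ l • z₀ = a ^ k • z₁ := by
      refine sub_eq_zero.1 (smul_eq_zero_of_two h ha' ?_)
      rw [smul_sub, smul_comm, ← hk, smul_comm a' (a ^ k), ← hl, smul_comm, sub_self]
    obtain ⟨w, rfl⟩ := h.cancel_pow k l z₀ z₁ h1
    exact ⟨w, h.inj_pow_eq k (by rw [hk, smul_comm])⟩

/-- A pair regular on `M` is a pair regular on `M` viewed over a quotient, and conversely. -/
theorem two_algebraMap_iff {S : Type v} [CommRing S] [Algebra R S] {M : Type w} [AddCommGroup M] [Module R M]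
    [Module S M] [IsScalarTower R S M] {a b : R} :
    TwoWith (algebraMap R S a) (algebraMap R S b) M ↔ TwoWith a b M := by
  constructor <;> intro h <;> constructor
  · intro m hm; exact h.inj m (by rwa [algebraMap_smul])
  · intro m n hmn
    obtain ⟨z, hz⟩ := h.cancel m n (by rwa [algebraMap_smul, algebraMap_smul])
    exact ⟨z, by rw [hz, algebraMap_smul]⟩
  · intro m hm; exact h.inj m (by rwa [algebraMap_smul] at hm)
  · intro m n hmn
    obtain ⟨z, hz⟩ := h.cancel m n (by rwa [algebraMap_smul, algebraMap_smul] at hmn)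
    exact ⟨z, by rw [hz, algebraMap_smul]⟩

end Groth.Agent.Purity
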