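import Groth.Agent.Purity.Two

/-!
# A free algebra, unramified off a regular pair, is étale
-/

set_option autoImplicit false

universe u v

open scoped TensorProduct

namespace Groth.Agent.Purity

variable {R : Type u} [CommRing R] {B : Type v} [CommRing B] [Algebra R B]

theorem exists_pow_smul_mem_sq [Algebra.FiniteType R B] (a : R)
    [Algebra.FormallyUnramified R (Localization.Away (algebraMap R B a))] :
    ∃ N : ℕ, ∀ k ∈ KaehlerDifferential.ideal R B, a ^ N • k ∈ KaehlerDifferential.ideal R B ^ 2 := by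
  classical
  set K := KaehlerDifferential.ideal R B
  have h0 : Subsingleton (LocalizedModule (Submonoid.powers (algebraMap R B a)) (KaehlerDifferential R B)) :=
    (IsLocalizedModule.iso (Submonoid.powers (algebraMap R B a))
      (KaehlerDifferential.map R R B (Localization.Away (algebraMap R B a)))).subsingleton_congr.2
        ((Algebra.formallyUnramified_iff _ _).1 inferInstance)
  have h1 : ∀ k : K, ∃ N : ℕ, a ^ N • (k : B ⊗[R] B) ∈ K ^ 2 := by
    intro k
    obtain ⟨_, ⟨N, rfl⟩, hN⟩ := (LocalizedModule.subsingleton_iff.1 h0) (KaehlerDifferential.fromIdeal R B k)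
    refine ⟨N, ?_⟩
    simp only [← map_pow, algebraMap_smul] at hN
    have h2 : KaehlerDifferential.fromIdeal R B (a ^ N • k) = 0 := by
      rw [LinearMap.map_smul_of_tower, hN]
    exact (Ideal.toCotangent_eq_zero K (a ^ N • k)).1 h2
  obtain ⟨G, hG⟩ := KaehlerDifferential.ideal_fg R B
  choose N hN using h1
  have hGK : ∀ g : G, (g : B ⊗[R] B) ∈ K := fun g => hG.le (Submodule.subset_span g.2)
  refine ⟨∑ g : G, N ⟨g, hGK g⟩, fun k hk => ?_⟩
  replace hk : k ∈ Submodule.span (B ⊗[R] B) (G : Set (B ⊗[R] B)) := hG.ge hk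
  induction hk using Submodule.span_induction with
  | mem x hx =>
    have hle := Finset.single_le_sum (f := fun g : G => N ⟨g, hGK g⟩) (fun _ _ => Nat.zero_le _)
      (Finset.mem_univ (⟨x, hx⟩ : G))
    obtain ⟨d, hd⟩ := Nat.exists_eq_add_of_le hle
    rw [hd, pow_add, mul_comm, mul_smul]
    exact Submodule.smul_of_tower_mem _ _ (hN ⟨x, hGK ⟨x, hx⟩⟩)
  | zero => rw [smul_zero]; exact zero_mem _
  | add x y _ _ hx hy => rw [smul_add]; exact add_mem hx hy
  | smul t x _ hx => rw [smul_comm]; exact Submodule.smul_mem _ t hx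

theorem exists_killer {C : Type v} [CommRing C] [Algebra R C] (K : Ideal C) (hK : K.FG) (a : R) (N : ℕ)
    (h : ∀ k ∈ K, a ^ N • k ∈ K ^ 2) :
    ∃ (M : ℕ) (k₀ : C), k₀ ∈ K ∧ ∀ k ∈ K, (algebraMap R C a ^ M + k₀) * k = 0 := by
  classical
  haveI : Module.Finite C K := Module.Finite.iff_fg.2 hK
  let f : Module.End C K := LinearMap.lsmul C K (algebraMap R C a ^ N)
  have hf : LinearMap.range f ≤ K • (⊤ : Submodule C K) := by
    rintro _ ⟨k, rfl⟩
    have h2 := h k k.2
    rw [Submodule.mem_smul_top_iff, smul_eq_mul, ← pow_two]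
    show algebraMap R C a ^ N * (k : C) ∈ K ^ 2
    rwa [← map_pow, ← smul_eq_mul, algebraMap_smul]
  obtain ⟨q, hq, -, hqK, hqf⟩ := LinearMap.exists_monic_and_natDegree_eq_and_coeff_mem_pow_and_aeval_eq_zero C f K hf
  refine ⟨N * q.natDegree, ∑ i ∈ Finset.range q.natDegree, q.coeff i * algebraMap R C a ^ (N * i),
    sum_mem fun i hi => Ideal.mul_mem_right _ _
      (Ideal.pow_le_self (by have := Finset.mem_range.1 hi; omega) (hqK i)), fun k hk => ?_⟩
  have hev : Polynomial.aeval f q =
      LinearMap.lsmul C K (Polynomial.eval (algebraMap R C a ^ N) q) := by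
    rw [Polynomial.aeval_eq_sum_range, Polynomial.eval_eq_sum_range, map_sum]
    refine Finset.sum_congr rfl fun i hi => LinearMap.ext fun x => ?_
    have hfi : (f ^ i) x = (algebraMap R C a ^ N) ^ i • x := by
      clear hi
      induction i with
      | zero => simp
      | succ i ih => rw [pow_succ', Module.End.mul_apply, ih, LinearMap.lsmul_apply, pow_succ', mul_smul]
    rw [LinearMap.smul_apply, hfi, LinearMap.lsmul_apply, mul_smul]
  have h0 := congrArg Subtype.val (LinearMap.congr_fun (hev.symm.trans hqf) ⟨k, hk⟩)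
  refine Eq.trans ?_ h0
  show _ = Polynomial.eval (algebraMap R C a ^ N) q * k
  rw [Polynomial.eval_eq_sum_range, Finset.sum_range_succ, hq.coeff_natDegree, one_mul, ← pow_mul, add_comm]
  simp only [← pow_mul]

/-- A finite free algebra which is unramified over `D(a)` and `D(b)` for a regular pair is étale. -/
theorem etale_of_free [IsNoetherianRing R] [Module.Free R B] [Module.Finite R B] {a b : R} (h : TwoWith a b R)
    [Algebra.FormallyUnramified R (Localization.Away (algebraMap R B a))]
    [Algebra.FormallyUnramified R (Localization.Away (algebraMap R B b))] : Algebra.Etale R B := by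
  haveI : Algebra.FinitePresentation R B := Algebra.FinitePresentation.of_finiteType.1 inferInstance
  suffices hu : Algebra.FormallyUnramified R B from .of_formallyUnramified_of_flat
  set K := KaehlerDifferential.ideal R B
  have hT : TwoWith a b (B ⊗[R] B) := TwoWith.of_free h
  have hB : TwoWith a b B := TwoWith.of_free h
  obtain ⟨Na, hNa⟩ := exists_pow_smul_mem_sq (B := B) a
  obtain ⟨Nb, hNb⟩ := exists_pow_smul_mem_sq (B := B) b
  obtain ⟨Ma, ka, hka, hwa⟩ := exists_killer K (KaehlerDifferential.ideal_fg R B) a Na hNa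
  obtain ⟨Mb, kb, hkb, hwb⟩ := exists_killer K (KaehlerDifferential.ideal_fg R B) b Nb hNb
  set wa := algebraMap R (B ⊗[R] B) a ^ Ma + ka
  set wb := algebraMap R (B ⊗[R] B) b ^ Mb + kb
  have hab : b ^ Mb • wa = a ^ Ma • wb := by
    have h1 : wa * wb = b ^ Mb • wa := by
      rw [← algebraMap_smul (B ⊗[R] B) (b ^ Mb), smul_eq_mul, map_pow, mul_add, hwa kb hkb, add_zero, mul_comm]
    have h2 : wb * wa = a ^ Ma • wb := by
      rw [← algebraMap_smul (B ⊗[R] B) (a ^ Ma), smul_eq_mul, map_pow, mul_add, hwb ka hka, add_zero, mul_comm]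
    rw [← h1, ← h2, mul_comm]
  obtain ⟨e, he⟩ := hT.cancel_pow Ma Mb wa wb hab
  have heK : ∀ k ∈ K, e * k = 0 := fun k hk => hT.inj_pow Ma (by rw [← smul_mul_assoc, ← he, hwa k hk])
  have he1 : Algebra.TensorProduct.lmul' R (S := B) e = 1 := by
    refine hB.inj_pow_eq Ma ?_
    rw [← map_smul, ← he, map_add, show Algebra.TensorProduct.lmul' R (S := B) ka = 0 from hka, add_zero,
      map_pow, AlgHom.commutes, ← map_pow, Algebra.algebraMap_eq_smul_one]
  rw [Algebra.FormallyUnramified.iff_exists_tensorProduct]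
  exact ⟨e, fun s => by rw [mul_comm]; exact heK _ (KaehlerDifferential.one_smul_sub_smul_one_mem_ideal R s), he1⟩

end Groth.Agent.Purity
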