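import Groth.Agent.Purity.Core
import Groth.Agent.Purity.Sep
import Groth.Agent.SerreReg.MiracleFinite
import Groth.Agent.SerreReg.CM
import Groth.Agent.AdicBasics.Dimension
import Groth.Agent.UFDLib.Regular
import Groth.Agent.RegLoc.Order
import Groth.Agent.S0528
import Groth.Agent.S0532

/-!
# Purity of the branch locus, algebraic form
-/

set_option autoImplicit false

universe u v

open IsLocalRing RingTheory.Sequence
open scoped TensorProduct Pointwise

namespace Groth.Agent.Purity

variable {R : Type u} [CommRing R]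

theorem two_of_isWeaklyRegular {a b : R} {l : List R} {M : Type v} [AddCommGroup M] [Module R M]
    (h : IsWeaklyRegular M (a :: b :: l)) : TwoWith a b M := by
  rw [isWeaklyRegular_cons_iff, isWeaklyRegular_cons_iff] at h
  refine ⟨fun m hm => h.1 (hm.trans (smul_zero a).symm), fun m n hmn => ?_⟩
  have h0 : (Submodule.Quotient.mk m : QuotSMulTop a M) = 0 := h.2.1 (show b • _ = b • (0 : QuotSMulTop a M) by
    rw [smul_zero, ← Submodule.Quotient.mk_smul, Submodule.Quotient.mk_eq_zero, hmn]
    exact Submodule.smul_mem_pointwise_smul n a _ trivial)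
  rw [Submodule.Quotient.mk_eq_zero] at h0
  obtain ⟨z, -, hz⟩ := h0
  exact ⟨z, hz.symm⟩

theorem tmul_one_eq_zero_iff {B : Type v} [CommRing B] [Algebra R B] (x : R) (y : B) :
    (1 : R ⧸ Ideal.span {x}) ⊗ₜ[R] y = 0 ↔ ∃ y', y = x • y' := by
  rw [← (TensorProduct.quotTensorEquivQuotSMul B (Ideal.span {x})).map_eq_zero_iff,
    show (1 : R ⧸ Ideal.span {x}) = Ideal.Quotient.mk _ 1 from (map_one _).symm,
    TensorProduct.quotTensorEquivQuotSMul_mk_tmul, Submodule.Quotient.mk_eq_zero, one_smul,
    Submodule.ideal_span_singleton_smul]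
  exact ⟨fun ⟨z, _, hz⟩ => ⟨z, hz.symm⟩, fun ⟨z, hz⟩ => hz ▸ Submodule.smul_mem_pointwise_smul z x _ trivial⟩

theorem exists_tmul_one {B : Type v} [CommRing B] [Algebra R B] (x : R) (m : (R ⧸ Ideal.span {x}) ⊗[R] B) :
    ∃ y : B, (1 : R ⧸ Ideal.span {x}) ⊗ₜ[R] y = m :=
  Algebra.TensorProduct.includeRight_surjective _ Ideal.Quotient.mk_surjective m

theorem maximalIdeal_le_radical_map [IsLocalRing R] {S : Type v} [CommRing S] [IsLocalRing S] [Algebra R S]
    (h : Function.Surjective (algebraMap R S)) :
    maximalIdeal S ≤ ((maximalIdeal R).map (algebraMap R S)).radical := by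
  haveI : IsLocalHom (algebraMap R S) := IsLocalHom.of_surjective _ h
  rw [← maximalIdeal_comap (algebraMap R S), Ideal.map_comap_of_surjective _ h]
  exact Ideal.le_radical

/-- Purity of the branch locus: over a regular local ring of dimension at least two, a finite algebra of
depth two which is étale over the punctured spectrum is étale. -/
theorem etale_of_onPunct : ∀ (d : ℕ) (R : Type u) [CommRing R] [IsRegularLocalRing R],
    ringKrullDim R = (d + 2 : ℕ) → ∀ (a b : R), a ∈ maximalIdeal R → b ∈ maximalIdeal R → TwoWith a b R →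
    ∀ (B : Type u) [CommRing B] [Algebra R B] [Module.Finite R B], TwoWith a b B → OnPunct R B →
      Algebra.Etale R B := by
  intro d
  induction d with
  | zero =>
    intro R _ _ hd a b ha hb hR B _ _ _ hB hP
    haveI := hP a ha
    haveI := hP b hb
    have hseq : CMSop.HasRegSeq (R := R) 2 B := by
      refine ⟨a, ha, fun m n h => sub_eq_zero.1 (hB.inj _ (by rw [smul_sub]; exact sub_eq_zero.2 h)), b, hb, ?_, trivial⟩
      rw [isSMulRegular_iff_right_eq_zero_of_smul]
      intro q hq
      obtain ⟨m, rfl⟩ := Submodule.Quotient.mk_surjective _ q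
      rw [← Submodule.Quotient.mk_smul, Submodule.Quotient.mk_eq_zero] at hq
      obtain ⟨n, -, hn⟩ := hq
      obtain ⟨z, rfl⟩ := hB.cancel m n hn.symm
      exact (Submodule.Quotient.mk_eq_zero _).2 (Submodule.smul_mem_pointwise_smul z a _ trivial)
    haveI := SerreReg.free_of_hasRegSeq 2 R hd B hseq
    exact etale_of_free hR
  | succ d ih =>
    suffices key : ∀ (R : Type u) [CommRing R] [IsRegularLocalRing R] [IsAdicComplete (maximalIdeal R) R],
        ringKrullDim R = (d + 3 : ℕ) → ∀ (a b : R), a ∈ maximalIdeal R → b ∈ maximalIdeal R → TwoWith a b R →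
        ∀ (B : Type u) [CommRing B] [Algebra R B] [Module.Finite R B], TwoWith a b B → OnPunct R B →
          Algebra.Etale R B by
      intro R _ _ hd a b ha hb hR B _ _ _ hB hP
      set T := AdicCompletion (maximalIdeal R) R
      haveI : IsRegularLocalRing T := (AdicBasics.isRegularLocalRing_completion_iff R).1 inferInstance
      have hmax : maximalIdeal T = (maximalIdeal R).map (algebraMap R T) := AdicCompletion.maximalIdeal_eq_map
      have hmem : ∀ {r}, r ∈ maximalIdeal R → algebraMap R T r ∈ maximalIdeal T := fun hr =>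
        hmax ▸ Ideal.mem_map_of_mem _ hr
      haveI : IsAdicComplete (maximalIdeal T) T := inferInstance
      haveI : IsLocalHom (algebraMap R T) := ((IsLocalRing.local_hom_TFAE _).out 0 2).2 hmax.ge
      haveI : Module.FaithfullyFlat R T := Module.FaithfullyFlat.of_flat_of_isLocalHom
      haveI : Algebra.Etale T (T ⊗[R] B) :=
        key T (by rw [AdicBasics.ringKrullDim_completion]; exact hd) _ _ (hmem ha) (hmem hb)
          (two_algebraMap_iff.2 (two_of_flat hR T)) (T ⊗[R] B) hB.tensor (hP.tensor T (hmax.le.trans Ideal.le_radical))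
      exact Algebra.Etale.of_etale_tensorProduct_of_faithfullyFlat T
    intro R _ _ _ hd a₀ b₀ ha₀ hb₀ hR B _ _ _ hB₀ hP
    haveI := RegLoc.isDomain R
    haveI := UFDLib.ufd_of_isRegularLocalRing R
    haveI := hP a₀ ha₀
    haveI := hP b₀ hb₀
    have hb₀0 : b₀ ≠ 0 := by
      rintro rfl
      obtain ⟨z, hz⟩ := hR.cancel 1 0 (by simp)
      exact (IsLocalRing.mem_maximalIdeal a₀).1 ha₀ (IsUnit.of_mul_eq_one z hz.symm)
    have hB : ∀ s t : R, s ≠ 0 → t ≠ 0 → TwoWith s t R → TwoWith s t B := fun s t hs _ hst =>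
      hB₀.change hst hb₀0 hs
    have hne : maximalIdeal R ≠ ⊥ := by
      intro h0
      have h1 : ((maximalIdeal R).spanFinrank : WithBot ℕ∞) = ((d + 3 : ℕ) : WithBot ℕ∞) :=
        IsRegularLocalRing.spanFinrank_maximalIdeal.trans hd
      rw [h0, Submodule.spanFinrank_bot] at h1
      have h2 : 0 = d + 3 := by exact_mod_cast h1
      omega
    obtain ⟨x, hx, hx2⟩ := SerreReg.exists_notMem_sq hne
    obtain ⟨hSreg, hreg⟩ := SerreReg.isRegularLocalRing_quot hx hx2
    set S := R ⧸ Ideal.span {x}
    haveI : IsRegularLocalRing S := hSreg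
    haveI := RegLoc.isDomain S
    have hdS : ringKrullDim S = (d + 2 : ℕ) := by
      have h1 := ringKrullDim_quotient_span_singleton_succ_eq_ringKrullDim hreg hx
      rw [hd, show ((d + 3 : ℕ) : WithBot ℕ∞) = ((d + 2 : ℕ) : WithBot ℕ∞) + 1 by norm_cast] at h1
      exact le_antisymm (ENat.WithBot.add_le_add_one_right_iff.mp h1.le)
        (ENat.WithBot.add_le_add_one_right_iff.mp h1.ge)
    obtain ⟨rs, hlen, hrs, hspan⟩ := SerreReg.exists_regular_rsop (d + 2) S hdS
    obtain ⟨a', b', l, rfl⟩ : ∃ a' b' l, rs = a' :: b' :: l := by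
      match rs, hlen with
      | a' :: b' :: l, _ => exact ⟨a', b', l, rfl⟩
    obtain ⟨a, rfl⟩ := Ideal.Quotient.mk_surjective a'
    obtain ⟨b, rfl⟩ := Ideal.Quotient.mk_surjective b'
    have hab : TwoWith (algebraMap R S a) (algebraMap R S b) S := two_of_isWeaklyRegular hrs
    have hloc : ∀ r : R, algebraMap R S r ∈ maximalIdeal S ↔ r ∈ maximalIdeal R := fun r => by
      haveI : IsLocalHom (algebraMap R S) := IsLocalHom.of_surjective _ Ideal.Quotient.mk_surjective
      rw [IsLocalRing.mem_maximalIdeal, IsLocalRing.mem_maximalIdeal, mem_nonunits_iff, mem_nonunits_iff,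
        isUnit_map_iff]
    have haS : algebraMap R S a ∈ maximalIdeal S := hspan ▸ Ideal.subset_span (List.mem_cons_self ..)
    have hbS : algebraMap R S b ∈ maximalIdeal S :=
      hspan ▸ Ideal.subset_span (List.mem_cons_of_mem _ (List.mem_cons_self ..))
    have haS0 : algebraMap R S a ≠ 0 := fun h => one_ne_zero (hab.inj 1 (by rw [h, zero_smul]))
    have hx0 : x ≠ 0 := fun h => hx2 (h ▸ zero_mem _)
    have hxp : Prime x := by
      rw [← Ideal.span_singleton_prime hx0, ← Ideal.Quotient.isDomain_iff_prime]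
      infer_instance
    have hxa : TwoWith x a R := two_of_isRelPrime hx0 (hxp.irreducible.isRelPrime_iff_not_dvd.2 fun h =>
      haS0 (Ideal.Quotient.eq_zero_iff_mem.2 (Ideal.mem_span_singleton.2 h)))
    have ha0 : a ≠ 0 := fun h => haS0 (by rw [h, map_zero])
    have hb0 : b ≠ 0 := by
      intro h
      obtain ⟨z, hz⟩ := hab.cancel 1 0 (by simp [h])
      exact (IsLocalRing.mem_maximalIdeal _).1 haS (IsUnit.of_mul_eq_one z hz.symm)
    haveI := hP a ((hloc a).1 haS)
    haveI := hP b ((hloc b).1 hbS)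
    -- the special fibre
    set M := S ⊗[R] B
    have hxaB := hB x a hx0 ha0 hxa
    have hainj : ∀ m : M, algebraMap R S a • m = 0 → m = 0 := by
      intro m hm
      obtain ⟨y, rfl⟩ := exists_tmul_one x m
      rw [algebraMap_smul, ← TensorProduct.tmul_smul, tmul_one_eq_zero_iff] at hm
      obtain ⟨y', hy'⟩ := hm
      exact (tmul_one_eq_zero_iff x y).2 (hxaB.cancel y y' hy')
    have hPM : OnPunct S M := hP.tensor S (maximalIdeal_le_radical_map Ideal.Quotient.mk_surjective)
    haveI := hPM _ haS
    set E := hull (algebraMap R S a) (algebraMap R S b) M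
    let φM : M →ₐ[S] E := toHull _ _ M
    have hφM : ∀ m, φM m = 0 → m = 0 := by
      intro m hm
      obtain ⟨⟨_, k, rfl⟩, hk⟩ := (IsLocalization.map_eq_zero_iff (Submonoid.powers (algebraMap S M (algebraMap R S a)))
        _ m).1 (congrArg Subtype.val hm)
      simp only [← map_pow, ← smul_eq_mul, algebraMap_smul] at hk
      clear hm
      induction k with
      | zero => simpa using hk
      | succ k ihk =>
        rw [pow_succ', mul_smul] at hk
        exact ihk (hainj _ ((algebraMap_smul S a _).trans hk))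
    haveI : Module.Finite S E := finite_hull _ _ M haS0 hab
    have him : ∀ f ∈ maximalIdeal S, ∀ e, ∃ N : ℕ, f ^ N • e ∈ φM.range := fun f hf e => by
      haveI := hPM f hf
      exact exists_pow_smul_mem_range haS0 hab e
    haveI : Algebra.Etale S E := ih S hdS _ _ haS hbS hab E (two_hull _ _ M)
      (hPM.of_algHom φM (fun f _ m hm => ⟨0, by rw [hφM m hm, smul_zero]⟩) him)
    -- the lift
    haveI : HenselianRing R (Ideal.span {x}) :=
      ((Groth.Agent.S0528.result R (Ideal.span {x}) (maximalIdeal R)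
        ((Ideal.span_singleton_le_iff_mem _).2 hx)).1 inferInstance).1
    obtain ⟨B', iB, iAB, hfin, het, ⟨e⟩⟩ := Groth.Agent.S0532.result R (Ideal.span {x}) E
    haveI := hfin
    haveI := het
    haveI : Module.Free R B' := Module.free_of_flat_of_isLocalRing
    let π : B' →ₐ[R] E := (e.restrictScalars R).toAlgHom.comp Algebra.TensorProduct.includeRight
    have hπ : Function.Surjective π := fun z => by
      obtain ⟨y, hy⟩ := exists_tmul_one x (e.symm z)
      exact ⟨y, (congrArg e hy).trans (e.apply_symm_apply z)⟩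
    have hπk : ∀ z, π z = 0 ↔ z ∈ powIdeal B' x 1 := fun z => by
      show e ((1 : S) ⊗ₜ[R] z) = 0 ↔ _
      rw [EmbeddingLike.map_eq_zero_iff, tmul_one_eq_zero_iff, Ideal.mem_span_singleton, pow_one]
      simp only [Algebra.smul_def]
      rfl
    let φ : B →ₐ[R] E := (φM.restrictScalars R).comp Algebra.TensorProduct.includeRight
    have hφk : ∀ y, φ y = 0 → ∃ y', y = x • y' := fun y hy => (tmul_one_eq_zero_iff x y).1 (hφM _ hy)
    have hφi : ∀ f ∈ maximalIdeal R, ∀ z, ∃ N : ℕ, f ^ N • z ∈ φ.range := fun f hf z => by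
      obtain ⟨N, m, hm⟩ := him _ ((hloc f).2 hf) z
      obtain ⟨y, rfl⟩ := exists_tmul_one x m
      exact ⟨N, y, hm.trans (by rw [← map_pow, algebraMap_smul])⟩
    refine etale_of_lift (a := a) (b := b) hx0 hx (fun p hp => ?_) hB π hπ hπk
      (two_algebraMap_iff.1 (two_hull _ _ M)) φ hφk hφi
    classical
    have hle : Ideal.span (({p, x} : Finset R) : Set R) ≤ maximalIdeal R := by
      rw [Ideal.span_le, Finset.coe_insert, Finset.coe_singleton, Set.insert_subset_iff, Set.singleton_subset_iff]
      exact ⟨hp, hx⟩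
    obtain ⟨q, hq, -⟩ := Ideal.exists_minimalPrimes_le hle
    haveI := hq.1.1
    refine ⟨q, inferInstance, hq.1.2 (Ideal.subset_span (by simp)), hq.1.2 (Ideal.subset_span (by simp)), fun hmq => ?_⟩
    have h1 : q.height ≤ 2 :=
      (Ideal.height_le_spanRank_toENat_of_mem_minimalPrimes _ q hq).trans
        ((OrderHomClass.mono Cardinal.toENat (Submodule.spanRank_span_le_card _)).trans (by
          rw [Finset.coe_sort_coe, Cardinal.mk_coe_finset, map_natCast]; exact_mod_cast Finset.card_le_two))
    have h2 := (Ideal.height_mono hmq).trans h1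
    have h3 : ((maximalIdeal R).height : WithBot ℕ∞) = ((d + 3 : ℕ) : WithBot ℕ∞) := by
      rw [IsLocalRing.maximalIdeal_height_eq_ringKrullDim, hd]
    have h4 : (maximalIdeal R).height = ((d + 3 : ℕ) : ℕ∞) := WithBot.coe_injective h3
    rw [h4] at h2
    have h5 : d + 3 ≤ 2 := by exact_mod_cast h2
    omega

end Groth.Agent.Purity
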