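import Groth.Agent.Purity.SectionsBC
import Groth.Agent.NormSect.Basic
import Mathlib.RingTheory.Smooth.IntegralClosure
import Mathlib.AlgebraicGeometry.FunctionField
import Groth.Prelude.Def_FEt

/-!
# Finite étale covers of normal schemes and the generic point
-/

set_option autoImplicit false
set_option backward.isDefEq.respectTransparency false

universe u

open AlgebraicGeometry CategoryTheory TopologicalSpace Limits Opposite
open scoped TensorProduct

namespace Groth.Agent.Purity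

/-- An étale algebra over a normal domain is integrally closed in its base change to the fraction field. -/
theorem sections_of_isPushout {R B K Q : CommRingCat.{u}} {φB : R ⟶ B} {φK : R ⟶ K} {b : B ⟶ Q} {k : K ⟶ Q}
    (H : IsPushout φB φK b k) [IsDomain R] [IsIntegrallyClosed R]
    (hK : letI := φK.hom.toAlgebra; IsFractionRing R K) (hB : φB.hom.Etale) :
    Function.Injective b ∧ ∀ t, (φB ≫ b).hom.IsIntegralElem t → t ∈ Set.range b := by
  letI := φB.hom.toAlgebra
  letI := φK.hom.toAlgebra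
  haveI : IsFractionRing R K := hK
  haveI : Algebra.Etale R B := hB
  letI := b.hom.toAlgebra
  letI := k.hom.toAlgebra
  letI : Algebra R Q := (φB ≫ b).hom.toAlgebra
  haveI : IsScalarTower R B Q := .of_algebraMap_eq fun _ => rfl
  haveI : IsScalarTower R K Q := .of_algebraMap_eq fun r => ConcreteCategory.congr_hom H.w r
  haveI : Algebra.IsPushout R B K Q := CommRingCat.isPushout_iff_isPushout.1 H
  let e : B ⊗[R] K ≃ₐ[B] Q := Algebra.IsPushout.equiv R B K Q
  have he : ∀ x : B, e (x ⊗ₜ 1) = b x := fun x => by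
    rw [Algebra.IsPushout.equiv_tmul, map_one, mul_one]
    rfl
  refine ⟨fun x y h => ?_, fun t ht => ?_⟩
  · rw [← he, ← he] at h
    exact Algebra.TensorProduct.includeLeft_injective (S := B) (IsFractionRing.injective R K) (e.injective h)
  · have hz : IsIntegral R (e.symm t) := by
      obtain ⟨p, hp, h0⟩ := ht
      have : IsIntegral R t := ⟨p, hp, h0⟩
      exact this.map (e.symm.restrictScalars R)
    have hzB : e.symm t ∈ integralClosure B (B ⊗[R] K) := IsIntegral.tower_top hz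
    obtain ⟨w, hw⟩ := (TensorProduct.toIntegralClosure_bijective_of_smooth (R := R) (S := B) (B := K)).2 ⟨_, hzB⟩
    have key : ∀ w, ∃ x : B, ((TensorProduct.toIntegralClosure R B K w : integralClosure B (B ⊗[R] K)) : B ⊗[R] K) = x ⊗ₜ 1 := by
      intro w
      induction w with
      | zero => exact ⟨0, by simp⟩
      | tmul x y =>
        obtain ⟨r, hr⟩ := IsIntegrallyClosed.isIntegral_iff.1 y.2
        refine ⟨r • x, ?_⟩
        show x ⊗ₜ[R] (y : K) = _
        rw [← hr, TensorProduct.smul_tmul, Algebra.smul_def, mul_one]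
      | add a c ha hc =>
        obtain ⟨x, hx⟩ := ha
        obtain ⟨y, hy⟩ := hc
        exact ⟨x + y, by rw [map_add, AddMemClass.coe_add, hx, hy, TensorProduct.add_tmul]⟩
    obtain ⟨x, hx⟩ := key w
    rw [hw] at hx
    exact ⟨x, by rw [← he, ← hx, AlgEquiv.apply_symm_apply]⟩

variable {S E E₁ E₂ T : Scheme.{u}}

/-- Sections of a finite étale cover of a normal scheme inside the sections over the generic point. -/
theorem generic_sections (f : T ⟶ S) (π : E ⟶ S) [IsFinite π] [Etale π] {V : S.Opens} (hV : IsAffineOpen V)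
    (hW : IsAffineOpen (f ⁻¹ᵁ V))
    (hnorm : Nonempty V → IsDomain Γ(S, V) ∧ IsIntegrallyClosed Γ(S, V) ∧
      letI := (f.app V).hom.toAlgebra; IsFractionRing Γ(S, V) Γ(T, f ⁻¹ᵁ V)) :
    Function.Injective ((pullback.fst π f).app (π ⁻¹ᵁ V)) ∧
      ∀ t, ((π.app V ≫ (pullback.fst π f).app (π ⁻¹ᵁ V)).hom).IsIntegralElem t →
        t ∈ Set.range ((pullback.fst π f).app (π ⁻¹ᵁ V)) := by
  rcases isEmpty_or_nonempty V with hV0 | hV0
  · have hbot : ∀ x : E, x ∉ π ⁻¹ᵁ V := fun x hx => hV0.false ⟨_, hx⟩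
    haveI : Subsingleton Γ(E, π ⁻¹ᵁ V) := by
      rw [show π ⁻¹ᵁ V = ⊥ from le_bot_iff.1 fun x hx => (hbot x hx).elim]
      infer_instance
    haveI : Subsingleton Γ(pullback π f, pullback.fst π f ⁻¹ᵁ π ⁻¹ᵁ V) := by
      rw [show pullback.fst π f ⁻¹ᵁ π ⁻¹ᵁ V = ⊥ from le_bot_iff.1 fun x hx => (hbot _ hx).elim]
      infer_instance
    exact ⟨fun a b _ => Subsingleton.elim _ _, fun t _ => ⟨0, Subsingleton.elim _ _⟩⟩
  obtain ⟨hd, hic, hfr⟩ := hnorm hV0
  set fst := pullback.fst π f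
  set snd := pullback.snd π f
  have hU : IsAffineOpen (π ⁻¹ᵁ V) := hV.preimage π
  have happ : π.appLE V (π ⁻¹ᵁ V) le_rfl = π.app V := π.app_eq_appLE.symm
  have hpre : fst ⁻¹ᵁ π ⁻¹ᵁ V = snd ⁻¹ᵁ f ⁻¹ᵁ V := by
    rw [← Scheme.Hom.comp_preimage, ← Scheme.Hom.comp_preimage]
    exact congrArg (fun h => h ⁻¹ᵁ V) pullback.condition
  have hpo : IsPushout (π.app V) (f.app V) (fst.appLE (π ⁻¹ᵁ V) (snd ⁻¹ᵁ f ⁻¹ᵁ V) hpre.ge) (snd.app (f ⁻¹ᵁ V)) := by
    have h := (isIso_pushoutSection_iff (IsPullback.of_hasPullback π f) (le_refl (f ⁻¹ᵁ V)) (le_refl (π ⁻¹ᵁ V))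
      (UY := snd ⁻¹ᵁ f ⁻¹ᵁ V) (inf_eq_right.2 hpre.ge).symm).1
      (isIso_pushoutSection_of_isAffineOpen _ _ _ _ hV hW hU)
    rw [happ, ← f.app_eq_appLE, ← snd.app_eq_appLE] at h
    exact h
  have het : (π.app V).hom.Etale := by
    have h := π.etale_appLE hV hU le_rfl
    rw [happ] at h
    exact h
  obtain ⟨h1, h2⟩ := sections_of_isPushout hpo hfr het
  have hm : ∀ z, fst.appLE (π ⁻¹ᵁ V) (snd ⁻¹ᵁ f ⁻¹ᵁ V) hpre.ge z =
      (pullback π f).presheaf.map (homOfLE hpre.ge).op (fst.app (π ⁻¹ᵁ V) z) := fun z => rfl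
  haveI : IsIso ((pullback π f).presheaf.map (homOfLE hpre.ge).op) := by
    rw [show homOfLE hpre.ge = eqToHom hpre.symm from rfl]
    infer_instance
  have hmi := (ConcreteCategory.bijective_of_isIso ((pullback π f).presheaf.map (homOfLE hpre.ge).op)).1
  refine ⟨fun x y h => h1 (by rw [hm, hm, h]), fun t ht => ?_⟩
  obtain ⟨x, hx⟩ := h2 ((pullback π f).presheaf.map (homOfLE hpre.ge).op t) (by
    obtain ⟨p, hp, h0⟩ := ht
    refine ⟨p, hp, ?_⟩
    have e : (π.app V ≫ fst.appLE (π ⁻¹ᵁ V) (snd ⁻¹ᵁ f ⁻¹ᵁ V) hpre.ge).hom =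
        ((pullback π f).presheaf.map (homOfLE hpre.ge).op).hom.comp (π.app V ≫ fst.app (π ⁻¹ᵁ V)).hom := rfl
    rw [e, ← Polynomial.hom_eval₂, h0, map_zero])
  exact ⟨x, hmi (by rw [← hm, hx])⟩

/-- Restriction of finite étale covers to a scheme sitting like the generic point is fully faithful. -/
theorem restrict_full_faithful_of_generic (f : T ⟶ S)
    (h : ∀ V : S.Opens, IsAffineOpen V → IsAffineOpen (f ⁻¹ᵁ V) ∧ (Nonempty V →
      IsDomain Γ(S, V) ∧ IsIntegrallyClosed Γ(S, V) ∧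
        letI := (f.app V).hom.toAlgebra; IsFractionRing Γ(S, V) Γ(T, f ⁻¹ᵁ V))) :
    (FEt.restrict f).Full ∧ (FEt.restrict f).Faithful := by
  have key : ∀ (E₁ E₂ : FEt.Cat S) (φ : (FEt.restrict f).obj E₁ ⟶ (FEt.restrict f).obj E₂),
      ∃! ψ : E₁.left ⟶ E₂.left, ψ ≫ E₂.hom = E₁.hom ∧
        pullback.fst E₁.hom f ≫ ψ = φ.left ≫ pullback.fst E₂.hom f := fun E₁ E₂ φ => by
    haveI : IsFinite E₂.hom := E₂.prop.1
    haveI : IsFinite E₁.hom := E₁.prop.1
    haveI : Etale E₁.hom := E₁.prop.2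
    have hφ : (φ.left ≫ pullback.fst E₂.hom f) ≫ E₂.hom = pullback.fst E₁.hom f ≫ E₁.hom := by
      have hw : φ.left ≫ pullback.snd E₂.hom f = pullback.snd E₁.hom f := MorphismProperty.Over.w φ
      rw [Category.assoc, pullback.condition]
      refine Eq.trans ?_ pullback.condition.symm
      rw [← hw, Category.assoc]
    refine existsUnique_comp_of_range (pullback.fst E₁.hom f) E₁.hom E₂.hom
      (fun V hV => (generic_sections f E₁.hom hV (h V hV).1 (h V hV).2).1) _ hφ fun V hV hle x => ?_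
    refine (generic_sections f E₁.hom hV (h V hV).1 (h V hV).2).2 _ ?_
    obtain ⟨p, hp, h0⟩ := IsIntegralHom.isIntegral_app E₂.hom V hV x
    refine ⟨p, hp, ?_⟩
    have e : E₁.hom.app V ≫ (pullback.fst E₁.hom f).app (E₁.hom ⁻¹ᵁ V) =
        E₂.hom.app V ≫ (φ.left ≫ pullback.fst E₂.hom f).appLE (E₂.hom ⁻¹ᵁ V) _ hle := by
      rw [Scheme.Hom.app_eq_appLE, Scheme.Hom.app_eq_appLE, Scheme.Hom.app_eq_appLE,
        Scheme.Hom.appLE_comp_appLE, Scheme.Hom.appLE_comp_appLE]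
      simp only [hφ]
    rw [e, CommRingCat.hom_comp, ← Polynomial.hom_eval₂, h0, map_zero]
  have hmap : ∀ (E₁ E₂ : FEt.Cat S) (ψ : E₁ ⟶ E₂),
      ((FEt.restrict f).map ψ).left ≫ pullback.fst E₂.hom f = pullback.fst E₁.hom f ≫ ψ.left :=
    fun E₁ E₂ ψ => pullback.lift_fst _ _ _
  refine ⟨⟨fun {E₁ E₂} φ => ?_⟩, ⟨fun {E₁ E₂} {ψ₁ ψ₂} h => MorphismProperty.Over.Hom.ext
    ((key E₁ E₂ _).unique ⟨MorphismProperty.Over.w ψ₁, (hmap _ _ ψ₁).symm⟩
      ⟨MorphismProperty.Over.w ψ₂, (hmap _ _ ψ₂).symm.trans (by rw [h])⟩)⟩⟩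
  obtain ⟨ψ, ⟨h₁, h₂⟩, -⟩ := key E₁ E₂ φ
  refine ⟨MorphismProperty.Over.homMk ψ h₁, MorphismProperty.Over.Hom.ext (pullback.hom_ext ?_ ?_)⟩
  · exact (hmap _ _ _).trans h₂
  · exact (MorphismProperty.Over.w ((FEt.restrict f).map (MorphismProperty.Over.homMk ψ h₁))).trans
      (MorphismProperty.Over.w φ).symm

/-- Restriction of finite étale covers of a normal integral scheme to its generic point is fully faithful. -/
theorem restrict_full_faithful_genericPoint (X : Scheme.{u}) [IsIntegral X]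
    (hX : ∀ x : X, IsIntegrallyClosed (X.presheaf.stalk x)) :
    (FEt.restrict (X.fromSpecStalk (genericPoint X))).Full ∧
      (FEt.restrict (X.fromSpecStalk (genericPoint X))).Faithful := by
  set f := X.fromSpecStalk (genericPoint X)
  refine restrict_full_faithful_of_generic f fun V hV => ?_
  rcases isEmpty_or_nonempty V with hV0 | hV0
  · refine ⟨?_, fun h => (hV0.false h.some).elim⟩
    have : f ⁻¹ᵁ V = ⊥ := le_bot_iff.1 fun x hx => hV0.false ⟨_, hx⟩
    rw [this]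
    exact isAffineOpen_bot _
  have hη : genericPoint X ∈ V :=
    ((genericPoint_spec X).mem_open_set_iff V.2).2 (by simpa [Set.nonempty_coe_sort] using hV0)
  have htop : f ⁻¹ᵁ V = ⊤ := by
    refine top_le_iff.1 fun z _ => ?_
    have hz : f z ∈ Set.range f := ⟨z, rfl⟩
    rw [Scheme.range_fromSpecStalk] at hz
    exact hz.mem_open V.2 hη
  refine ⟨htop ▸ isAffineOpen_top _, fun _ => ⟨inferInstance, Groth.Agent.NormSect.isIntegrallyClosed_sections V fun x _ => hX x, ?_⟩⟩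
  letI := (f.app V).hom.toAlgebra
  haveI := functionField_isFractionRing_of_isAffineOpen X V hV
  let m := (Scheme.ΓSpecIso (X.presheaf.stalk (genericPoint X))).inv ≫
    (Spec (X.presheaf.stalk (genericPoint X))).presheaf.map (homOfLE (le_top : f ⁻¹ᵁ V ≤ ⊤)).op
  haveI : IsIso ((Spec (X.presheaf.stalk (genericPoint X))).presheaf.map (homOfLE (le_top : f ⁻¹ᵁ V ≤ ⊤)).op) := by
    rw [show homOfLE (le_top : f ⁻¹ᵁ V ≤ ⊤) = eqToHom htop from rfl]
    infer_instance
  let e : X.functionField ≃ₐ[Γ(X, V)] Γ(Spec (X.presheaf.stalk (genericPoint X)), f ⁻¹ᵁ V) :=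
    AlgEquiv.ofRingEquiv (f := RingEquiv.ofBijective m.hom (ConcreteCategory.bijective_of_isIso m)) fun r =>
      (ConcreteCategory.congr_hom (Scheme.fromSpecStalk_app (X := X) (U := V) hη) r).symm
  exact IsLocalization.isLocalization_of_algEquiv (nonZeroDivisors Γ(X, V)) e

end Groth.Agent.Purity
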