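import Groth.Prelude.Def_FEt

/-!
# Full faithfulness from bijectivity on sections

A morphism into a scheme affine over the base extends uniquely along a morphism inducing bijections
on the sections over the preimages of affine opens of the base.
-/

set_option autoImplicit false
set_option backward.isDefEq.respectTransparency false

universe u

open AlgebraicGeometry CategoryTheory TopologicalSpace Limits Opposite

namespace Groth.Agent.Purity

/-- Morphisms into an affine scheme only depend on global sections. -/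
theorem existsUnique_of_bijective_appTop {T U W : Scheme.{u}} [IsAffine W] (ι : T ⟶ U)
    (h : Function.Bijective ι.appTop) (φ : T ⟶ W) : ∃! ψ : U ⟶ W, ι ≫ ψ = φ := by
  haveI : IsIso ι.appTop := (ConcreteCategory.isIso_iff_bijective _).2 h
  refine ⟨U.toSpecΓ ≫ Spec.map (φ.appTop ≫ inv ι.appTop) ≫ W.isoSpec.inv, ?_, fun ψ hψ => ?_⟩
  · show ι ≫ U.toSpecΓ ≫ Spec.map (φ.appTop ≫ inv ι.appTop) ≫ W.isoSpec.inv = φ
    rw [← Category.assoc, Scheme.toSpecΓ_naturality, Category.assoc, ← Spec.map_comp_assoc, Category.assoc,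
      IsIso.inv_hom_id, Category.comp_id, ← Category.assoc, ← Scheme.toSpecΓ_naturality, Category.assoc]
    rw [← Scheme.isoSpec_hom, Iso.hom_inv_id, Category.comp_id]
  · rw [← hψ, Scheme.Hom.comp_appTop, Category.assoc, IsIso.hom_inv_id, Category.comp_id,
      ← Category.assoc, ← Scheme.toSpecΓ_naturality, Category.assoc, ← Scheme.isoSpec_hom, Iso.hom_inv_id,
      Category.comp_id]

/-- Morphisms out of an open are determined on a cover. -/
theorem hom_ext_opens {X Y : Scheme.{u}} {O : X.Opens} {κ : Type u} (W : κ → X.Opens) (hle : ∀ k, W k ≤ O)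
    (hcov : O ≤ ⨆ k, W k) {a b : O.toScheme ⟶ Y} (h : ∀ k, X.homOfLE (hle k) ≫ a = X.homOfLE (hle k) ≫ b) : a = b := by
  have hc : IsOpenCover (fun k => O.ι ⁻¹ᵁ W k) := by
    refine TopologicalSpace.IsOpenCover.mk ?_
    rw [← Scheme.Hom.preimage_iSup, eq_top_iff]
    exact fun x _ => hcov x.2
  refine Scheme.Cover.hom_ext (O.toScheme.openCoverOfIsOpenCover _ hc) _ _ fun k => ?_
  show (O.ι ⁻¹ᵁ W k).ι ≫ a = (O.ι ⁻¹ᵁ W k).ι ≫ b
  have e : (O.ι ⁻¹ᵁ W k).ι = (O.ι ∣_ W k) ≫ X.homOfLE (hle k) := by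
    rw [← cancel_mono O.ι, Category.assoc, Scheme.homOfLE_ι, morphismRestrict_ι]
  rw [e, Category.assoc, Category.assoc, h k]

variable {P E₁ E₂ S : Scheme.{u}}

theorem bijective_morphismRestrict_appTop (ι : P ⟶ E₁) {O : E₁.Opens} (h : Function.Bijective (ι.app O)) :
    Function.Bijective (ι ∣_ O).appTop := by
  rw [morphismRestrict_appTop]
  have key : ∀ O' : E₁.Opens, O' = O → Function.Bijective (ι.app O') := by rintro _ rfl; exact h
  haveI : IsIso (ι.app (O.ι ''ᵁ ⊤)) := (ConcreteCategory.isIso_iff_bijective _).2 (key _ O.ι_image_top)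
  exact ConcreteCategory.bijective_of_isIso _

/-- Morphisms into an affine scheme are determined along an injection of global sections. -/
theorem hom_ext_of_injective_appTop {T U W : Scheme.{u}} [IsAffine W] (ι : T ⟶ U)
    (h : Function.Injective ι.appTop) {a b : U ⟶ W} (hab : ι ≫ a = ι ≫ b) : a = b := by
  haveI : Mono ι.appTop := ConcreteCategory.mono_of_injective _ h
  refine ext_of_isAffine ?_
  rw [← cancel_mono ι.appTop, ← Scheme.Hom.comp_appTop, ← Scheme.Hom.comp_appTop, hab]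

theorem injective_morphismRestrict_appTop (ι : P ⟶ E₁) {O : E₁.Opens} (h : Function.Injective (ι.app O)) :
    Function.Injective (ι ∣_ O).appTop := by
  rw [morphismRestrict_appTop]
  have key : ∀ O' : E₁.Opens, O' = O → Function.Injective (ι.app O') := by rintro _ rfl; exact h
  intro a b hab
  exact key _ O.ι_image_top ((ConcreteCategory.bijective_of_isIso (P.presheaf.map _)).1 hab)

/-- Extension of morphisms into schemes affine over the base, on the level of sections. -/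
theorem existsUnique_comp_of_range (ι : P ⟶ E₁) (π₁ : E₁ ⟶ S) (π₂ : E₂ ⟶ S) [IsAffineHom π₂]
    (hinj : ∀ V : S.Opens, IsAffineOpen V → Function.Injective (ι.app (π₁ ⁻¹ᵁ V)))
    (φ : P ⟶ E₂) (hφ : φ ≫ π₂ = ι ≫ π₁)
    (hrange : ∀ V : S.Opens, IsAffineOpen V → ∀ (h : ι ⁻¹ᵁ π₁ ⁻¹ᵁ V ≤ φ ⁻¹ᵁ π₂ ⁻¹ᵁ V) (x : Γ(E₂, π₂ ⁻¹ᵁ V)),
      φ.appLE (π₂ ⁻¹ᵁ V) (ι ⁻¹ᵁ π₁ ⁻¹ᵁ V) h x ∈ Set.range (ι.app (π₁ ⁻¹ᵁ V))) :
    ∃! ψ : E₁ ⟶ E₂, ψ ≫ π₂ = π₁ ∧ ι ≫ ψ = φ := by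
  let U : S.affineOpens → E₁.Opens := fun V => π₁ ⁻¹ᵁ V.1
  have hpre : ∀ V : S.affineOpens, ι ⁻¹ᵁ U V = φ ⁻¹ᵁ π₂ ⁻¹ᵁ V.1 := fun V => by
    rw [← Scheme.Hom.comp_preimage, ← Scheme.Hom.comp_preimage, hφ]
  -- uniqueness on each piece
  have huniq : ∀ V : S.affineOpens, ∀ a b : (U V).toScheme ⟶ E₂, a ≫ π₂ = (U V).ι ≫ π₁ → b ≫ π₂ = (U V).ι ≫ π₁ →
      (ι ∣_ U V) ≫ a = (ι ∣_ U V) ≫ b → a = b := by
    intro V a b ha hb hab
    haveI : IsAffine (π₂ ⁻¹ᵁ V.1).toScheme := V.2.preimage π₂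
    have fac : ∀ c : (U V).toScheme ⟶ E₂, c ≫ π₂ = (U V).ι ≫ π₁ → Set.range c ⊆ Set.range (π₂ ⁻¹ᵁ V.1).ι := by
      intro c hc
      rw [Scheme.Opens.range_ι]
      rintro _ ⟨y, rfl⟩
      show π₂ (c y) ∈ V.1
      rw [← Scheme.Hom.comp_apply, hc]
      exact y.2
    rw [← IsOpenImmersion.lift_fac (π₂ ⁻¹ᵁ V.1).ι a (fac a ha), ← IsOpenImmersion.lift_fac (π₂ ⁻¹ᵁ V.1).ι b (fac b hb)]
    congr 1
    refine hom_ext_of_injective_appTop (ι ∣_ U V) (injective_morphismRestrict_appTop ι (hinj V.1 V.2)) ?_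
    rw [← cancel_mono (π₂ ⁻¹ᵁ V.1).ι, Category.assoc, Category.assoc, IsOpenImmersion.lift_fac,
      IsOpenImmersion.lift_fac, hab]
  -- existence on each piece
  have hex : ∀ V : S.affineOpens, ∃ a : (U V).toScheme ⟶ E₂, a ≫ π₂ = (U V).ι ≫ π₁ ∧
      (ι ∣_ U V) ≫ a = (ι ⁻¹ᵁ U V).ι ≫ φ := by
    intro V
    have hO : IsAffineOpen (π₂ ⁻¹ᵁ V.1) := V.2.preimage π₂
    have hle : ι ⁻¹ᵁ U V ≤ φ ⁻¹ᵁ π₂ ⁻¹ᵁ V.1 := (hpre V).le
    let g : Γ(E₁, U V) →+* Γ(P, ι ⁻¹ᵁ U V) := (ι.app (U V)).hom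
    let e := RingEquiv.ofBijective g.rangeRestrict ⟨fun a b hab => hinj V.1 V.2 (congrArg Subtype.val hab),
      g.rangeRestrict_surjective⟩
    let χ : Γ(E₂, π₂ ⁻¹ᵁ V.1) ⟶ Γ(E₁, U V) := CommRingCat.ofHom (e.symm.toRingHom.comp
      ((φ.appLE (π₂ ⁻¹ᵁ V.1) (ι ⁻¹ᵁ U V) hle).hom.codRestrict g.range fun x => hrange V.1 V.2 hle x))
    have hχ : χ ≫ ι.app (U V) = φ.appLE (π₂ ⁻¹ᵁ V.1) (ι ⁻¹ᵁ U V) hle := by
      ext x
      exact congrArg Subtype.val (e.apply_symm_apply _)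
    have hχ' : π₂.app V.1 ≫ χ = π₁.app V.1 := by
      haveI : Mono (ι.app (U V)) := ConcreteCategory.mono_of_injective _ (hinj V.1 V.2)
      rw [← cancel_mono (ι.app (U V)), Category.assoc, hχ, ← Scheme.Hom.comp_app, Scheme.Hom.app_eq_appLE,
        Scheme.Hom.app_eq_appLE, Scheme.Hom.appLE_comp_appLE]
      simp only [hφ]
      rfl
    refine ⟨(U V).toSpecΓ ≫ Spec.map χ ≫ hO.fromSpec, ?_, ?_⟩
    · have h1 : hO.fromSpec ≫ π₂ = Spec.map (π₂.app V.1) ≫ V.2.fromSpec := by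
        rw [Scheme.Hom.app_eq_appLE, IsAffineOpen.SpecMap_appLE_fromSpec]
      rw [Category.assoc, Category.assoc, h1, ← Spec.map_comp_assoc, hχ', Scheme.Opens.toSpecΓ_naturality_assoc,
        IsAffineOpen.toSpecΓ_fromSpec, morphismRestrict_ι]
    · rw [← Scheme.Opens.toSpecΓ_naturality_assoc, ← Spec.map_comp_assoc, hχ,
        Scheme.Opens.toSpecΓ_SpecMap_appLE_assoc, IsAffineOpen.toSpecΓ_fromSpec, Scheme.Hom.resLE_comp_ι]
  choose ψ hψ₁ hψ₂ using hex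
  have hcompat : ∀ (V W : S.affineOpens) (h : U W ≤ U V), E₁.homOfLE h ≫ ψ V = ψ W := by
    intro V W h
    refine huniq W _ _ (by rw [Category.assoc, hψ₁, ← Category.assoc, Scheme.homOfLE_ι]) (hψ₁ W) ?_
    rw [hψ₂]
    have e : (ι ∣_ U W) ≫ E₁.homOfLE h = P.homOfLE (ι.preimage_mono h) ≫ (ι ∣_ U V) := by
      rw [← cancel_mono (U V).ι, Category.assoc, Category.assoc, Scheme.homOfLE_ι, morphismRestrict_ι,
        morphismRestrict_ι, ← Category.assoc, Scheme.homOfLE_ι]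
    rw [← Category.assoc, e, Category.assoc, hψ₂, ← Category.assoc, Scheme.homOfLE_ι]
  have hcov : IsOpenCover U := by
    refine TopologicalSpace.IsOpenCover.mk ?_
    show (⨆ V : S.affineOpens, π₁ ⁻¹ᵁ V.1) = ⊤
    rw [← Scheme.Hom.preimage_iSup, iSup_affineOpens_eq_top S, Scheme.Hom.preimage_top]
  let 𝒰 := E₁.openCoverOfIsOpenCover U hcov
  have hglue : ∀ x y : 𝒰.I₀, pullback.fst (𝒰.f x) (𝒰.f y) ≫ ψ x = pullback.snd _ _ ≫ ψ y := by
    intro x y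
    have hr : Set.range (pullback.fst (U x).ι (U y).ι ≫ (U x).ι) ⊆ Set.range (U x ⊓ U y).ι := by
      rw [Scheme.Opens.range_ι]
      rintro _ ⟨z, rfl⟩
      refine ⟨(pullback.fst (U x).ι (U y).ι z).2, ?_⟩
      rw [pullback.condition]
      exact (pullback.snd (U x).ι (U y).ι z).2
    set l := IsOpenImmersion.lift (U x ⊓ U y).ι (pullback.fst (U x).ι (U y).ι ≫ (U x).ι) hr
    have hl : l ≫ (U x ⊓ U y).ι = pullback.fst (U x).ι (U y).ι ≫ (U x).ι := IsOpenImmersion.lift_fac _ _ _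
    have h1 : pullback.fst (U x).ι (U y).ι = l ≫ E₁.homOfLE inf_le_left := by
      rw [← cancel_mono (U x).ι, Category.assoc, Scheme.homOfLE_ι, hl]
    have h2 : pullback.snd (U x).ι (U y).ι = l ≫ E₁.homOfLE inf_le_right := by
      rw [← cancel_mono (U y).ι, Category.assoc, Scheme.homOfLE_ι, hl, pullback.condition]
    show pullback.fst (U x).ι (U y).ι ≫ ψ x = pullback.snd (U x).ι (U y).ι ≫ ψ y
    rw [h1, h2, Category.assoc, Category.assoc]
    congr 1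
    refine hom_ext_opens (fun W : {W : S.affineOpens // W.1 ≤ x.1 ⊓ y.1} => U W.1)
      (fun W => le_inf (π₁.preimage_mono (W.2.trans inf_le_left)) (π₁.preimage_mono (W.2.trans inf_le_right))) ?_ fun W => ?_
    · intro z hz
      obtain ⟨_, ⟨W, hW, rfl⟩, hzW, hWle⟩ :=
        S.isBasis_affineOpens.exists_subset_of_mem_open (show π₁ z ∈ x.1 ⊓ y.1 from hz) (x.1 ⊓ y.1).2
      exact Opens.mem_iSup.2 ⟨⟨⟨W, hW⟩, hWle⟩, hzW⟩
    · rw [← Category.assoc, Scheme.homOfLE_homOfLE, ← Category.assoc, Scheme.homOfLE_homOfLE, hcompat, hcompat]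
  refine ⟨𝒰.glueMorphisms ψ hglue, ⟨Scheme.Cover.hom_ext 𝒰 _ _ fun V => ?_, ?_⟩, fun ψ' hψ' => ?_⟩
  · rw [← Category.assoc, Scheme.Cover.ι_glueMorphisms]
    exact hψ₁ V
  · refine Scheme.Cover.hom_ext (P.openCoverOfIsOpenCover (fun V => ι ⁻¹ᵁ U V) ?_) _ _ fun V => ?_
    · refine TopologicalSpace.IsOpenCover.mk ?_
      rw [← Scheme.Hom.preimage_iSup, hcov.iSup_eq_top, Scheme.Hom.preimage_top]
    · show (ι ⁻¹ᵁ U V).ι ≫ ι ≫ 𝒰.glueMorphisms ψ hglue = (ι ⁻¹ᵁ U V).ι ≫ φ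
      rw [← Category.assoc, ← morphismRestrict_ι, Category.assoc,
        show (U V).ι ≫ 𝒰.glueMorphisms ψ hglue = ψ V from Scheme.Cover.ι_glueMorphisms 𝒰 ψ hglue V, hψ₂]
  · refine Scheme.Cover.hom_ext 𝒰 _ _ fun V => ?_
    rw [Scheme.Cover.ι_glueMorphisms]
    show (U V).ι ≫ ψ' = ψ V
    refine huniq V _ _ (by rw [Category.assoc, hψ'.1]) (hψ₁ V) ?_
    rw [hψ₂, ← Category.assoc, morphismRestrict_ι, Category.assoc, hψ'.2]

/-- Extension of morphisms into schemes affine over the base. -/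
theorem existsUnique_comp (ι : P ⟶ E₁) (π₁ : E₁ ⟶ S) (π₂ : E₂ ⟶ S) [IsAffineHom π₂]
    (hbij : ∀ V : S.Opens, IsAffineOpen V → Function.Bijective (ι.app (π₁ ⁻¹ᵁ V)))
    (φ : P ⟶ E₂) (hφ : φ ≫ π₂ = ι ≫ π₁) : ∃! ψ : E₁ ⟶ E₂, ψ ≫ π₂ = π₁ ∧ ι ≫ ψ = φ :=
  existsUnique_comp_of_range ι π₁ π₂ (fun V hV => (hbij V hV).1) φ hφ fun V hV _ _ => (hbij V hV).2 _

/-- Restriction of finite étale covers is fully faithful as soon as it is bijective on sections. -/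
theorem restrict_full_faithful_of_sections {X T : Scheme.{u}} (f : T ⟶ X)
    (hbij : ∀ (E : Scheme.{u}) (π : E ⟶ X), IsFinite π → Etale π → ∀ V : X.Opens, IsAffineOpen V →
      Function.Bijective ((pullback.fst π f).app (π ⁻¹ᵁ V))) :
    (FEt.restrict f).Full ∧ (FEt.restrict f).Faithful := by
  have key : ∀ (E₁ E₂ : FEt.Cat X) (φ : (FEt.restrict f).obj E₁ ⟶ (FEt.restrict f).obj E₂),
      ∃! ψ : E₁.left ⟶ E₂.left, ψ ≫ E₂.hom = E₁.hom ∧
        pullback.fst E₁.hom f ≫ ψ = φ.left ≫ pullback.fst E₂.hom f := fun E₁ E₂ φ => by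
    have hfin : IsFinite E₂.hom := E₂.prop.1
    refine @existsUnique_comp _ E₁.left E₂.left X (pullback.fst E₁.hom f) E₁.hom E₂.hom hfin.toIsAffineHom
      (hbij E₁.left E₁.hom E₁.prop.1 E₁.prop.2) (φ.left ≫ pullback.fst E₂.hom f) ?_
    have hw : φ.left ≫ pullback.snd E₂.hom f = pullback.snd E₁.hom f := MorphismProperty.Over.w φ
    rw [Category.assoc, pullback.condition]
    refine Eq.trans ?_ pullback.condition.symm
    rw [← hw, Category.assoc]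
  have hmap : ∀ (E₁ E₂ : FEt.Cat X) (ψ : E₁ ⟶ E₂),
      ((FEt.restrict f).map ψ).left ≫ pullback.fst E₂.hom f = pullback.fst E₁.hom f ≫ ψ.left :=
    fun E₁ E₂ ψ => pullback.lift_fst _ _ _
  refine ⟨⟨fun {E₁ E₂} φ => ?_⟩, ⟨fun {E₁ E₂} {ψ₁ ψ₂} h => MorphismProperty.Over.Hom.ext
    ((key E₁ E₂ _).unique ⟨MorphismProperty.Over.w ψ₁, (hmap _ _ ψ₁).symm⟩
      ⟨MorphismProperty.Over.w ψ₂, (hmap _ _ ψ₂).symm.trans (by rw [h])⟩)⟩⟩
  obtain ⟨ψ, ⟨h₁, h₂⟩, -⟩ := key E₁ E₂ φ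
  refine ⟨MorphismProperty.Over.homMk ψ h₁, MorphismProperty.Over.Hom.ext (pullback.hom_ext ?_ ?_)⟩
  · exact (hmap _ _ _).trans h₂
  · exact (MorphismProperty.Over.w ((FEt.restrict f).map (MorphismProperty.Over.homMk ψ h₁))).trans
      (MorphismProperty.Over.w φ).symm

end Groth.Agent.Purity
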