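import Groth.Agent.Purity.Limit

/-!
# The induction step: comparing with a lifted finite étale algebra
-/

set_option autoImplicit false

universe u v w

open IsLocalRing

namespace Groth.Agent.Purity

variable {R : Type u} [CommRing R]

/-- If `f ^ N C ⊆ x C` then some element congruent to a power of `f` modulo `x` kills `C`. -/
theorem exists_killer_mod {C : Type v} [AddCommGroup C] [Module R C] [Module.Finite R C] (x f : R)
    (h : ∀ c : C, ∃ (N : ℕ) (c' : C), f ^ N • c = x • c') :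
    ∃ (M : ℕ) (e : R), ∀ c : C, (f ^ M + x * e) • c = 0 := by
  classical
  obtain ⟨G, hG⟩ := Module.Finite.fg_top (R := R) (M := C)
  choose N c' hc' using h
  set N₀ := ∑ g ∈ G, N g
  let φ : Module.End R C := LinearMap.lsmul R C (f ^ N₀)
  have hφ : LinearMap.range φ ≤ Ideal.span {x} • (⊤ : Submodule R C) := by
    rintro _ ⟨c, rfl⟩
    have hc : c ∈ Submodule.span R (G : Set C) := hG ▸ Submodule.mem_top
    induction hc using Submodule.span_induction with
    | mem y hy =>
      obtain ⟨d, hd⟩ := Nat.exists_eq_add_of_le (Finset.single_le_sum (f := N) (fun _ _ => Nat.zero_le _) hy)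
      rw [LinearMap.lsmul_apply, show N₀ = N y + d from hd, pow_add, mul_comm, mul_smul, hc', smul_comm]
      exact Submodule.smul_mem_smul (Ideal.mem_span_singleton_self x) trivial
    | zero => rw [map_zero]; exact zero_mem _
    | add y z _ _ hy hz => rw [map_add]; exact add_mem hy hz
    | smul t y _ hy => rw [map_smul]; exact Submodule.smul_mem _ t hy
  obtain ⟨q, hq, -, hqI, hqf⟩ :=
    LinearMap.exists_monic_and_natDegree_eq_and_coeff_mem_pow_and_aeval_eq_zero R φ (Ideal.span {x}) hφ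
  have hdiv : ∀ i ∈ Finset.range q.natDegree, x ∣ q.coeff i * (f ^ N₀) ^ i := fun i hi =>
    Ideal.mem_span_singleton.1 (Ideal.mul_mem_right _ _
      (Ideal.pow_le_self (by have := Finset.mem_range.1 hi; omega) (hqI i)))
  obtain ⟨e, he⟩ := Finset.dvd_sum hdiv
  refine ⟨N₀ * q.natDegree, e, fun c => ?_⟩
  have hev : Polynomial.aeval φ q = LinearMap.lsmul R C (Polynomial.eval (f ^ N₀) q) := by
    rw [Polynomial.aeval_eq_sum_range, Polynomial.eval_eq_sum_range, map_sum]
    refine Finset.sum_congr rfl fun i hi => LinearMap.ext fun y => ?_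
    have hφi : (φ ^ i) y = (f ^ N₀) ^ i • y := by
      clear hi
      induction i with
      | zero => simp
      | succ i ih => rw [pow_succ', Module.End.mul_apply, ih, LinearMap.lsmul_apply, pow_succ', mul_smul]
    rw [LinearMap.smul_apply, hφi, LinearMap.lsmul_apply, mul_smul]
  have h0 := LinearMap.congr_fun (hev.symm.trans hqf) c
  rw [LinearMap.lsmul_apply, Polynomial.eval_eq_sum_range, Finset.sum_range_succ, hq.coeff_natDegree, one_mul, he,
    ← pow_mul, add_comm] at h0
  exact h0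

theorem two_of_isRelPrime [IsDomain R] [UniqueFactorizationMonoid R] {s t : R} (hs : s ≠ 0) (h : IsRelPrime s t) :
    TwoWith s t R where
  inj m hm := (mul_eq_zero.1 hm).resolve_left hs
  cancel m n hmn := by
    obtain ⟨z, rfl⟩ : s ∣ m := h.dvd_of_dvd_mul_left ⟨n, hmn⟩
    exact ⟨z, rfl⟩

/-- A lifted finite étale algebra with a compatible map from `B` is isomorphic to `B`. -/
theorem etale_of_lift [IsNoetherianRing R] [IsLocalRing R] [IsDomain R] [UniqueFactorizationMonoid R]
    [IsAdicComplete (maximalIdeal R) R] {x a b : R} (hx0 : x ≠ 0) (hxm : x ∈ maximalIdeal R)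
    (hq : ∀ p ∈ maximalIdeal R, ∃ q : Ideal R, q.IsPrime ∧ p ∈ q ∧ x ∈ q ∧ ¬ maximalIdeal R ≤ q)
    {B : Type v} [CommRing B] [Algebra R B] [Module.Finite R B]
    [Algebra.Etale R (Localization.Away (algebraMap R B a))]
    [Algebra.Etale R (Localization.Away (algebraMap R B b))]
    (hB : ∀ s t : R, s ≠ 0 → t ≠ 0 → TwoWith s t R → TwoWith s t B)
    {B' : Type v} [CommRing B'] [Algebra R B'] [Module.Finite R B'] [Module.Free R B'] [Algebra.Etale R B']
    {E : Type w} [CommRing E] [Algebra R E] (π : B' →ₐ[R] E) (hπ : Function.Surjective π)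
    (hπk : ∀ z, π z = 0 ↔ z ∈ powIdeal B' x 1) (hE : TwoWith a b E)
    (φ : B →ₐ[R] E) (hφk : ∀ y, φ y = 0 → ∃ y', y = x • y')
    (hφi : ∀ f ∈ maximalIdeal R, ∀ e, ∃ N : ℕ, f ^ N • e ∈ φ.range) : Algebra.Etale R B := by
  classical
  have hxB' : ∀ z : B', algebraMap R B' x * z = 0 → z = 0 := fun z hz => by
    rw [← Algebra.smul_def] at hz
    exact (smul_eq_zero.1 hz).resolve_left hx0
  have h1 : ∀ z, algebraMap R B' a * z ∈ powIdeal B' x 1 → z ∈ powIdeal B' x 1 := by
    intro z hz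
    rw [← hπk] at hz ⊢
    rw [map_mul, AlgHom.commutes, ← Algebra.smul_def] at hz
    exact hE.inj _ hz
  have h2 : ∀ w v, algebraMap R B' b * w - algebraMap R B' a * v ∈ powIdeal B' x 1 →
      ∃ z, w - algebraMap R B' a * z ∈ powIdeal B' x 1 := by
    intro w v hwv
    rw [← hπk, map_sub, sub_eq_zero, map_mul, map_mul, AlgHom.commutes, AlgHom.commutes, ← Algebra.smul_def,
      ← Algebra.smul_def] at hwv
    obtain ⟨z, hz⟩ := hE.cancel _ _ hwv
    obtain ⟨z, rfl⟩ := hπ z
    exact ⟨z, (hπk _).1 (by rw [map_sub, map_mul, AlgHom.commutes, ← Algebra.smul_def, hz, sub_self])⟩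
  let π₀ : (B' ⧸ powIdeal B' x 1) →ₐ[R] E := Ideal.Quotient.liftₐ _ π fun z hz => (hπk z).2 hz
  have hπ₀ : Function.Bijective π₀ := by
    refine ⟨(injective_iff_map_eq_zero _).2 fun z hz => ?_, fun e => ?_⟩
    · obtain ⟨z, rfl⟩ := Ideal.Quotient.mk_surjective z
      exact Ideal.Quotient.eq_zero_iff_mem.2 ((hπk z).1 hz)
    · obtain ⟨z, rfl⟩ := hπ e
      exact ⟨Ideal.Quotient.mk _ z, rfl⟩
  obtain ⟨g, hg0, hg⟩ := exists_compatible (B := B) (a := a) (b := b) hxB' h1 h2
    ((AlgEquiv.ofBijective π₀ hπ₀).symm.toAlgHom.comp φ)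
  obtain ⟨G, hG⟩ := exists_limit hxm g hg
  have hπG : ∀ y, π (G y) = φ y := by
    intro y
    have h0 := hG 0 y
    rw [hg0] at h0
    show π₀ (Ideal.Quotient.mk _ (G y)) = φ y
    rw [h0]
    exact (AlgEquiv.ofBijective π₀ hπ₀).apply_symm_apply (φ y)
  have hinj : ∀ y, G y = 0 → y = 0 := by
    have hle : LinearMap.ker G.toLinearMap ≤ Ideal.span {x} • LinearMap.ker G.toLinearMap := by
      intro y hy
      rw [LinearMap.mem_ker, AlgHom.toLinearMap_apply] at hy
      obtain ⟨y', rfl⟩ := hφk y (by rw [← hπG, hy, map_zero])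
      refine Submodule.smul_mem_smul (Ideal.mem_span_singleton_self x) ?_
      rw [map_smul] at hy
      exact (smul_eq_zero.1 hy).resolve_left hx0
    have := Submodule.eq_bot_of_le_smul_of_le_jacobson_bot _ _ (IsNoetherian.noetherian _) hle (by
      rw [IsLocalRing.jacobson_eq_maximalIdeal ⊥ bot_ne_top, Ideal.span_singleton_le_iff_mem]; exact hxm)
    intro y hy
    have hy' : y ∈ LinearMap.ker G.toLinearMap := hy
    rwa [this, Submodule.mem_bot] at hy'
  -- the cokernel is killed by many elements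
  let P : Submodule R B' := LinearMap.range G.toLinearMap
  have hC : ∀ f ∈ maximalIdeal R, ∀ c : B' ⧸ P, ∃ (N : ℕ) (c' : B' ⧸ P), f ^ N • c = x • c' := by
    intro f hf c
    obtain ⟨z, rfl⟩ := Submodule.Quotient.mk_surjective P c
    obtain ⟨N, y, hy⟩ := hφi f hf (π z)
    have hmem : f ^ N • z - G y ∈ powIdeal B' x 1 :=
      (hπk _).1 (by rw [map_sub, map_smul, hπG, sub_eq_zero]; exact hy.symm)
    rw [Ideal.mem_span_singleton, pow_one] at hmem
    obtain ⟨w', hw'⟩ := hmem
    refine ⟨N, Submodule.Quotient.mk w', ?_⟩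
    rw [← Submodule.Quotient.mk_smul, ← Submodule.Quotient.mk_smul, Submodule.Quotient.eq]
    refine ⟨y, ?_⟩
    rw [AlgHom.toLinearMap_apply, Algebra.smul_def x, ← hw']
    ring
  have hkill : ∀ p ∈ maximalIdeal R, ∃ q : Ideal R, q.IsPrime ∧ p ∈ q ∧ ∃ r, r ∉ q ∧ ∀ c : B' ⧸ P, r • c = 0 := by
    intro p hp
    obtain ⟨q, hqp, hpq, hxq, hne⟩ := hq p hp
    obtain ⟨f, hfm, hfq⟩ := SetLike.not_le_iff_exists.1 hne
    obtain ⟨M, e, he⟩ := exists_killer_mod x f (hC f hfm)
    refine ⟨q, hqp, hpq, _, fun hmem => hfq (hqp.mem_of_pow_mem M ?_), he⟩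
    exact (Ideal.add_mem_iff_left _ (Ideal.mul_mem_right _ _ hxq)).1 hmem
  obtain ⟨q₀, -, -, s, hs, hsC⟩ := hkill x hxm
  have hs0 : s ≠ 0 := fun h => hs (h ▸ zero_mem _)
  have hsurj : ∀ z, ∃ y, G y = z := by
    intro z
    by_cases hu : IsUnit s
    · have h0 : (Submodule.Quotient.mk z : B' ⧸ P) = 0 := by
        obtain ⟨u, rfl⟩ := hu
        have h := hsC (Submodule.Quotient.mk z)
        rw [← Units.smul_def, smul_eq_zero_iff_eq] at h
        exact h
      exact (Submodule.Quotient.mk_eq_zero P).1 h0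
    -- an element `t` of the annihilator prime to `s`
    set A : Ideal R := Module.annihilator R (B' ⧸ P)
    have hmemA : ∀ r, r ∈ A ↔ ∀ c : B' ⧸ P, r • c = 0 := fun r => Module.mem_annihilator
    set F := (UniqueFactorizationMonoid.factors s).toFinset
    have hFp : ∀ p ∈ F, Prime p := fun p hp =>
      UniqueFactorizationMonoid.prime_of_factor p (Multiset.mem_toFinset.1 hp)
    obtain ⟨t, htA, htF⟩ : ∃ t ∈ A, ∀ p ∈ F, t ∉ Ideal.span {p} := by
      by_contra! hall
      have hsub : (A : Set R) ⊆ ⋃ i ∈ (↑F : Set R), ((fun p : R => Ideal.span {p}) i : Ideal R) := by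
        intro t ht
        obtain ⟨p, hp, htp⟩ := hall t ht
        exact Set.mem_biUnion hp htp
      obtain ⟨p, hp, hle⟩ := (Ideal.subset_union_prime 0 0 fun i hi _ _ =>
        (Ideal.span_singleton_prime (hFp i hi).ne_zero).2 (hFp i hi)).1 hsub
      obtain ⟨q, -, hpq, r, hr, hrC⟩ := hkill p ((IsLocalRing.mem_maximalIdeal p).2 (hFp p hp).not_isUnit)
      exact hr ((Ideal.span_singleton_le_iff_mem q).2 hpq (hle ((hmemA r).2 hrC)))
    have ht0 : t ≠ 0 := by
      rintro rfl
      obtain ⟨p, hp⟩ := UniqueFactorizationMonoid.exists_mem_factors hs0 hu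
      exact htF p (Multiset.mem_toFinset.2 hp) (zero_mem _)
    have hrel : IsRelPrime s t := by
      intro d hds hdt
      by_contra hd
      obtain ⟨p, hp, hpd⟩ := WfDvdMonoid.exists_irreducible_factor hd (fun h => hs0 (by simpa [h] using hds))
      obtain ⟨p', hp', hass⟩ := UniqueFactorizationMonoid.exists_mem_factors_of_dvd hs0 hp (hpd.trans hds)
      exact htF p' (Multiset.mem_toFinset.2 hp') (Ideal.mem_span_singleton.2 (hass.symm.dvd.trans (hpd.trans hdt)))
    obtain ⟨w, hw⟩ : s • z ∈ P := (Submodule.Quotient.mk_eq_zero P).1 (by rw [Submodule.Quotient.mk_smul]; exact hsC _)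
    obtain ⟨w', hw'⟩ : t • z ∈ P :=
      (Submodule.Quotient.mk_eq_zero P).1 (by rw [Submodule.Quotient.mk_smul]; exact (hmemA t).1 htA _)
    rw [AlgHom.toLinearMap_apply] at hw hw'
    have e1 : t • w = s • w' :=
      sub_eq_zero.1 (hinj _ (by rw [map_sub, map_smul, map_smul, hw, hw', smul_comm, sub_self]))
    obtain ⟨v, rfl⟩ := (hB s t hs0 ht0 (two_of_isRelPrime hs0 hrel)).cancel w w' e1
    refine ⟨v, ?_⟩
    rw [map_smul] at hw
    exact smul_right_injective B' hs0 hw
  exact Algebra.Etale.of_equiv (AlgEquiv.ofBijective G ⟨(injective_iff_map_eq_zero G).2 hinj, hsurj⟩).symm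

end Groth.Agent.Purity
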