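import Groth.Agent.Purity.BranchLocus
import Groth.Agent.Purity.FlatDim
import Groth.Agent.S2195

/-!
# Purity for flat quasi-finite maps: étale in codimension one implies étale
-/

set_option autoImplicit false

universe u

open IsLocalRing
open scoped TensorProduct

attribute [local instance] Algebra.TensorProduct.rightAlgebra

namespace Groth.Agent.Purity

/-- The discriminant lies in `P` only if some prime over `P` is not étale. -/
theorem exists_not_isEtaleAt {T D : Type u} [CommRing T] [IsNoetherianRing T] [CommRing D] [Algebra T D]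
    [Module.Finite T D] {ι : Type} [Fintype ι] [DecidableEq ι] (b : Module.Basis ι T D) (P : Ideal T) [P.IsPrime]
    (hδ : Algebra.discr T b ∈ P) :
    ∃ Q : Ideal D, ∃ _ : Q.IsPrime, Q.comap (algebraMap T D) = P ∧ ¬ Algebra.IsEtaleAt T Q := by
  by_contra hall
  push Not at hall
  obtain ⟨s, hs, hse⟩ := exists_etale_away (A := T) (C := D) P fun q hq hqp => hall q hq hqp
  haveI := hse
  let Ts := Localization.Away s
  haveI : IsLocalization.Away (algebraMap T D s) (D ⊗[T] Ts) := inferInstance
  haveI : Algebra.Etale Ts (Ts ⊗[T] D) := by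
    haveI : Algebra.Etale T (D ⊗[T] Ts) :=
      Algebra.Etale.of_equiv ((IsLocalization.algEquiv (Submonoid.powers (algebraMap T D s))
        (Localization.Away (algebraMap T D s)) (D ⊗[T] Ts)).restrictScalars T)
    haveI : Algebra.Etale T (Ts ⊗[T] D) := Algebra.Etale.of_equiv (Algebra.TensorProduct.comm T D Ts)
    haveI : Algebra.FinitePresentation Ts (Ts ⊗[T] D) := by
      haveI : Algebra.FinitePresentation T D := Algebra.FinitePresentation.of_finiteType.1 inferInstance
      infer_instance
    haveI : Algebra.FormallyEtale T Ts := Algebra.FormallyEtale.of_isLocalization (Submonoid.powers s)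
    haveI : Algebra.FormallyEtale Ts (Ts ⊗[T] D) := Algebra.FormallyEtale.of_restrictScalars (R := T)
    constructor <;> infer_instance
  let b' := Algebra.TensorProduct.basis Ts b
  have hu := (Groth.Agent.S2195.result b').1 inferInstance
  have hd : Algebra.discr Ts b' = algebraMap T Ts (Algebra.discr T b) := by
    haveI : Module.Free T D := Module.Free.of_basis b
    rw [Algebra.discr_def, Algebra.discr_def, RingHom.map_det]
    congr 1
    ext i j
    simp only [Algebra.traceMatrix_apply, Algebra.traceForm_apply, RingHom.mapMatrix_apply, Matrix.map_apply,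
      b', Algebra.TensorProduct.basis_apply, Algebra.TensorProduct.tmul_mul_tmul, one_mul]
    rw [Algebra.trace_apply, Algebra.trace_apply, show Algebra.lmul Ts (Ts ⊗[T] D) ((1 : Ts) ⊗ₜ[T] (b i * b j)) =
      (Algebra.lmul T D (b i * b j)).baseChange Ts from ?_, LinearMap.trace_baseChange]
    refine (Algebra.TensorProduct.basis Ts b).ext fun k => ?_
    simp [Algebra.TensorProduct.basis_apply, Algebra.TensorProduct.tmul_mul_tmul]
  rw [hd] at hu
  obtain ⟨z, hz⟩ := hu.exists_right_inv
  obtain ⟨⟨x, ⟨_, k, rfl⟩⟩, hx⟩ := IsLocalization.surj (Submonoid.powers s) z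
  have h := congrArg (algebraMap T Ts (Algebra.discr T b) * ·) hx
  simp only [← mul_assoc, hz, one_mul, ← map_mul] at h
  obtain ⟨⟨_, j, rfl⟩, hj⟩ := (IsLocalization.eq_iff_exists (Submonoid.powers s) Ts).1 h
  simp only [← pow_add] at hj
  exact hs (Ideal.IsPrime.mem_of_pow_mem inferInstance (j + k)
    (hj ▸ P.mul_mem_left _ (P.mul_mem_right _ hδ)))

/-- Flatness of the local factor over the completed base. -/
theorem flat_factor {A C T D : Type u} [CommRing A] [CommRing C] [CommRing T] [CommRing D] [Algebra A C]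
    [Algebra A T] [Algebra (T ⊗[A] C) D] [Algebra T D] [IsScalarTower T (T ⊗[A] C) D]
    (g₀ : T ⊗[A] C) [IsLocalization.Away g₀ D] (q : Ideal C) [q.IsPrime]
    [Module.Flat A (Localization.AtPrime q)]
    (h : ∀ c : C, c ∉ q → IsUnit (algebraMap (T ⊗[A] C) D ((1 : T) ⊗ₜ[A] c))) : Module.Flat T D := by
  let Cq := Localization.AtPrime q
  letI : Algebra (T ⊗[A] C) (T ⊗[A] Cq) :=
    (Algebra.TensorProduct.map (AlgHom.id T T) (IsScalarTower.toAlgHom A C Cq)).toRingHom.toAlgebra
  haveI : IsScalarTower T (T ⊗[A] C) (T ⊗[A] Cq) := .of_algebraMap_eq fun t => by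
    rw [RingHom.algebraMap_toAlgebra]
    exact ((Algebra.TensorProduct.map (AlgHom.id T T) (IsScalarTower.toAlgHom A C Cq)).commutes t).symm
  let M : Submonoid (T ⊗[A] C) := q.primeCompl.map (Algebra.TensorProduct.includeRight (R := A) (A := T))
  haveI : IsLocalization M (T ⊗[A] Cq) :=
    IsLocalization.tensorProduct_tensorProduct_right A T q.primeCompl Cq (by
      refine RingHom.ext fun c => ?_
      simp [RingHom.algebraMap_toAlgebra])
  let M' : Submonoid (T ⊗[A] C) := Submonoid.powers g₀ ⊔ M
  haveI : IsLocalization M' D := IsLocalization.of_le (Submonoid.powers g₀) M' le_sup_left fun r hr => by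
    have hle : M' ≤ (IsUnit.submonoid D).comap (algebraMap (T ⊗[A] C) D) := sup_le
      (fun x hx => IsLocalization.map_units D (⟨x, hx⟩ : Submonoid.powers g₀))
      (by rintro _ ⟨c, hc, rfl⟩; exact h c hc)
    exact hle hr
  letI : Algebra (T ⊗[A] Cq) D := IsLocalization.localizationAlgebraOfSubmonoidLe _ _ M M' le_sup_right
  haveI : IsScalarTower (T ⊗[A] C) (T ⊗[A] Cq) D :=
    IsLocalization.localization_isScalarTower_of_submonoid_le _ _ M M' le_sup_right
  haveI : IsScalarTower T (T ⊗[A] Cq) D := IsScalarTower.to₁₃₄ T (T ⊗[A] C) (T ⊗[A] Cq) D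
  haveI : IsLocalization (M'.map (algebraMap (T ⊗[A] C) (T ⊗[A] Cq))) D :=
    IsLocalization.isLocalization_of_submonoid_le _ _ M M' le_sup_right
  haveI : Module.Flat (T ⊗[A] Cq) D := IsLocalization.flat D (M'.map (algebraMap (T ⊗[A] C) (T ⊗[A] Cq)))
  exact Module.Flat.trans T (T ⊗[A] Cq) D

/-- Étaleness passes to the local factor. -/
theorem isEtaleAt_factor {A C T D : Type u} [CommRing A] [IsNoetherianRing A] [CommRing C] [CommRing T] [CommRing D]
    [Algebra A C] [Module.Finite A C] [Algebra A T] [Algebra (T ⊗[A] C) D] [Algebra T D]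
    [IsScalarTower T (T ⊗[A] C) D] (g₀ : T ⊗[A] C) [IsLocalization.Away g₀ D] (Q : Ideal D) [Q.IsPrime]
    (h : Algebra.IsEtaleAt A ((Q.comap (algebraMap (T ⊗[A] C) D)).comap (algebraMap C (T ⊗[A] C)))) :
    Algebra.IsEtaleAt T Q := by
  haveI : Algebra.FinitePresentation A C := Algebra.FinitePresentation.of_finiteType.1 inferInstance
  set Q' := Q.comap (algebraMap (T ⊗[A] C) D)
  haveI := h
  obtain ⟨g, hg, hge⟩ := Algebra.exists_etale_of_isEtaleAt (R := A) (Q'.comap (algebraMap C (T ⊗[A] C)))
  haveI := hge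
  haveI : Algebra.Etale T (Localization.Away ((1 : T) ⊗ₜ[A] g)) :=
    Algebra.Etale.of_equiv (IsLocalization.Away.tensorProductEquivTMulRight A T g (Localization.Away g))
  have hQ' : Algebra.IsEtaleAt T Q' := Algebra.basicOpen_subset_etaleLocus_iff_etale.2 ‹_›
    (show (1 : T) ⊗ₜ[A] g ∉ (⟨Q', inferInstance⟩ : PrimeSpectrum (T ⊗[A] C)).asIdeal from hg)
  haveI : IsLocalization.AtPrime (Localization.AtPrime Q) Q' :=
    IsLocalization.isLocalization_isLocalization_atPrime_isLocalization (Submonoid.powers g₀)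
      (Localization.AtPrime Q) Q
  exact (Algebra.FormallyEtale.iff_of_equiv ((IsLocalization.algEquiv Q'.primeCompl
    (Localization.AtPrime Q') (Localization.AtPrime Q)).restrictScalars T)).1 hQ'

/-- A prime over a large height-one prime meets the base of a flat map below height one. -/
theorem exists_height_one_over {T S D : Type u} [CommRing T] [IsNoetherianRing T] [IsLocalRing T] [CommRing S] [IsLocalRing S]
    [IsNoetherianRing S] [CommRing D] [IsLocalRing D] [IsNoetherianRing D] [Algebra T D] [Module.Finite T D]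
    [Module.Flat T D] [Algebra S D] [Module.Flat S D]
    (hfib : (maximalIdeal T).map (algebraMap T D) ≤ (maximalIdeal S).map (algebraMap S D))
    (hloc : (maximalIdeal D).comap (algebraMap S D) = maximalIdeal S)
    {d : ℕ} (hS : ringKrullDim S ≤ d) (hd1 : 1 ≤ d)
    (P : PrimeSpectrum T) (hP : Order.height P = 1) (hcoh : (d : ℕ∞) ≤ Order.coheight P + 1)
    (Q : Ideal D) [Q.IsPrime] (hQ : Q.comap (algebraMap T D) = P.asIdeal) :
    ∃ q₁ : Ideal S, ∃ _ : q₁.IsPrime, q₁.height = 1 ∧ Q.comap (algebraMap S D) ≤ q₁ := by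
  haveI : Algebra.IsIntegral T D := Algebra.IsIntegral.of_finite T D
  haveI := P.2
  haveI : Q.LiesOver P.asIdeal := ⟨hQ.symm⟩
  have hQ1 : Q.height = 1 := by
    refine le_antisymm ?_ ?_
    · refine (height_le_comap (B := T) Q).trans ?_
      rw [hQ, PrimeSpectrum.height_eq_orderHeight, hP]
    · rw [Ideal.height_eq_height_add_of_liesOver_of_hasGoingDown P.asIdeal Q,
        PrimeSpectrum.height_eq_orderHeight, hP]
      exact le_self_add
  set q := Q.comap (algebraMap S D)
  haveI : Q.LiesOver q := ⟨rfl⟩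
  have hq1 : q.height ≤ 1 := by
    rw [← hQ1, Ideal.height_eq_height_add_of_liesOver_of_hasGoingDown q Q]
    exact le_self_add
  rcases eq_or_lt_of_le hq1 with h | h
  · exact ⟨q, inferInstance, h, le_rfl⟩
  rw [Order.lt_one_iff, Ideal.height_eq_zero_iff] at h
  obtain ⟨Q₀, hQ₀, hQ₀Q⟩ := Ideal.exists_minimalPrimes_le (bot_le : (⊥ : Ideal D) ≤ Q)
  haveI : Q₀.IsPrime := hQ₀.1.1
  have hne : Q₀ ≠ Q := by
    rintro rfl
    rw [Ideal.height_eq_zero_iff.2 hQ₀] at hQ1
    exact zero_ne_one hQ1
  have hq₀ : Q₀.comap (algebraMap S D) = q :=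
    le_antisymm (Ideal.comap_mono hQ₀Q) (h.2 ⟨inferInstance, bot_le⟩ (Ideal.comap_mono hQ₀Q))
  have hcQ₀ : (d : ℕ∞) ≤ Order.coheight (⟨Q₀, inferInstance⟩ : PrimeSpectrum D) := by
    refine hcoh.trans (le_trans ?_ (Order.coheight_add_one_le
      (show (⟨Q₀, inferInstance⟩ : PrimeSpectrum D) < ⟨Q, inferInstance⟩ from lt_of_le_of_ne hQ₀Q fun h => hne (congrArg PrimeSpectrum.asIdeal h))))
    gcongr
    have := coheight_under_le (A := T) (⟨Q, inferInstance⟩ : PrimeSpectrum D)
    rwa [show PrimeSpectrum.comap (algebraMap T D) ⟨Q, inferInstance⟩ = P from PrimeSpectrum.ext hQ] at this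
  -- the closed fibre is zero-dimensional
  haveI : Q₀.LiesOver q := ⟨hq₀.symm⟩
  haveI : Nontrivial (D ⧸ Q₀) := Ideal.Quotient.nontrivial_iff.2 (Ideal.IsPrime.ne_top inferInstance)
  haveI : IsLocalRing (D ⧸ Q₀) := .of_surjective' _ Ideal.Quotient.mk_surjective
  haveI : Nontrivial (S ⧸ q) := Ideal.Quotient.nontrivial_iff.2 (Ideal.IsPrime.ne_top inferInstance)
  haveI : IsLocalRing (S ⧸ q) := .of_surjective' _ Ideal.Quotient.mk_surjective
  haveI : IsLocalHom (Ideal.Quotient.mk Q₀) := .of_surjective _ Ideal.Quotient.mk_surjective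
  haveI : IsLocalHom (Ideal.Quotient.mk q) := .of_surjective _ Ideal.Quotient.mk_surjective
  haveI : (maximalIdeal (D ⧸ Q₀)).LiesOver (maximalIdeal (S ⧸ q)) := ⟨by
    ext x
    obtain ⟨x, rfl⟩ := Ideal.Quotient.mk_surjective x
    show Ideal.Quotient.mk q x ∈ _ ↔ Ideal.Quotient.mk Q₀ (algebraMap S D x) ∈ maximalIdeal _
    rw [mem_maximalIdeal, mem_maximalIdeal, mem_nonunits_iff, mem_nonunits_iff, isUnit_map_iff, isUnit_map_iff,
      ← mem_nonunits_iff, ← mem_nonunits_iff, ← mem_maximalIdeal, ← mem_maximalIdeal, ← Ideal.mem_comap, hloc]⟩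
  have hle := Ideal.height_le_height_add_of_liesOver (maximalIdeal (S ⧸ q)) (maximalIdeal (D ⧸ Q₀))
  have hzero : ((maximalIdeal (D ⧸ Q₀)).map (Ideal.Quotient.mk ((maximalIdeal (S ⧸ q)).map
      (algebraMap (S ⧸ q) (D ⧸ Q₀))))).height = 0 := by
    set J := (maximalIdeal (S ⧸ q)).map (algebraMap (S ⧸ q) (D ⧸ Q₀))
    have hJ : J ≤ maximalIdeal (D ⧸ Q₀) :=
      Ideal.map_le_iff_le_comap.2 (Ideal.LiesOver.over (P := maximalIdeal (D ⧸ Q₀)) (p := maximalIdeal (S ⧸ q))).le
    haveI : ((maximalIdeal (D ⧸ Q₀)).map (Ideal.Quotient.mk J)).IsPrime :=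
      Ideal.map_isPrime_of_surjective Ideal.Quotient.mk_surjective (by rw [Ideal.mk_ker]; exact hJ)
    rw [Ideal.height_eq_zero_iff]
    refine ⟨⟨inferInstance, bot_le⟩, fun P' hP' hle' => ?_⟩
    haveI := hP'.1
    set P'' := P'.comap (Ideal.Quotient.mk J)
    haveI : (P''.comap (Ideal.Quotient.mk Q₀)).IsMaximal := by
      refine Ideal.isMaximal_of_isIntegral_of_isMaximal_comap (R := T) _ ?_
      have heq : (P''.comap (Ideal.Quotient.mk Q₀)).comap (algebraMap T D) = maximalIdeal T := by
        refine ((maximalIdeal.isMaximal T).eq_of_le (Ideal.IsPrime.ne_top inferInstance) fun t ht => ?_).symm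
        have hmem : algebraMap T D t ∈ (maximalIdeal S).map (algebraMap S D) := hfib (Ideal.mem_map_of_mem _ ht)
        have hsub : (maximalIdeal S).map (algebraMap S D) ≤ P''.comap (Ideal.Quotient.mk Q₀) := by
          rw [Ideal.map_le_iff_le_comap]
          intro s hs
          show Ideal.Quotient.mk J (Ideal.Quotient.mk Q₀ (algebraMap S D s)) ∈ P'
          rw [show Ideal.Quotient.mk J (Ideal.Quotient.mk Q₀ (algebraMap S D s)) = 0 from
            Ideal.Quotient.eq_zero_iff_mem.2 (Ideal.mem_map_of_mem (algebraMap (S ⧸ q) (D ⧸ Q₀))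
              (show Ideal.Quotient.mk q s ∈ maximalIdeal (S ⧸ q) from fun hu =>
                hs (isUnit_of_map_unit (Ideal.Quotient.mk q) s hu)))]
          exact P'.zero_mem
        exact hsub hmem
      rw [heq]; exact maximalIdeal.isMaximal T
    intro x hx
    obtain ⟨x, rfl⟩ := Ideal.Quotient.mk_surjective x
    obtain ⟨x, rfl⟩ := Ideal.Quotient.mk_surjective x
    show x ∈ P''.comap (Ideal.Quotient.mk Q₀)
    rw [IsLocalRing.eq_maximalIdeal (R := D) ‹(P''.comap (Ideal.Quotient.mk Q₀)).IsMaximal›]
    intro hu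
    exact (IsLocalRing.mem_maximalIdeal _).1 (Ideal.mem_comap.1
      (show Ideal.Quotient.mk Q₀ x ∈ maximalIdeal (D ⧸ Q₀) from by
        have := hx
        rw [← Ideal.mem_comap, Ideal.comap_map_of_surjective _ Ideal.Quotient.mk_surjective, ← RingHom.ker_eq_comap_bot,
          Ideal.mk_ker, sup_eq_left.2 hJ] at this
        exact this)) (hu.map _)
  rw [hzero, add_zero] at hle
  have h2 : (d : WithBot ℕ∞) ≤ ringKrullDim (S ⧸ q) := by
    rw [← IsLocalRing.maximalIdeal_height_eq_ringKrullDim]
    refine le_trans ?_ (WithBot.coe_le_coe.2 hle)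
    rw [IsLocalRing.maximalIdeal_height_eq_ringKrullDim, dim_quotient_eq_coheight ⟨Q₀, inferInstance⟩]
    exact WithBot.coe_le_coe.2 hcQ₀
  rw [dim_quotient_eq_coheight ⟨q, inferInstance⟩] at h2
  obtain ⟨q₁, hlt, hq₁⟩ := exists_height_one_above hS hd1 ⟨q, inferInstance⟩ (WithBot.coe_le_coe.1 h2)
  exact ⟨q₁.asIdeal, q₁.2, by rw [PrimeSpectrum.height_eq_orderHeight]; exact hq₁, hlt.le⟩

/-- The local factor over the completion is étale. -/
theorem isEtaleAt_completion_point {A C T D : Type u} [CommRing A] [IsNoetherianRing A] [IsLocalRing A] [CommRing C]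
    [Algebra A C] [Module.Finite A C] [CommRing T] [IsLocalRing T] [IsNoetherianRing T] [Algebra A T]
    [Module.Flat A T] [CommRing D] [Algebra (T ⊗[A] C) D] [Algebra T D] [IsScalarTower T (T ⊗[A] C) D]
    [Algebra A D] [IsScalarTower A T D] [Algebra C D] [IsScalarTower C (T ⊗[A] C) D] [IsScalarTower A C D]
    [Module.Finite T D] [IsLocalRing D] (g₀ : T ⊗[A] C) [IsLocalization.Away g₀ D]
    (hTA : ringKrullDim T = ringKrullDim A) (hmT : maximalIdeal T = (maximalIdeal A).map (algebraMap A T))
    (n : Ideal C) [n.IsPrime] (hn : n.comap (algebraMap A C) = maximalIdeal A)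
    [Module.Flat A (Localization.AtPrime n)] (hd1 : (1 : WithBot ℕ∞) ≤ ringKrullDim (Localization.AtPrime n))
    (hone : ∀ q : Ideal C, (hq : q.IsPrime) → q ≤ n → q.height = 1 → Algebra.IsEtaleAt A q)
    (N : Ideal (T ⊗[A] C)) [N.IsPrime] (hmD : (maximalIdeal D).comap (algebraMap (T ⊗[A] C) D) = N)
    (hNC : ∀ c : C, algebraMap C (T ⊗[A] C) c ∈ N ↔ c ∈ n) : Algebra.IsEtaleAt T N := by
  classical
  haveI : IsNoetherianRing C := IsNoetherianRing.of_finite A C
  haveI : Algebra.IsIntegral A C := Algebra.IsIntegral.of_finite A C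
  haveI : Algebra.FinitePresentation A C := Algebra.FinitePresentation.of_finiteType.1 inferInstance
  set S := Localization.AtPrime n
  haveI : IsNoetherianRing D := IsNoetherianRing.of_finite T D
  have hDC : ∀ c : C, algebraMap C D c ∈ maximalIdeal D ↔ c ∈ n := fun c => by
    rw [IsScalarTower.algebraMap_apply C (T ⊗[A] C) D, ← Ideal.mem_comap, hmD, hNC]
  have hunit : ∀ c : n.primeCompl, IsUnit (algebraMap C D c) := fun c =>
    IsLocalRing.notMem_maximalIdeal.1 fun hc => c.2 ((hDC c).1 hc)
  haveI : Module.Flat T D := flat_factor (D := D) g₀ n fun c hc => by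
    have := hunit ⟨c, hc⟩
    rwa [IsScalarTower.algebraMap_apply C (T ⊗[A] C) D] at this
  haveI : Module.Flat C (T ⊗[A] C) := flat_right A T C
  haveI : Module.Flat (T ⊗[A] C) D := IsLocalization.flat D (Submonoid.powers g₀)
  haveI : Module.Flat C D := Module.Flat.trans C (T ⊗[A] C) D
  let φ : S →+* D := IsLocalization.lift (M := n.primeCompl) (g := algebraMap C D) hunit
  letI : Algebra S D := φ.toAlgebra
  haveI : IsScalarTower C S D := .of_algebraMap_eq fun c =>
    (IsLocalization.lift_eq (M := n.primeCompl) (g := algebraMap C D) hunit c).symm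
  haveI : Module.Flat S D := (Module.flat_iff_of_isLocalization S n.primeCompl D).2 inferInstance
  have hlocS : (maximalIdeal D).comap (algebraMap S D) = maximalIdeal S := by
    refine ((maximalIdeal.isMaximal S).eq_of_le (Ideal.IsPrime.ne_top inferInstance) ?_).symm
    rw [← Localization.AtPrime.map_eq_maximalIdeal, Ideal.map_le_iff_le_comap]
    intro c hc
    show algebraMap S D (algebraMap C S c) ∈ maximalIdeal D
    rw [← IsScalarTower.algebraMap_apply]
    exact (hDC c).2 hc
  have hfib : (maximalIdeal T).map (algebraMap T D) ≤ (maximalIdeal S).map (algebraMap S D) := by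
    rw [hmT, Ideal.map_map, ← IsScalarTower.algebraMap_eq, Ideal.map_le_iff_le_comap]
    intro a ha
    show algebraMap A D a ∈ (maximalIdeal S).map (algebraMap S D)
    rw [IsScalarTower.algebraMap_apply A C D, IsScalarTower.algebraMap_apply C S D]
    exact Ideal.mem_map_of_mem _ ((IsLocalization.AtPrime.to_map_mem_maximal_iff S n _).2
      (show a ∈ n.comap (algebraMap A C) by rw [hn]; exact ha))
  haveI : Module.Free T D := Module.free_of_flat_of_isLocalRing
  let b := Module.Free.chooseBasis T D
  have hδ : IsUnit (Algebra.discr T (b.reindex (Fintype.equivFin _))) := by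
    by_contra hδ
    obtain ⟨d, hd⟩ : ∃ d : ℕ, ringKrullDim T = d := by
      cases hk : ringKrullDim T with
      | bot => exact absurd hk ringKrullDim_ne_bot
      | coe k =>
        cases k with
        | top => exact absurd hk (ringKrullDim_lt_top (R := T)).ne
        | coe k => exact ⟨k, rfl⟩
    have hS : ringKrullDim S ≤ d := by
      rw [IsLocalization.AtPrime.ringKrullDim_eq_height n S, ← hd, hTA, ← IsLocalRing.maximalIdeal_height_eq_ringKrullDim]
      exact WithBot.coe_le_coe.2 (hn ▸ height_le_comap (B := A) n)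
    have hd' : 1 ≤ d := by exact_mod_cast hd1.trans hS
    obtain ⟨P, hPδ, hP1, hPc⟩ := exists_height_one hd hd' _ ((IsLocalRing.mem_maximalIdeal _).2 hδ)
    haveI := P.2
    obtain ⟨Q, hQp, hQP, hQ⟩ := exists_not_isEtaleAt _ P.asIdeal hPδ
    obtain ⟨q₁, hq₁p, hq₁, hle⟩ := exists_height_one_over hfib hlocS hS hd' P hP1 hPc Q hQP
    set q₁C := q₁.comap (algebraMap C S)
    have hq₁n : q₁C ≤ n := fun c hc => (IsLocalization.AtPrime.to_map_mem_maximal_iff S n c).1
      ((IsLocalRing.le_maximalIdeal (J := q₁) (Ideal.IsPrime.ne_top inferInstance)) hc)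
    haveI := hone q₁C inferInstance hq₁n ((IsLocalization.height_under n.primeCompl q₁).trans hq₁)
    obtain ⟨g, hg, hge⟩ := Algebra.exists_etale_of_isEtaleAt (R := A) q₁C
    refine hQ (isEtaleAt_factor g₀ Q ?_)
    refine Algebra.basicOpen_subset_etaleLocus_iff_etale.2 hge
      (show g ∉ (PrimeSpectrum.comap (algebraMap C (T ⊗[A] C)) ⟨Q.comap (algebraMap (T ⊗[A] C) D), inferInstance⟩).asIdeal
        from fun hgQ => hg (hle ?_))
    show algebraMap S D (algebraMap C S g) ∈ Q
    rw [← IsScalarTower.algebraMap_apply, IsScalarTower.algebraMap_apply C (T ⊗[A] C) D]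
    exact hgQ
  haveI hDet : Algebra.Etale T D := (Groth.Agent.S2195.result _).2 hδ
  haveI : Algebra.FinitePresentation T (T ⊗[A] C) := inferInstance
  have hN : Algebra.IsEtaleAt T N := by
    have h : Algebra.IsEtaleAt T (maximalIdeal D) :=
      Set.eq_univ_iff_forall.1 (Algebra.etaleLocus_eq_univ_iff_etale.2 hDet) (IsLocalRing.closedPoint D)
    haveI : IsLocalization.AtPrime (Localization.AtPrime (maximalIdeal D)) N := by
      have h' : IsLocalization.AtPrime (Localization.AtPrime (maximalIdeal D))
          ((maximalIdeal D).comap (algebraMap (T ⊗[A] C) D)) :=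
        IsLocalization.isLocalization_isLocalization_atPrime_isLocalization (Submonoid.powers g₀)
          (Localization.AtPrime (maximalIdeal D)) (maximalIdeal D)
      revert h'
      simp only [hmD]
      exact id
    exact (Algebra.FormallyEtale.iff_of_equiv ((IsLocalization.algEquiv N.primeCompl
      (Localization.AtPrime (maximalIdeal D)) (Localization.AtPrime N)).restrictScalars T)).1 h
  exact hN

/-- Flat, finite, unramified in height one: étale. -/
theorem isEtaleAt_of_flat {A : Type u} [CommRing A] [IsNoetherianRing A] [IsLocalRing A] {C : Type u} [CommRing C]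
    [Algebra A C] [Module.Finite A C] (n : Ideal C) [n.IsPrime] (hn : n.comap (algebraMap A C) = maximalIdeal A)
    [Module.Flat A (Localization.AtPrime n)] (hd1 : (1 : WithBot ℕ∞) ≤ ringKrullDim (Localization.AtPrime n))
    (hunr : ∀ q : Ideal C, (hq : q.IsPrime) → q ≤ n → q.height = 1 →
      Algebra.FormallyUnramified A (Localization.AtPrime q)) : Algebra.IsEtaleAt A n := by
  classical
  haveI : IsNoetherianRing C := IsNoetherianRing.of_finite A C
  haveI : Algebra.IsIntegral A C := Algebra.IsIntegral.of_finite A C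
  haveI : Algebra.FinitePresentation A C := Algebra.FinitePresentation.of_finiteType.1 inferInstance
  have hone : ∀ q : Ideal C, (hq : q.IsPrime) → q ≤ n → q.height = 1 → Algebra.IsEtaleAt A q := by
    intro q _ hqn h1
    haveI := hunr q inferInstance hqn h1
    set p := q.under A
    haveI : q.LiesOver p := ⟨rfl⟩
    set Ap := Localization.AtPrime p
    set Cq := Localization.AtPrime q
    letI : Algebra Ap Cq := Localization.AtPrime.algebraOfLiesOver p q
    haveI : IsLocalHom (algebraMap Ap Cq) := by
      rw [RingHom.algebraMap_toAlgebra]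
      exact Localization.isLocalHom_localRingHom p q (algebraMap A C) Ideal.LiesOver.over
    have hle : n.primeCompl ≤ q.primeCompl := fun x hx hxq => hx (hqn hxq)
    letI := IsLocalization.localizationAlgebraOfSubmonoidLe (Localization.AtPrime n) Cq n.primeCompl q.primeCompl hle
    haveI : IsScalarTower C (Localization.AtPrime n) Cq :=
      IsLocalization.localization_isScalarTower_of_submonoid_le _ _ n.primeCompl q.primeCompl hle
    haveI : IsScalarTower A (Localization.AtPrime n) Cq := IsScalarTower.to₁₃₄ A C (Localization.AtPrime n) Cq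
    haveI : IsLocalization (q.primeCompl.map (algebraMap C (Localization.AtPrime n))) Cq :=
      IsLocalization.isLocalization_of_submonoid_le _ _ n.primeCompl q.primeCompl hle
    haveI : Module.Flat (Localization.AtPrime n) Cq :=
      IsLocalization.flat Cq (q.primeCompl.map (algebraMap C (Localization.AtPrime n)))
    haveI : Module.Flat A Cq := Module.Flat.trans A (Localization.AtPrime n) Cq
    haveI : Module.Flat Ap Cq := (Module.flat_iff_of_isLocalization Ap p.primeCompl Cq).2 inferInstance
    haveI : Algebra.EssFiniteType Ap Cq := Algebra.EssFiniteType.of_comp A Ap Cq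
    haveI : Algebra.FormallyUnramified Ap Cq := Algebra.FormallyUnramified.of_restrictScalars A Ap Cq
    exact FieldPow.isEtaleAt_of_flat_unramified (R' := Ap) (S' := Cq) p q
  set S := Localization.AtPrime n
  set T := AdicCompletion (maximalIdeal A) A
  haveI : IsNoetherianRing T := inferInstance
  haveI : HenselianLocalRing T := (Hensel.henselianLocalRing_iff T).2 inferInstance
  haveI : IsLocalHom (algebraMap A T) :=
    ((IsLocalRing.local_hom_TFAE _).out 0 2).2 AdicCompletion.maximalIdeal_eq_map.ge
  haveI : Module.FaithfullyFlat A T := Module.FaithfullyFlat.of_flat_of_isLocalHom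
  have hmT : maximalIdeal T = (maximalIdeal A).map (algebraMap A T) := AdicCompletion.maximalIdeal_eq_map
  obtain ⟨N, hNp, hNC⟩ : ∃ N : Ideal (T ⊗[A] C), N.IsPrime ∧
      ∀ c : C, algebraMap C (T ⊗[A] C) c ∈ N ↔ c ∈ n := by
    obtain ⟨P, hP⟩ := PrimeSpectrum.comap_surjective_of_faithfullyFlat (A := C) (B := C ⊗[A] T) ⟨n, inferInstance⟩
    refine ⟨P.asIdeal.comap (Algebra.TensorProduct.comm A T C).toAlgHom, inferInstance, fun c => ?_⟩
    rw [Ideal.mem_comap, ← Ideal.mem_comap (f := algebraMap C (C ⊗[A] T)) (x := c) (K := P.asIdeal) |>.symm.trans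
      (iff_of_eq (congrArg (c ∈ ·) (congrArg PrimeSpectrum.asIdeal hP)))]
    rw [show (Algebra.TensorProduct.comm A T C).toAlgHom (algebraMap C (T ⊗[A] C) c) = algebraMap C (C ⊗[A] T) c
      from by simp [RingHom.algebraMap_toAlgebra]]
  have hNT : N.comap (algebraMap T (T ⊗[A] C)) = maximalIdeal T := by
    refine ((maximalIdeal.isMaximal T).eq_of_le (Ideal.IsPrime.ne_top inferInstance) ?_).symm
    rw [hmT, Ideal.map_le_iff_le_comap]
    intro x hx
    show algebraMap T (T ⊗[A] C) (algebraMap A T x) ∈ N
    rw [← IsScalarTower.algebraMap_apply, IsScalarTower.algebraMap_apply A C (T ⊗[A] C)]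
    exact (hNC _).2 (show x ∈ n.comap (algebraMap A C) by rw [hn]; exact hx)
  haveI : N.IsMaximal := Ideal.isMaximal_of_isIntegral_of_isMaximal_comap (R := T) N (hNT ▸ maximalIdeal.isMaximal T)
  obtain ⟨g₀, hloc, hAway, hmD'⟩ := exists_factor (T := T) N
  set D := (T ⊗[A] C) ⧸ Ideal.span {1 - g₀}
  have hmD : (maximalIdeal D).comap (algebraMap (T ⊗[A] C) D) = N := hmD'
  have hN := isEtaleAt_completion_point (D := D) g₀ (AdicBasics.ringKrullDim_completion A) hmT n hn hd1 hone N hmD hNC
  haveI := unramifiedAt_of_baseChange n N hNC hN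
  haveI : n.LiesOver (maximalIdeal A) := ⟨hn.symm⟩
  set Am := Localization.AtPrime (maximalIdeal A)
  letI : Algebra Am S := Localization.AtPrime.algebraOfLiesOver (maximalIdeal A) n
  haveI : Module.Flat Am S := (Module.flat_iff_of_isLocalization Am (maximalIdeal A).primeCompl S).2 inferInstance
  haveI : Algebra.EssFiniteType Am S := Algebra.EssFiniteType.of_comp A Am S
  haveI : Algebra.FormallyUnramified Am S := Algebra.FormallyUnramified.of_restrictScalars A Am S
  haveI : IsLocalHom (algebraMap Am S) := by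
    rw [RingHom.algebraMap_toAlgebra]
    exact Localization.isLocalHom_localRingHom (maximalIdeal A) n (algebraMap A C) Ideal.LiesOver.over
  exact FieldPow.isEtaleAt_of_flat_unramified (R' := Am) (S' := S) (maximalIdeal A) n

/-- Purity at a quasi-finite flat point of a finite type algebra. -/
theorem unramified_of_flat_quasiFiniteAt {R B : Type u} [CommRing R] [CommRing B] [Algebra R B]
    [Algebra.FiniteType R B] (p : Ideal R) [p.IsPrime] (n : Ideal B) [n.IsPrime] [n.LiesOver p]
    [Algebra.QuasiFiniteAt R n] [IsNoetherianRing R] [Module.Flat R (Localization.AtPrime n)]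
    (hd1 : (1 : WithBot ℕ∞) ≤ ringKrullDim (Localization.AtPrime n))
    (hunr : ∀ P : Ideal B, (hP : P.IsPrime) → P ≤ n → ringKrullDim (Localization.AtPrime P) = 1 →
      Algebra.FormallyUnramified R (Localization.AtPrime P)) :
    Algebra.FormallyUnramified R (Localization.AtPrime n) := by
  classical
  obtain ⟨S', hfg, r, hr, hbij⟩ :=
    Algebra.QuasiFiniteAt.exists_fg_and_exists_notMem_and_awayMap_bijective (R := R) n
  haveI : Module.Finite R S' := ⟨(Submodule.fg_top _).mpr hfg⟩
  set A := Localization.AtPrime p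
  set S := Localization.AtPrime n
  letI : Algebra A S := Localization.AtPrime.algebraOfLiesOver p n
  haveI : IsNoetherianRing A := IsLocalization.isNoetherianRing p.primeCompl A inferInstance
  let ψ : S' →ₐ[R] S := (IsScalarTower.toAlgHom R B S).comp S'.val
  let Ψ : A ⊗[R] S' →ₐ[A] S := Algebra.TensorProduct.lift (Algebra.ofId A S) ψ fun x y => mul_comm _ _
  set C := Ψ.range
  haveI : Module.Finite A C := Module.Finite.of_surjective Ψ.rangeRestrict.toLinearMap Ψ.rangeRestrict_surjective
  haveI : IsNoetherianRing C := IsNoetherianRing.of_finite A C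
  haveI : Algebra.IsIntegral A C := Algebra.IsIntegral.of_finite A C
  set q₁ : Ideal C := (maximalIdeal S).comap (algebraMap C S)
  have hS' : ∀ y : S', algebraMap B S y ∈ C := fun y =>
    ⟨1 ⊗ₜ[R] y, (Algebra.TensorProduct.lift_tmul _ _ _ _ _).trans (by simp [ψ])⟩
  haveI hloc : IsLocalization.AtPrime S q₁ := by
    constructor
    constructor
    · intro y
      by_contra hy
      exact y.2 ((IsLocalRing.mem_maximalIdeal _).2 hy)
    · intro z
      obtain ⟨⟨b, t⟩, hbt⟩ := IsLocalization.surj n.primeCompl z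
      obtain ⟨k₁, hk₁⟩ := exists_pow_mul_mem S' r hbij b
      obtain ⟨k₂, hk₂⟩ := exists_pow_mul_mem S' r hbij t.1
      have hb : (r : B) ^ (k₁ + k₂) * b ∈ S' := by
        rw [pow_add, mul_comm ((r : B) ^ k₁), mul_assoc]; exact mul_mem (pow_mem r.2 _) hk₁
      have ht : (r : B) ^ (k₁ + k₂) * t.1 ∈ S' := by
        rw [pow_add, mul_assoc]; exact mul_mem (pow_mem r.2 _) hk₂
      refine ⟨⟨⟨_, hS' ⟨_, hb⟩⟩, ⟨⟨_, hS' ⟨_, ht⟩⟩, fun hmem => ?_⟩⟩, ?_⟩
      · have := (IsLocalization.AtPrime.to_map_mem_maximal_iff S n _).1 hmem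
        exact (n.primeCompl.mul_mem (n.primeCompl.pow_mem hr _) t.2) this
      · show z * algebraMap B S ((r : B) ^ (k₁ + k₂) * t.1) = algebraMap B S ((r : B) ^ (k₁ + k₂) * b)
        rw [map_mul, map_mul, ← hbt, mul_left_comm]
    · intro x y hxy
      exact ⟨1, by rw [Subtype.ext hxy]⟩
  let e := IsLocalization.algEquiv q₁.primeCompl S (Localization.AtPrime q₁)
  haveI : IsLocalHom (algebraMap A S) := by
    rw [RingHom.algebraMap_toAlgebra]
    exact Localization.isLocalHom_localRingHom p n (algebraMap R B) Ideal.LiesOver.over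
  have hn : q₁.comap (algebraMap A C) = maximalIdeal A := by
    rw [Ideal.comap_comap, ← IsScalarTower.algebraMap_eq]
    exact IsLocalRing.maximalIdeal_comap (algebraMap A S)
  haveI : Module.Flat A S := (Module.flat_iff_of_isLocalization A p.primeCompl S).2 inferInstance
  haveI : Module.Flat A (Localization.AtPrime q₁) := Module.Flat.of_linearEquiv (e.restrictScalars A).symm.toLinearEquiv
  have hetale := isEtaleAt_of_flat q₁ hn (by rw [← ringKrullDim_eq_of_ringEquiv e.toRingEquiv]; exact hd1)
    fun q hq hqle hq1 => by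
    haveI := hq
    have hdisj : Disjoint (q₁.primeCompl : Set C) (q : Set C) :=
      Set.disjoint_left.2 fun x hx hx1 => hx (hqle hx1)
    set Q : Ideal S := q.map (algebraMap C S)
    haveI : Q.IsPrime := IsLocalization.isPrime_of_isPrime_disjoint q₁.primeCompl S q hq hdisj
    have hQq : Q.comap (algebraMap C S) = q :=
      IsLocalization.under_map_of_isPrime_disjoint q₁.primeCompl S ‹_› hdisj
    set P := Q.comap (algebraMap B S)
    have hPn : P ≤ n := fun b hb => (IsLocalization.AtPrime.to_map_mem_maximal_iff S n b).1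
      ((IsLocalRing.le_maximalIdeal (J := Q) (Ideal.IsPrime.ne_top inferInstance)) hb)
    let L := Localization.AtPrime Q
    haveI hLB : IsLocalization.AtPrime L P :=
      IsLocalization.isLocalization_isLocalization_atPrime_isLocalization n.primeCompl L Q
    haveI hLC : IsLocalization.AtPrime L (Q.comap (algebraMap C S)) :=
      IsLocalization.isLocalization_isLocalization_atPrime_isLocalization q₁.primeCompl L Q
    haveI : IsLocalization.AtPrime L q := by
      have : (Q.comap (algebraMap C S)).primeCompl = q.primeCompl := Submonoid.ext fun x => by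
        show x ∉ Q.comap (algebraMap C S) ↔ x ∉ q
        rw [hQq]
      show IsLocalization q.primeCompl L
      rw [← this]; exact hLC
    have hP1 : ringKrullDim (Localization.AtPrime P) = 1 := by
      rw [IsLocalization.AtPrime.ringKrullDim_eq_height P, show P.height = 1 from
        (IsLocalization.height_under n.primeCompl Q).trans
          (((IsLocalization.height_under q₁.primeCompl Q).symm.trans (congrArg Ideal.height hQq)).trans hq1)]
      rfl
    haveI := hunr P inferInstance hPn hP1
    haveI : Algebra.FormallyUnramified R L :=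
      .of_equiv ((IsLocalization.algEquiv P.primeCompl (Localization.AtPrime P) L).restrictScalars R)
    haveI : Algebra.FormallyUnramified A L := .of_restrictScalars R A L
    exact .of_equiv ((IsLocalization.algEquiv q.primeCompl L (Localization.AtPrime q)).restrictScalars A)
  haveI : Algebra.FinitePresentation A C := Algebra.FinitePresentation.of_finiteType.1 inferInstance
  obtain ⟨-, hu⟩ := flat_unramified_of_isEtaleAt q₁ hetale S
  haveI : Algebra.FormallyUnramified R A := Algebra.FormallyUnramified.of_isLocalization p.primeCompl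
  exact Algebra.FormallyUnramified.comp R A S

end Groth.Agent.Purity
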