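import Groth.Agent.Purity.Two

/-!
# Extending a finite algebra across the complement of a regular pair
-/

set_option autoImplicit false

universe u v

open scoped TensorProduct

namespace Groth.Agent.Purity

variable {R : Type u} [CommRing R] (a b : R) (M : Type v) [CommRing M] [Algebra R M]

/-- The algebra of sections of `M` over `D(a) ∪ D(b)`. -/
def hull : Subalgebra R (Localization.Away (algebraMap R M a)) where
  carrier := {s | ∃ (l : ℕ) (m : M), algebraMap R _ b ^ l * s = algebraMap M _ m}
  mul_mem' := by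
    rintro x y ⟨l, m, hm⟩ ⟨l', m', hm'⟩
    exact ⟨l + l', m * m', by rw [map_mul, ← hm, ← hm']; ring⟩
  add_mem' := by
    rintro x y ⟨l, m, hm⟩ ⟨l', m', hm'⟩
    refine ⟨l + l', algebraMap R M b ^ l' * m + algebraMap R M b ^ l * m', ?_⟩
    rw [map_add, map_mul, map_mul, map_pow, map_pow, ← hm, ← hm', ← IsScalarTower.algebraMap_apply]
    ring
  algebraMap_mem' r := ⟨0, algebraMap R M r, by rw [pow_zero, one_mul, ← IsScalarTower.algebraMap_apply]⟩

/-- The map to the hull. -/
def toHull : M →ₐ[R] hull a b M :=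
  (IsScalarTower.toAlgHom R M (Localization.Away (algebraMap R M a))).codRestrict (hull a b M)
    fun m => ⟨0, m, by rw [pow_zero, one_mul]; rfl⟩

theorem toHull_coe (m : M) :
    (toHull a b M m : Localization.Away (algebraMap R M a)) = algebraMap M _ m := rfl

theorem two_hull : TwoWith a b (hull a b M) where
  inj s hs := by
    have h1 : algebraMap M (Localization.Away (algebraMap R M a)) (algebraMap R M a) * s = 0 := by
      have := congrArg Subtype.val hs
      rw [Subalgebra.coe_smul, ← algebraMap_smul (Localization.Away (algebraMap R M a)), smul_eq_mul] at this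
      rw [← IsScalarTower.algebraMap_apply]
      exact this
    exact Subtype.ext ((IsLocalization.Away.algebraMap_isUnit (algebraMap R M a)).mul_right_eq_zero.1 h1)
  cancel := by
    intro s t hst
    set L := Localization.Away (algebraMap R M a)
    have hu : IsUnit (algebraMap R L a) := by
      rw [IsScalarTower.algebraMap_apply R M L]
      exact IsLocalization.Away.algebraMap_isUnit (algebraMap R M a)
    obtain ⟨u, hu'⟩ := hu
    have h1 := congrArg Subtype.val hst
    rw [Subalgebra.coe_smul, Subalgebra.coe_smul, ← algebraMap_smul L b, ← algebraMap_smul L a, smul_eq_mul,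
      smul_eq_mul, ← hu'] at h1
    obtain ⟨l, m, hm⟩ := t.2
    refine ⟨⟨(↑u⁻¹ : L) * s, l + 1, m, ?_⟩, Subtype.ext ?_⟩
    · rw [← hm, pow_succ,
        show algebraMap R L b ^ l * algebraMap R L b * ((↑u⁻¹ : L) * s) =
          algebraMap R L b ^ l * ((↑u⁻¹ : L) * (algebraMap R L b * s)) by ring,
        h1, ← mul_assoc (↑u⁻¹ : L), Units.inv_mul, one_mul]
    · rw [Subalgebra.coe_smul, ← algebraMap_smul L a, smul_eq_mul, ← hu', ← mul_assoc, Units.mul_inv, one_mul]

variable {a b M}

theorem map_smul_loc {L : Type*} [CommRing L] [Algebra R L] [Algebra M L] [IsScalarTower R M L] (r : R) (m : M) :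
    algebraMap M L (r • m) = r • algebraMap M L m :=
  (IsScalarTower.toAlgHom R M L).toLinearMap.map_smul r m

theorem eq_zero_of_pow_smul [IsDomain R] {f : R} (ha : a ≠ 0)
    [Module.Flat R (Localization.Away (algebraMap R M f))] {k : ℕ} {m : M} (hm : a ^ k • m = 0) :
    ∃ N : ℕ, f ^ N • m = 0 := by
  have hinj : Function.Injective (LinearMap.lsmul R R (a ^ k)) := fun x y hxy =>
    mul_left_cancel₀ (pow_ne_zero k ha) hxy
  have h2 := Module.Flat.lTensor_preserves_injective_linearMap (M := Localization.Away (algebraMap R M f)) _ hinj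
  have h3 : algebraMap M (Localization.Away (algebraMap R M f)) m = 0 := by
    apply (TensorProduct.rid R (Localization.Away (algebraMap R M f))).symm.injective
    apply h2
    rw [map_zero, map_zero, TensorProduct.rid_symm_apply, LinearMap.lTensor_tmul, LinearMap.lsmul_apply,
      smul_eq_mul, mul_one, ← mul_one (a ^ k), ← smul_eq_mul, TensorProduct.tmul_smul, TensorProduct.smul_tmul']
    have : a ^ k • algebraMap M (Localization.Away (algebraMap R M f)) m = 0 := by
      rw [← map_smul_loc, hm, map_zero]
    rw [this, TensorProduct.zero_tmul]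
  obtain ⟨⟨_, N, rfl⟩, hN⟩ := (IsLocalization.map_eq_zero_iff (Submonoid.powers (algebraMap R M f)) _ m).1 h3
  exact ⟨N, by rw [← algebraMap_smul M, map_pow, smul_eq_mul]; exact hN⟩

/-- `M → hull` becomes bijective over `D(f)` wherever `M` is flat. -/
theorem exists_pow_smul_of_toHull_eq_zero [IsDomain R] {f : R} (ha : a ≠ 0)
    [Module.Flat R (Localization.Away (algebraMap R M f))] {m : M} (hm : toHull a b M m = 0) :
    ∃ N : ℕ, f ^ N • m = 0 := by
  obtain ⟨⟨_, k, rfl⟩, hk⟩ :=
    (IsLocalization.map_eq_zero_iff (Submonoid.powers (algebraMap R M a)) _ m).1 (congrArg Subtype.val hm)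
  refine eq_zero_of_pow_smul (f := f) ha (k := k) ?_
  rw [← algebraMap_smul M, map_pow, smul_eq_mul]
  exact hk

theorem exists_pow_smul_mem_range [IsDomain R] {f : R} (ha : a ≠ 0) (h : TwoWith a b R)
    [Module.Flat R (Localization.Away (algebraMap R M f))] (s : hull a b M) :
    ∃ N : ℕ, f ^ N • s ∈ (toHull a b M).range := by
  set L := Localization.Away (algebraMap R M a)
  set F := Localization.Away (algebraMap R M f)
  obtain ⟨l, m₂, hm₂⟩ := s.2
  obtain ⟨⟨m₁, ⟨_, k, rfl⟩⟩, hk⟩ := IsLocalization.surj (Submonoid.powers (algebraMap R M a)) (s : L)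
  simp only [map_pow, ← IsScalarTower.algebraMap_apply] at hk
  have h0 : algebraMap M L (b ^ l • m₁ - a ^ k • m₂) = 0 := by
    rw [map_sub, ← algebraMap_smul M, ← algebraMap_smul M (a ^ k), smul_eq_mul, smul_eq_mul, map_mul, map_mul,
      ← IsScalarTower.algebraMap_apply, ← IsScalarTower.algebraMap_apply, map_pow, map_pow, ← hk, ← hm₂]
    ring
  obtain ⟨N₁, hN₁⟩ := exists_pow_smul_of_toHull_eq_zero (f := f) ha
    (show toHull a b M (b ^ l • m₁ - a ^ k • m₂) = 0 from Subtype.ext h0)
  have hFu : IsUnit (algebraMap R F f) := by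
    rw [IsScalarTower.algebraMap_apply R M F]
    exact IsLocalization.Away.algebraMap_isUnit (algebraMap R M f)
  have hF : TwoWith a b F := (TwoWith.of_equiv (TensorProduct.rid R F) ((h.tensor (S := F)) |> fun h' =>
    { inj := fun m hm => h'.inj m (by rw [algebraMap_smul]; exact hm)
      cancel := fun m n hmn => by
        obtain ⟨z, hz⟩ := h'.cancel m n (by rw [algebraMap_smul, algebraMap_smul]; exact hmn)
        exact ⟨z, by rw [hz, algebraMap_smul]⟩ }))
  have h1 : b ^ l • algebraMap M F m₁ = a ^ k • algebraMap M F m₂ := by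
    rw [← map_smul_loc, ← map_smul_loc, ← sub_eq_zero, ← map_sub]
    refine ((hFu.pow N₁).mul_right_eq_zero).1 ?_
    rw [← map_pow, IsScalarTower.algebraMap_apply R M F, ← map_mul, ← smul_eq_mul, algebraMap_smul, hN₁, map_zero]
  obtain ⟨z, hz⟩ := hF.cancel_pow k l _ _ h1
  obtain ⟨⟨m, ⟨_, N₂, rfl⟩⟩, hzm⟩ := IsLocalization.surj (Submonoid.powers (algebraMap R M f)) z
  simp only [map_pow, ← IsScalarTower.algebraMap_apply] at hzm
  have h2 : algebraMap M F (f ^ N₂ • m₁ - a ^ k • m) = 0 := by
    rw [map_sub, map_smul_loc, map_smul_loc, hz, ← hzm, sub_eq_zero, smul_comm]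
    rw [← algebraMap_smul F (f ^ N₂), smul_eq_mul, map_pow, mul_comm]
  obtain ⟨⟨_, N₃, rfl⟩, hN₃⟩ := (IsLocalization.map_eq_zero_iff (Submonoid.powers (algebraMap R M f)) _ _).1 h2
  refine ⟨N₃ + N₂, f ^ N₃ • m, Subtype.ext ?_⟩
  have hau : IsUnit (algebraMap R L a ^ k) := by
    rw [IsScalarTower.algebraMap_apply R M L]
    exact (IsLocalization.Away.algebraMap_isUnit (algebraMap R M a)).pow k
  refine hau.mul_left_cancel ?_
  have h3 := congrArg (algebraMap M L) hN₃
  rw [map_zero, map_mul, map_sub, ← algebraMap_smul M, ← algebraMap_smul M (a ^ k), smul_eq_mul, smul_eq_mul,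
    map_mul, map_mul, map_pow, ← IsScalarTower.algebraMap_apply, ← IsScalarTower.algebraMap_apply,
    ← IsScalarTower.algebraMap_apply, map_pow, map_pow, mul_sub, sub_eq_zero] at h3
  show algebraMap R L a ^ k * algebraMap M L (f ^ N₃ • m) = algebraMap R L a ^ k * ((f ^ (N₃ + N₂) • s : hull a b M) : L)
  rw [← algebraMap_smul M, smul_eq_mul, map_mul, Subalgebra.coe_smul, ← algebraMap_smul L, smul_eq_mul,
    ← IsScalarTower.algebraMap_apply, map_pow, map_pow, pow_add, mul_left_comm, ← h3, ← hk]
  ring

variable (a b M) in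
/-- The hull is finite. -/
theorem finite_hull [IsDomain R] [IsNoetherianRing R] [Module.Finite R M] (ha : a ≠ 0) (h : TwoWith a b R)
    [Module.Flat R (Localization.Away (algebraMap R M a))] : Module.Finite R (hull a b M) := by
  classical
  set L := Localization.Away (algebraMap R M a)
  let K := FractionRing R
  let f : M →ₗ[R] LocalizedModule (nonZeroDivisors R) M := LocalizedModule.mkLinearMap _ M
  haveI : Module.Finite K (LocalizedModule (nonZeroDivisors R) M) :=
    Module.Finite.of_isLocalizedModule (nonZeroDivisors R) f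
  let β := Module.finBasis K (LocalizedModule (nonZeroDivisors R) M)
  obtain ⟨G, hG⟩ := Module.Finite.fg_top (R := R) (M := M)
  obtain ⟨c, hc⟩ := IsLocalization.exist_integer_multiples (nonZeroDivisors R) (G ×ˢ Finset.univ)
    (fun q : M × Fin (Module.finrank K (LocalizedModule (nonZeroDivisors R) M)) => β.repr (f q.1) q.2)
  have hall : ∀ (m : M) i, ∃ r : R, algebraMap R K r = (c : R) • β.repr (f m) i := by
    intro m i
    have hm : m ∈ Submodule.span R (G : Set M) := hG ▸ Submodule.mem_top
    induction hm using Submodule.span_induction with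
    | mem x hx => exact hc (x, i) (Finset.mem_product.2 ⟨hx, Finset.mem_univ i⟩)
    | zero => exact ⟨0, by simp⟩
    | add x y _ _ hx hy =>
      obtain ⟨r, hr⟩ := hx
      obtain ⟨r', hr'⟩ := hy
      exact ⟨r + r', by rw [map_add, hr, hr', map_add, map_add, Finsupp.add_apply, smul_add]⟩
    | smul t x _ hx =>
      obtain ⟨r, hr⟩ := hx
      refine ⟨t * r, ?_⟩
      rw [map_mul, hr, map_smul, ← algebraMap_smul K t, map_smul, Finsupp.smul_apply, smul_eq_mul, mul_smul_comm]
  choose φ hφ using hall
  have hK := IsFractionRing.injective R K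
  let Φ : M →ₗ[R] (Fin (Module.finrank K (LocalizedModule (nonZeroDivisors R) M)) → R) :=
    { toFun := φ
      map_add' := fun x y => funext fun i => hK (by
        rw [Pi.add_apply, map_add, hφ, hφ, hφ, map_add, map_add, Finsupp.add_apply, smul_add])
      map_smul' := fun t x => funext fun i => hK (by
        rw [RingHom.id_apply, Pi.smul_apply, smul_eq_mul, map_mul, hφ, hφ, map_smul, ← algebraMap_smul K t,
          map_smul, Finsupp.smul_apply, smul_eq_mul, mul_smul_comm]) }
  have hker : ∀ m, algebraMap M L m = 0 → Φ m = 0 := by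
    intro m hm
    obtain ⟨⟨_, k, rfl⟩, hk⟩ := (IsLocalization.map_eq_zero_iff (Submonoid.powers (algebraMap R M a)) _ m).1 hm
    simp only [← map_pow, ← smul_eq_mul, algebraMap_smul] at hk
    have := congrArg Φ hk
    rw [map_smul, map_zero] at this
    exact (smul_eq_zero_iff_right (pow_ne_zero k ha)).1 this
  have hker' : ∀ m, Φ m = 0 → algebraMap M L m = 0 := by
    intro m hm
    have h0 : f m = 0 := β.ext_elem fun i => by
      rw [map_zero, Finsupp.zero_apply]
      have := hφ m i
      rw [show φ m i = 0 from congrFun hm i, map_zero, eq_comm, ← algebraMap_smul K (c : R),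
        smul_eq_mul] at this
      exact (mul_eq_zero.1 this).resolve_left
        (fun h0 => nonZeroDivisors.ne_zero c.2 (hK (h0.trans (map_zero _).symm)))
    obtain ⟨r, hr⟩ := (IsLocalizedModule.eq_zero_iff (nonZeroDivisors R) f).1 h0
    have hinj : Function.Injective (LinearMap.lsmul R R (r : R)) := fun x y hxy =>
      mul_left_cancel₀ (nonZeroDivisors.ne_zero r.2) hxy
    apply (TensorProduct.rid R L).symm.injective
    apply Module.Flat.lTensor_preserves_injective_linearMap (M := L) _ hinj
    rw [map_zero, map_zero, TensorProduct.rid_symm_apply, LinearMap.lTensor_tmul, LinearMap.lsmul_apply,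
      smul_eq_mul, mul_one, ← mul_one (r : R), ← smul_eq_mul, TensorProduct.tmul_smul, TensorProduct.smul_tmul',
      ← map_smul_loc, ← Submonoid.smul_def, hr, map_zero, TensorProduct.zero_tmul]
  have hy : ∀ s : hull a b M, ∃! y, ∀ (k : ℕ) (m : M), algebraMap R L a ^ k * s = algebraMap M L m →
      a ^ k • y = Φ m := by
    intro s
    obtain ⟨l, m₂, hm₂⟩ := s.2
    obtain ⟨⟨m₁, ⟨_, k, rfl⟩⟩, hk⟩ := IsLocalization.surj (Submonoid.powers (algebraMap R M a)) (s : L)
    simp only [map_pow, ← IsScalarTower.algebraMap_apply] at hk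
    rw [mul_comm] at hk
    have hT : TwoWith a b (Fin (Module.finrank K (LocalizedModule (nonZeroDivisors R) M)) → R) :=
      TwoWith.pi fun _ => h
    have e1 : b ^ l • Φ m₁ = a ^ k • Φ m₂ := by
      rw [← map_smul, ← map_smul, ← sub_eq_zero, ← map_sub]
      refine hker _ ?_
      rw [map_sub, map_smul_loc, map_smul_loc, ← hk, ← hm₂, ← algebraMap_smul L,
        ← algebraMap_smul L (a ^ k), smul_eq_mul, smul_eq_mul, map_pow, map_pow]
      ring
    obtain ⟨y, hy⟩ := hT.cancel_pow k l _ _ e1
    refine ⟨y, fun k' m' hm' => ?_, fun y' hy' => hT.inj_pow_eq k (by rw [hy' k m₁ hk, hy])⟩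
    refine hT.inj_pow_eq k ?_
    rw [smul_comm, ← hy, ← map_smul, ← map_smul, ← sub_eq_zero, ← map_sub]
    refine hker _ ?_
    rw [map_sub, map_smul_loc, map_smul_loc, ← hk, ← hm', ← algebraMap_smul L,
      ← algebraMap_smul L (a ^ k), smul_eq_mul, smul_eq_mul, map_pow, map_pow]
    ring
  choose ψ hψ hψu using hy
  have hrep : ∀ s : hull a b M, ∃ (k : ℕ) (m : M), algebraMap R L a ^ k * s = algebraMap M L m := fun s => by
    obtain ⟨⟨m₁, ⟨_, k, rfl⟩⟩, hk⟩ := IsLocalization.surj (Submonoid.powers (algebraMap R M a)) (s : L)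
    simp only [map_pow, ← IsScalarTower.algebraMap_apply] at hk
    exact ⟨k, m₁, by rw [mul_comm]; exact hk⟩
  have hT : TwoWith a b (Fin (Module.finrank K (LocalizedModule (nonZeroDivisors R) M)) → R) :=
    TwoWith.pi fun _ => h
  let Ψ : hull a b M →ₗ[R] (Fin (Module.finrank K (LocalizedModule (nonZeroDivisors R) M)) → R) :=
    { toFun := ψ
      map_add' := fun s t => by
        obtain ⟨k, m, hm⟩ := hrep s
        obtain ⟨k', m', hm'⟩ := hrep t
        refine hT.inj_pow_eq (k + k') ?_
        rw [hψ (s + t) (k + k') (a ^ k' • m + a ^ k • m') (by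
          rw [map_add, map_smul_loc, map_smul_loc, ← hm, ← hm', ← algebraMap_smul L,
            ← algebraMap_smul L (a ^ k), smul_eq_mul, smul_eq_mul, map_pow, map_pow, Subalgebra.coe_add]
          ring), map_add, map_smul, map_smul, ← hψ s k m hm, ← hψ t k' m' hm', smul_add, pow_add, mul_smul,
          mul_smul, smul_comm (a ^ k')]
      map_smul' := fun r s => by
        obtain ⟨k, m, hm⟩ := hrep s
        refine hT.inj_pow_eq k ?_
        rw [RingHom.id_apply, hψ (r • s) k (r • m) (by
          rw [map_smul_loc, ← hm, Subalgebra.coe_smul, ← algebraMap_smul L r, ← algebraMap_smul L r,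
            smul_eq_mul, smul_eq_mul]
          ring), map_smul, ← hψ s k m hm, smul_comm] }
  have hinj : Function.Injective Ψ := by
    rw [injective_iff_map_eq_zero]
    intro s hs
    obtain ⟨k, m, hm⟩ := hrep s
    have h1 := hψ s k m hm
    rw [show ψ s = 0 from hs, smul_zero] at h1
    refine Subtype.ext ?_
    have hau : IsUnit (algebraMap R L a ^ k) := by
      rw [IsScalarTower.algebraMap_apply R M L]
      exact (IsLocalization.Away.algebraMap_isUnit (algebraMap R M a)).pow k
    exact hau.mul_right_eq_zero.1 (hm.trans (hker' m h1.symm))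
  exact Module.Finite.of_injective Ψ hinj

end Groth.Agent.Purity
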