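import Groth.Agent.Purity.Two

/-!
# Lifting algebra maps from an algebra which is étale over `D(a)` and `D(b)`
-/

set_option autoImplicit false

universe u v w

namespace Groth.Agent.Purity

variable {R : Type u} [CommRing R]

/-- Localisation away from `a` as a localized module. -/
theorem isLocalizedModule_away {D : Type v} [CommRing D] [Algebra R D] (a : R) (Da : Type w) [CommRing Da]
    [Algebra R Da] [Algebra D Da] [IsScalarTower R D Da] [IsLocalization.Away (algebraMap R D a) Da] :
    IsLocalizedModule (Submonoid.powers a) (IsScalarTower.toAlgHom R D Da).toLinearMap :=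
  isLocalizedModule_iff_isLocalization.mpr inferInstance

theorem isNilpotent_map {A B : Type*} [CommRing A] [CommRing B] (f : A →+* B) {J : Ideal A} (hJ : IsNilpotent J) :
    IsNilpotent (J.map f) := by
  obtain ⟨n, hn⟩ := hJ
  exact ⟨n, by rw [← Ideal.map_pow, hn]; exact Ideal.map_bot⟩

variable {B : Type v} [CommRing B] [Algebra R B] {D : Type w} [CommRing D] [Algebra R D] {a b : R}

/-- Two lifts which agree modulo a nilpotent ideal are equal. -/
theorem algHom_ext_of_two (h : TwoWith a b D)
    [Algebra.FormallyUnramified R (Localization.Away (algebraMap R B a))] (J : Ideal D) (hJ : IsNilpotent J)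
    (g g' : B →ₐ[R] D) (hgg : ∀ y, g y - g' y ∈ J) : g = g' := by
  set Ba := Localization.Away (algebraMap R B a)
  set Da := Localization.Away (algebraMap R D a)
  haveI := isLocalizedModule_away (D := D) a Da
  have hu : ∀ f : B →ₐ[R] D, IsUnit (((IsScalarTower.toAlgHom R D Da).comp f) (algebraMap R B a)) := fun f => by
    rw [AlgHom.comp_apply, AlgHom.commutes]
    exact IsLocalization.Away.algebraMap_isUnit (algebraMap R D a)
  let la : ∀ f : B →ₐ[R] D, Ba →ₐ[R] Da := fun f => IsLocalization.Away.liftAlgHom (S := Ba) (algebraMap R B a) (hu f)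
  have hla : ∀ (f : B →ₐ[R] D) y, la f (algebraMap B Ba y) = algebraMap D Da (f y) := fun f y =>
    IsLocalization.Away.lift_eq (algebraMap R B a) (hu f) y
  have key : la g = la g' := by
    refine Algebra.FormallyUnramified.ext _ (isNilpotent_map (algebraMap D Da) hJ) fun x => ?_
    obtain ⟨⟨y, ⟨_, k, rfl⟩⟩, hy⟩ := IsLocalization.surj (Submonoid.powers (algebraMap R B a)) x
    have hunit : ∀ f : B →ₐ[R] D,
        Ideal.Quotient.mk (J.map (algebraMap D Da)) (la f x) *
          Ideal.Quotient.mk (J.map (algebraMap D Da)) (algebraMap R Da a ^ k) =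
        Ideal.Quotient.mk (J.map (algebraMap D Da)) (algebraMap D Da (f y)) := fun f => by
      rw [← map_mul, ← hla, ← hy]
      simp only [map_mul, map_pow, ← IsScalarTower.algebraMap_apply, AlgHom.commutes]
    have hk : IsUnit (Ideal.Quotient.mk (J.map (algebraMap D Da)) (algebraMap R Da a ^ k)) := by
      refine IsUnit.map _ (IsUnit.pow k ?_)
      rw [IsScalarTower.algebraMap_apply R D Da]
      exact IsLocalization.Away.algebraMap_isUnit (algebraMap R D a)
    refine hk.mul_right_cancel ?_
    rw [hunit, hunit, Ideal.Quotient.eq, ← map_sub]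
    exact Ideal.mem_map_of_mem _ (hgg y)
  refine AlgHom.ext fun y => h.eq_of_loc (IsScalarTower.toAlgHom R D Da).toLinearMap ?_
  show algebraMap D Da (g y) = algebraMap D Da (g' y)
  rw [← hla, ← hla, key]

/-- Lifting along a nilpotent ideal. -/
theorem exists_lift (h : TwoWith a b D)
    [Algebra.Etale R (Localization.Away (algebraMap R B a))]
    [Algebra.Etale R (Localization.Away (algebraMap R B b))]
    (J : Ideal D) (hJ : IsNilpotent J) (hJa : ∀ x : D, a • x ∈ J → x ∈ J) (g₁ : B →ₐ[R] D ⧸ J) :
    ∃ g : B →ₐ[R] D, ∀ y, Ideal.Quotient.mk J (g y) = g₁ y := by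
  classical
  set Ba := Localization.Away (algebraMap R B a)
  set Bb := Localization.Away (algebraMap R B b)
  set Da := Localization.Away (algebraMap R D a)
  set Db := Localization.Away (algebraMap R D b)
  set Dab := Localization.Away (algebraMap R D (a * b))
  haveI := isLocalizedModule_away (D := D) a Da
  haveI := isLocalizedModule_away (D := D) b Db
  haveI := isLocalizedModule_away (D := D) (a * b) Dab
  -- the lift over one open
  have step : ∀ (c : R) (Bc : Type v) [CommRing Bc] [Algebra R Bc] [Algebra B Bc] [IsScalarTower R B Bc]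
      [IsLocalization.Away (algebraMap R B c) Bc] [Algebra.Etale R Bc] (Dc : Type w) [CommRing Dc] [Algebra R Dc]
      [Algebra D Dc] [IsScalarTower R D Dc] [IsLocalization.Away (algebraMap R D c) Dc],
      ∃ φ : Bc →ₐ[R] Dc, ∀ (y : B) (d : D), Ideal.Quotient.mk J d = g₁ y →
        φ (algebraMap B Bc y) - algebraMap D Dc d ∈ J.map (algebraMap D Dc) := by
    intro c Bc _ _ _ _ _ _ Dc _ _ _ _ _
    let q : D ⧸ J →ₐ[R] Dc ⧸ J.map (algebraMap D Dc) :=
      Ideal.quotientMapₐ _ (IsScalarTower.toAlgHom R D Dc) Ideal.le_comap_map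
    have hu : IsUnit ((q.comp g₁) (algebraMap R B c)) := by
      rw [AlgHom.commutes, IsScalarTower.algebraMap_apply R Dc (Dc ⧸ J.map (algebraMap D Dc))]
      refine IsUnit.map _ ?_
      rw [IsScalarTower.algebraMap_apply R D Dc]
      exact IsLocalization.Away.algebraMap_isUnit (algebraMap R D c)
    let ψ : Bc →ₐ[R] Dc ⧸ J.map (algebraMap D Dc) :=
      IsLocalization.Away.liftAlgHom (S := Bc) (algebraMap R B c) hu
    refine ⟨Algebra.FormallySmooth.lift _ (isNilpotent_map _ hJ) ψ, fun y d hd => ?_⟩
    rw [← Ideal.Quotient.eq, Algebra.FormallySmooth.mk_lift]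
    show IsLocalization.Away.lift (algebraMap R B c) hu (algebraMap B Bc y) = _
    rw [IsLocalization.Away.lift_eq]
    show q (g₁ y) = _
    rw [← hd]
    rfl
  obtain ⟨φa, hφa⟩ := step a Ba Da
  obtain ⟨φb, hφb⟩ := step b Bb Db
  have hua : IsUnit ((IsScalarTower.toAlgHom R D Dab) (algebraMap R D a)) := by
    have := IsLocalization.Away.algebraMap_isUnit (S := Dab) (algebraMap R D (a * b))
    simp only [map_mul] at this
    exact isUnit_of_mul_isUnit_left this
  have hub : IsUnit ((IsScalarTower.toAlgHom R D Dab) (algebraMap R D b)) := by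
    have := IsLocalization.Away.algebraMap_isUnit (S := Dab) (algebraMap R D (a * b))
    simp only [map_mul] at this
    exact isUnit_of_mul_isUnit_right this
  let ra : Da →ₐ[R] Dab := IsLocalization.Away.liftAlgHom (S := Da) (algebraMap R D a) hua
  let rb : Db →ₐ[R] Dab := IsLocalization.Away.liftAlgHom (S := Db) (algebraMap R D b) hub
  have hra : ∀ d, ra (algebraMap D Da d) = algebraMap D Dab d := fun d => IsLocalization.Away.lift_eq (algebraMap R D a) hua d
  have hrb : ∀ d, rb (algebraMap D Db d) = algebraMap D Dab d := fun d => IsLocalization.Away.lift_eq (algebraMap R D b) hub d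
  let kb : B →ₐ[R] Dab := rb.comp (φb.comp (IsScalarTower.toAlgHom R B Bb))
  have hukb : IsUnit (kb (algebraMap R B a)) := by
    rw [AlgHom.commutes, IsScalarTower.algebraMap_apply R D Dab]
    exact hua
  let kb' : Ba →ₐ[R] Dab := IsLocalization.Away.liftAlgHom (S := Ba) (algebraMap R B a) hukb
  have hagree : ra.comp φa = kb' := by
    refine Algebra.FormallyUnramified.ext _ (isNilpotent_map (algebraMap D Dab) hJ) fun x => ?_
    obtain ⟨⟨y, ⟨_, k, rfl⟩⟩, hy⟩ := IsLocalization.surj (Submonoid.powers (algebraMap R B a)) x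
    have hunit : ∀ f : Ba →ₐ[R] Dab,
        Ideal.Quotient.mk (J.map (algebraMap D Dab)) (f x) *
          Ideal.Quotient.mk (J.map (algebraMap D Dab)) (algebraMap R Dab a ^ k) =
        Ideal.Quotient.mk (J.map (algebraMap D Dab)) (f (algebraMap B Ba y)) := fun f => by
      rw [← map_mul, ← hy]
      simp only [map_mul, map_pow, ← IsScalarTower.algebraMap_apply, AlgHom.commutes]
    have hk : IsUnit (Ideal.Quotient.mk (J.map (algebraMap D Dab)) (algebraMap R Dab a ^ k)) := by
      refine IsUnit.map _ (IsUnit.pow k ?_)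
      rw [IsScalarTower.algebraMap_apply R D Dab]
      exact hua
    refine hk.mul_right_cancel ?_
    rw [hunit, hunit]
    obtain ⟨d, hd⟩ := Ideal.Quotient.mk_surjective (g₁ y)
    have e1 : ra (φa (algebraMap B Ba y)) - algebraMap D Dab d ∈ J.map (algebraMap D Dab) := by
      rw [← hra, ← map_sub]
      have hle : (J.map (algebraMap D Da)).map ra.toRingHom ≤ J.map (algebraMap D Dab) := by
        rw [Ideal.map_map]
        exact le_of_eq (congrArg (fun f => Ideal.map f J) (RingHom.ext hra))
      exact hle (Ideal.mem_map_of_mem _ (hφa y d hd))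
    have e2 : kb' (algebraMap B Ba y) - algebraMap D Dab d ∈ J.map (algebraMap D Dab) := by
      rw [show kb' (algebraMap B Ba y) = kb y from IsLocalization.Away.lift_eq (algebraMap R B a) hukb y,
        show kb y = rb (φb (algebraMap B Bb y)) from rfl, ← hrb, ← map_sub]
      have hle : (J.map (algebraMap D Db)).map rb.toRingHom ≤ J.map (algebraMap D Dab) := by
        rw [Ideal.map_map]
        exact le_of_eq (congrArg (fun f => Ideal.map f J) (RingHom.ext hrb))
      exact hle (Ideal.mem_map_of_mem _ (hφb y d hd))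
    rw [Ideal.Quotient.eq, AlgHom.comp_apply]
    simpa using sub_mem e1 e2
  have hglue : ∀ y : B, ∃ d : D, algebraMap D Da d = φa (algebraMap B Ba y) ∧
      algebraMap D Db d = φb (algebraMap B Bb y) := fun y =>
    h.exists_glue (IsScalarTower.toAlgHom R D Da).toLinearMap (IsScalarTower.toAlgHom R D Db).toLinearMap
      (IsScalarTower.toAlgHom R D Dab).toLinearMap ra.toLinearMap rb.toLinearMap hra hrb _ _
      ((DFunLike.congr_fun hagree (algebraMap B Ba y)).trans (IsLocalization.Away.lift_eq (algebraMap R B a) hukb y))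
  choose g hga hgb using hglue
  have inj : ∀ {d d' : D}, algebraMap D Da d = algebraMap D Da d' → d = d' :=
    fun hdd => h.eq_of_loc (IsScalarTower.toAlgHom R D Da).toLinearMap hdd
  refine ⟨{ toFun := g
            map_one' := inj (by rw [hga, map_one, map_one, map_one])
            map_mul' := fun x y => inj (by rw [hga, map_mul, map_mul, map_mul, hga, hga])
            map_zero' := inj (by rw [hga, map_zero, map_zero, map_zero])
            map_add' := fun x y => inj (by rw [hga, map_add, map_add, map_add, hga, hga])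
            commutes' := fun r => inj (by
              show algebraMap D Da (g (algebraMap R B r)) = _
              rw [hga, ← IsScalarTower.algebraMap_apply, AlgHom.commutes, ← IsScalarTower.algebraMap_apply]) },
    fun y => ?_⟩
  obtain ⟨d, hd⟩ := Ideal.Quotient.mk_surjective (g₁ y)
  show Ideal.Quotient.mk J (g y) = g₁ y
  rw [← hd, Ideal.Quotient.eq]
  have hmem : algebraMap D Da (g y - d) ∈ J.map (algebraMap D Da) := by
    rw [map_sub, hga]; exact hφa y d hd
  obtain ⟨⟨⟨j, hj⟩, ⟨_, k, rfl⟩⟩, hjk⟩ :=
    (IsLocalization.mem_map_algebraMap_iff (Submonoid.powers (algebraMap R D a)) Da).1 hmem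
  rw [← map_mul] at hjk
  obtain ⟨⟨_, l, rfl⟩, hl⟩ := (IsLocalization.eq_iff_exists (Submonoid.powers (algebraMap R D a)) Da).1 hjk
  have key : ∀ n : ℕ, ∀ x : D, algebraMap R D a ^ n * x ∈ J → x ∈ J := by
    intro n
    induction n with
    | zero => intro x hx; simpa using hx
    | succ n ih =>
      intro x hx
      rw [pow_succ, mul_assoc, ← smul_eq_mul (algebraMap R D a), algebraMap_smul] at hx
      exact hJa _ (ih _ hx)
  refine key (l + k) _ ?_
  simp only at hl
  rw [show algebraMap R D a ^ (l + k) * (g y - d) = algebraMap R D a ^ l * ((g y - d) * algebraMap R D a ^ k) by ring,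
    hl]
  exact Ideal.mul_mem_left _ _ hj

end Groth.Agent.Purity
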