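import Groth.Agent.Purity.Punct
import Groth.Agent.Purity.LiftHom
import Groth.Agent.AdicLim.Noetherian

/-!
# Lifting to a finite algebra over a complete ring
-/

set_option autoImplicit false

universe u v

open IsLocalRing

namespace Groth.Agent.Purity

variable {R : Type u} [CommRing R] {B : Type v} [CommRing B] [Algebra R B]
  {B' : Type v} [CommRing B'] [Algebra R B']

/-- The ideal `x ^ k B'`. -/
abbrev powIdeal (B' : Type v) [CommRing B'] [Algebra R B'] (x : R) (k : ℕ) : Ideal B' :=
  Ideal.span {algebraMap R B' x ^ k}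

theorem powIdeal_anti {x : R} {k l : ℕ} (h : k ≤ l) : powIdeal B' x l ≤ powIdeal B' x k :=
  Ideal.span_singleton_le_span_singleton.2 (pow_dvd_pow _ h)

/-- The truncations of `B'` have depth two. -/
theorem two_powIdeal {a b x : R} (hx : ∀ z : B', algebraMap R B' x * z = 0 → z = 0)
    (h1 : ∀ z, algebraMap R B' a * z ∈ powIdeal B' x 1 → z ∈ powIdeal B' x 1)
    (h2 : ∀ w v, algebraMap R B' b * w - algebraMap R B' a * v ∈ powIdeal B' x 1 →
      ∃ z, w - algebraMap R B' a * z ∈ powIdeal B' x 1) :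
    ∀ k : ℕ, (∀ z, algebraMap R B' a * z ∈ powIdeal B' x k → z ∈ powIdeal B' x k) ∧
      ∀ w v, algebraMap R B' b * w - algebraMap R B' a * v ∈ powIdeal B' x k →
        ∃ z, w - algebraMap R B' a * z ∈ powIdeal B' x k := by
  simp only [Ideal.mem_span_singleton, pow_one] at h1 h2 ⊢
  set α := algebraMap R B' a
  set β := algebraMap R B' b
  set ξ := algebraMap R B' x
  have hxc : ∀ u v : B', ξ * u = ξ * v → u = v := fun u v h =>
    sub_eq_zero.1 (hx _ (by rw [mul_sub, h, sub_self]))
  intro k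
  induction k with
  | zero => exact ⟨fun z _ => by rw [pow_zero]; exact one_dvd _, fun w v _ => ⟨0, by rw [pow_zero]; exact one_dvd _⟩⟩
  | succ k ih =>
    constructor
    · intro z hz
      obtain ⟨z', rfl⟩ := h1 z ((dvd_pow_self ξ k.succ_ne_zero).trans hz)
      obtain ⟨e, he⟩ := hz
      obtain ⟨e', rfl⟩ := ih.1 z' ⟨e, hxc _ _ (by rw [← mul_assoc, mul_comm ξ α, mul_assoc, he, pow_succ']; ring)⟩
      exact ⟨e', by ring⟩
    · intro w v hwv
      obtain ⟨z, w', hw'⟩ := h2 w v ((dvd_pow_self ξ k.succ_ne_zero).trans hwv)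
      obtain ⟨e, he⟩ := hwv
      obtain ⟨v', hv'⟩ := h1 (v - β * z) ⟨β * w' - ξ ^ k * e, by linear_combination -he + β * hw'⟩
      obtain ⟨z', e', he'⟩ := ih.2 w' v' ⟨e, hxc _ _ (by linear_combination he - β * hw' + α * hv')⟩
      exact ⟨z + ξ * z', e', by linear_combination hw' + ξ * he'⟩

variable {a b x : R}

/-- The successive lifting. -/
theorem exists_compatible
    [Algebra.Etale R (Localization.Away (algebraMap R B a))]
    [Algebra.Etale R (Localization.Away (algebraMap R B b))]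
    (hx : ∀ z : B', algebraMap R B' x * z = 0 → z = 0)
    (h1 : ∀ z, algebraMap R B' a * z ∈ powIdeal B' x 1 → z ∈ powIdeal B' x 1)
    (h2 : ∀ w v, algebraMap R B' b * w - algebraMap R B' a * v ∈ powIdeal B' x 1 →
      ∃ z, w - algebraMap R B' a * z ∈ powIdeal B' x 1)
    (g₀ : B →ₐ[R] B' ⧸ powIdeal B' x 1) :
    ∃ g : ∀ n, B →ₐ[R] B' ⧸ powIdeal B' x (n + 1), g 0 = g₀ ∧
      ∀ n y z, Ideal.Quotient.mk _ z = g (n + 1) y → Ideal.Quotient.mk _ z = g n y := by
  classical
  have hT := two_powIdeal hx h1 h2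
  have step : ∀ n (g : B →ₐ[R] B' ⧸ powIdeal B' x (n + 1)),
      ∃ g' : B →ₐ[R] B' ⧸ powIdeal B' x (n + 2), ∀ y z, Ideal.Quotient.mk _ z = g' y → Ideal.Quotient.mk _ z = g y := by
    intro n g
    set J : Ideal (B' ⧸ powIdeal B' x (n + 2)) := (powIdeal B' x (n + 1)).map (Ideal.Quotient.mk _)
    have hmem : ∀ z, Ideal.Quotient.mk (powIdeal B' x (n + 2)) z ∈ J ↔ z ∈ powIdeal B' x (n + 1) := by
      intro z
      rw [← Ideal.mem_comap, Ideal.comap_map_of_surjective _ Ideal.Quotient.mk_surjective, ← RingHom.ker,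
        Ideal.mk_ker, sup_eq_left.2 (powIdeal_anti (Nat.le_succ _))]
    have hJ : IsNilpotent J := by
      refine ⟨2, ?_⟩
      rw [← Ideal.map_pow, Ideal.zero_eq_bot, ← le_bot_iff]
      refine (Ideal.map_mono ?_).trans (le_of_eq (Ideal.map_quotient_self _))
      rw [Ideal.span_singleton_pow, ← pow_mul]
      exact powIdeal_anti (by omega)
    have hD : TwoWith a b (B' ⧸ powIdeal B' x (n + 2)) := by
      constructor
      · intro m hm
        obtain ⟨z, rfl⟩ := Ideal.Quotient.mk_surjective m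
        rw [← algebraMap_smul B', Algebra.smul_def, Ideal.Quotient.algebraMap_eq, ← map_mul,
          Ideal.Quotient.eq_zero_iff_mem] at hm
        exact Ideal.Quotient.eq_zero_iff_mem.2 ((hT _).1 z hm)
      · intro m m' hm
        obtain ⟨w, rfl⟩ := Ideal.Quotient.mk_surjective m
        obtain ⟨v, rfl⟩ := Ideal.Quotient.mk_surjective m'
        rw [← algebraMap_smul B', ← algebraMap_smul B' a, Algebra.smul_def, Algebra.smul_def,
          Ideal.Quotient.algebraMap_eq, ← map_mul, ← map_mul, Ideal.Quotient.eq] at hm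
        obtain ⟨z, hz⟩ := (hT _).2 w v hm
        refine ⟨Ideal.Quotient.mk _ z, ?_⟩
        rw [← algebraMap_smul B' a, Algebra.smul_def, Ideal.Quotient.algebraMap_eq, ← map_mul, Ideal.Quotient.eq]
        exact hz
    have hJa : ∀ m, a • m ∈ J → m ∈ J := by
      intro m hm
      obtain ⟨z, rfl⟩ := Ideal.Quotient.mk_surjective m
      rw [← algebraMap_smul B', Algebra.smul_def, Ideal.Quotient.algebraMap_eq, ← map_mul, hmem] at hm
      exact (hmem z).2 ((hT _).1 z hm)
    let q : (B' ⧸ powIdeal B' x (n + 1)) →ₐ[R] (B' ⧸ powIdeal B' x (n + 2)) ⧸ J :=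
      Ideal.Quotient.liftₐ _ ((Ideal.Quotient.mkₐ R J).comp (Ideal.Quotient.mkₐ R _))
        fun z hz => Ideal.Quotient.eq_zero_iff_mem.2 ((hmem z).2 hz)
    obtain ⟨g', hg'⟩ := exists_lift hD J hJ hJa (q.comp g)
    refine ⟨g', fun y z hz => ?_⟩
    obtain ⟨z₁, hz₁⟩ := Ideal.Quotient.mk_surjective (g y)
    have h := hg' y
    rw [← hz, AlgHom.comp_apply, ← hz₁] at h
    rw [← hz₁, Ideal.Quotient.eq, ← hmem, map_sub]
    exact Ideal.Quotient.eq.1 h
  choose st hst using step
  let g : ∀ n, B →ₐ[R] B' ⧸ powIdeal B' x (n + 1) := fun n => Nat.rec g₀ (fun n gn => st n gn) n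
  exact ⟨g, rfl, fun n => hst n (g n)⟩

/-- The limit of a compatible system. -/
theorem exists_limit [IsNoetherianRing R] [IsLocalRing R] [IsAdicComplete (maximalIdeal R) R]
    [Module.Finite R B'] (hx : x ∈ maximalIdeal R) (g : ∀ n, B →ₐ[R] B' ⧸ powIdeal B' x (n + 1))
    (hg : ∀ n y z, Ideal.Quotient.mk _ z = g (n + 1) y → Ideal.Quotient.mk _ z = g n y) :
    ∃ G : B →ₐ[R] B', ∀ n y, Ideal.Quotient.mk _ (G y) = g n y := by
  classical
  haveI := Groth.Agent.AdicLim.isAdicComplete_of_finite (maximalIdeal R) B'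
  set m := maximalIdeal R
  have hle : ∀ k z, z ∈ powIdeal B' x k → z ∈ (m ^ k • ⊤ : Submodule R B') := by
    intro k z hz
    obtain ⟨e, rfl⟩ := Ideal.mem_span_singleton.1 hz
    rw [← map_pow, ← Algebra.smul_def]
    exact Submodule.smul_mem_smul (Ideal.pow_mem_pow hx k) trivial
  have hcl : ∀ n z, (∀ k, ∃ u ∈ powIdeal B' x (n + 1), z - u ∈ (m ^ k • ⊤ : Submodule R B')) →
      z ∈ powIdeal B' x (n + 1) := by
    intro n z hz
    rw [← Ideal.Quotient.eq_zero_iff_mem, ← Submodule.mem_bot R,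
      ← Ideal.iInf_pow_smul_eq_bot_of_isLocalRing (M := B' ⧸ powIdeal B' x (n + 1)) m (maximalIdeal.isMaximal R).ne_top,
      Submodule.mem_iInf]
    intro k
    obtain ⟨u, hu, hzu⟩ := hz k
    have : Ideal.Quotient.mk (powIdeal B' x (n + 1)) z = Ideal.Quotient.mkₐ R _ (z - u) := by
      rw [Ideal.Quotient.mkₐ_eq_mk, map_sub, Ideal.Quotient.eq_zero_iff_mem.2 hu, sub_zero]
    rw [this]
    have h := Submodule.mem_map_of_mem (f := (Ideal.Quotient.mkₐ R (powIdeal B' x (n + 1))).toLinearMap) hzu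
    rw [Submodule.map_smul''] at h
    exact Submodule.smul_mono le_rfl le_top h
  have huniq : ∀ z z' : B', (∀ n, Ideal.Quotient.mk (powIdeal B' x (n + 1)) z = Ideal.Quotient.mk _ z') → z = z' := by
    intro z z' h
    refine sub_eq_zero.1 (IsHausdorff.haus' (I := m) _ fun k => ?_)
    rw [SModEq.zero]
    exact hle k _ (powIdeal_anti k.le_succ (Ideal.Quotient.eq.1 (h k)))
  have hex : ∀ y, ∃ L, ∀ n, Ideal.Quotient.mk (powIdeal B' x (n + 1)) L = g n y := by
    intro y
    choose z hz using fun n => Ideal.Quotient.mk_surjective (g n y)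
    have hzz : ∀ n l, n ≤ l → z n - z l ∈ powIdeal B' x (n + 1) := by
      intro n l hl
      induction l, hl using Nat.le_induction with
      | base => rw [sub_self]; exact zero_mem _
      | succ l hnl ih =>
        have : z l - z (l + 1) ∈ powIdeal B' x (l + 1) :=
          Ideal.Quotient.eq.1 ((hz l).trans (hg l y _ (hz (l + 1))).symm)
        simpa using add_mem ih (powIdeal_anti (Nat.succ_le_succ hnl) this)
    obtain ⟨L, hL⟩ := IsPrecomplete.prec (I := m) inferInstance (f := z) (fun {p q} hpq => by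
      rw [SModEq.sub_mem]
      exact hle p _ (powIdeal_anti p.le_succ (hzz p q hpq)))
    refine ⟨L, fun n => ?_⟩
    rw [← hz n, Ideal.Quotient.eq]
    refine hcl n _ fun k => ⟨z (n + k) - z n, ?_, ?_⟩
    · simpa using neg_mem (hzz n (n + k) (Nat.le_add_right n k))
    · have := SModEq.sub_mem.1 (hL (n + k))
      rw [show L - z n - (z (n + k) - z n) = -(z (n + k) - L) by ring]
      exact Submodule.smul_mono (Ideal.pow_le_pow_right (Nat.le_add_left k n)) le_rfl (neg_mem this)
  choose G hG using hex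
  exact ⟨{ toFun := G
           map_one' := huniq _ _ fun n => by rw [hG, map_one, map_one]
           map_mul' := fun y y' => huniq _ _ fun n => by rw [hG, map_mul, map_mul, hG, hG]
           map_zero' := huniq _ _ fun n => by rw [hG, map_zero, map_zero]
           map_add' := fun y y' => huniq _ _ fun n => by rw [hG, map_add, map_add, hG, hG]
           commutes' := fun r => huniq _ _ fun n => by
            show Ideal.Quotient.mk _ (G (algebraMap R B r)) = _
            rw [hG, AlgHom.commutes]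
            rfl }, fun n y => hG y n⟩

end Groth.Agent.Purity
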