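import Groth.Agent.Purity.DepthRestrict
import Groth.Agent.Purity.SpecRegular

/-!
# Finite étale covers of the punctured spectrum of a normal local ring
-/

set_option autoImplicit false
set_option backward.isDefEq.respectTransparency false

universe u

open AlgebraicGeometry CategoryTheory TopologicalSpace Limits Opposite

namespace Groth.Agent.Purity

section

variable {X Y : Scheme.{u}} {U : X.Opens} {V : X.Opens} (hV : IsAffineOpen V)

include hV in
/-- A finite étale scheme over `U` has finite sections over an integral chart with a pair. -/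
theorem finite_chart [IsLocallyNoetherian X] (h : Y ⟶ U.toScheme)
    [IsFinite h] [Etale h] [QuasiCompact (h ≫ U.ι)] [QuasiSeparated (h ≫ U.ι)] [IsDomain Γ(X, V)]
    (hpair : ∃ a b : Γ(X, V), a ∈ outerIdeal U hV ∧ b ∈ outerIdeal U hV ∧ a ≠ 0 ∧ b ≠ 0 ∧ TwoWith a b Γ(X, V)) :
    ((h ≫ U.ι).app V).hom.Finite := by
  classical
  set g := h ≫ U.ι
  set W := g ⁻¹ᵁ V
  letI : Algebra Γ(X, V) Γ(Y, W) := (g.app V).hom.toAlgebra
  haveI : IsNoetherianRing Γ(X, V) := IsLocallyNoetherian.component_noetherian ⟨V, hV⟩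
  obtain ⟨a, b, haI, hbI, ha, hb, hA⟩ := hpair
  have hW : g.appLE V W le_rfl = g.app V := g.app_eq_appLE.symm
  have hC : TwoWith a b Γ(Y, W) := by
    have := two_sections g hV hA ha (W := W) le_rfl
    rw [hW] at this
    exact this
  have htf : ∀ (r : Γ(X, V)) (c : Γ(Y, W)), r ≠ 0 → r • c = 0 → c = 0 := fun r c hr hc => by
    rw [Algebra.smul_def] at hc
    exact eq_zero_of_mul g hV hr (W := W) le_rfl (by rw [hW]; exact hc)
  have haff : ∀ f ∈ outerIdeal U hV, IsAffineOpen (Y.basicOpen (g.app V f)) := fun f hf => by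
    rw [show Y.basicOpen (g.app V f) = h ⁻¹ᵁ U.ι ⁻¹ᵁ X.basicOpen f from (Scheme.preimage_basicOpen g f).symm]
    exact ((hV.basicOpen f).preimage_of_isOpenImmersion U.ι (by
      rw [Scheme.Opens.opensRange_ι]; exact basicOpen_le_of_mem_outerIdeal hV hf)).preimage h
  have hWc : IsCompact (W : Set Y) := g.isCompact_preimage hV.isCompact
  have hWs : IsQuasiSeparated (W : Set Y) := g.isQuasiSeparated_preimage hV.isQuasiSeparated
  have hloc : ∀ f : Γ(X, V), IsLocalization.Away (algebraMap Γ(X, V) Γ(Y, W) f)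
      Γ(Y, Y.basicOpen (g.app V f)) := fun f => isLocalization_basicOpen_of_qcqs hWc hWs _
  have hgen : ∀ f ∈ outerIdeal U hV, ∃ G : Finset Γ(Y, W), ∀ c : Γ(Y, W), ∃ k : ℕ,
      f ^ k • c ∈ Submodule.span Γ(X, V) (G : Set Γ(Y, W)) := by
    intro f hf
    haveI := hV.isLocalization_basicOpen f
    haveI := hloc f
    set D := X.basicOpen f
    have hle : D ≤ U.ι.opensRange := by rw [Scheme.Opens.opensRange_ι]; exact basicOpen_le_of_mem_outerIdeal hV hf
    have hfin : (g.app D).hom.Finite := by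
      haveI : IsIso (U.ι.app D) := Scheme.Hom.isIso_app U.ι D hle
      show ((h.app (U.ι ⁻¹ᵁ D)).hom.comp (U.ι.app D).hom).Finite
      exact (h.finite_app _ ((hV.basicOpen f).preimage_of_isOpenImmersion U.ι hle)).comp
        (RingHom.Finite.of_surjective _ (ConcreteCategory.bijective_of_isIso (U.ι.app D)).2)
    have heq : g ⁻¹ᵁ D = Y.basicOpen (g.app V f) := Scheme.preimage_basicOpen g f
    set O := Y.basicOpen (g.app V f)
    let ψ : Γ(X, D) →+* Γ(Y, O) := (g.appLE D O heq.ge).hom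
    have hψ : ψ.Finite := by
      show (g.appLE D O heq.ge).hom.Finite
      rw [show g.appLE D O heq.ge = g.app D ≫ Y.presheaf.map (eqToHom heq.symm).op from rfl, CommRingCat.hom_comp]
      exact (RingHom.Finite.of_surjective _
        (ConcreteCategory.bijective_of_isIso (Y.presheaf.map (eqToHom heq.symm).op)).2).comp hfin
    letI := ψ.toAlgebra
    haveI : Module.Finite Γ(X, D) Γ(Y, O) := hψ
    obtain ⟨γ, hγ⟩ := Module.Finite.fg_top (R := Γ(X, D)) (M := Γ(Y, O))
    have hsurj : ∀ z : Γ(Y, O), ∃ (k : ℕ) (c : Γ(Y, W)),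
        algebraMap Γ(Y, W) Γ(Y, O) (g.app V f) ^ k * z = algebraMap Γ(Y, W) Γ(Y, O) c := fun z => by
      obtain ⟨⟨c, ⟨_, k, rfl⟩⟩, hk⟩ :=
        IsLocalization.surj (Submonoid.powers (algebraMap Γ(X, V) Γ(Y, W) f)) z
      exact ⟨k, c, by rw [mul_comm, ← map_pow]; exact hk⟩
    choose k c hc using hsurj
    have hcompat : ∀ r : Γ(X, V), ψ (algebraMap Γ(X, V) Γ(X, D) r) = algebraMap Γ(Y, W) Γ(Y, O) (g.app V r) := by
      intro r
      show g.appLE D O heq.ge (X.presheaf.map (homOfLE (X.basicOpen_le f)).op r) =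
        Y.presheaf.map (homOfLE (Y.basicOpen_le _)).op (g.app V r)
      rw [show g.app V r = g.appLE V W le_rfl r from (ConcreteCategory.congr_hom hW r).symm, res_appLE]
      exact ConcreteCategory.congr_hom (g.map_appLE heq.ge (homOfLE (X.basicOpen_le f)).op) r
    refine ⟨γ.image c, fun z => ?_⟩
    set N : Submodule Γ(X, V) Γ(Y, W) := Submodule.span Γ(X, V) ((γ.image c : Finset _) : Set Γ(Y, W))
    have key : ∀ w ∈ Submodule.span Γ(X, D) (γ : Set Γ(Y, O)), ∃ (K : ℕ) (c' : Γ(Y, W)), c' ∈ N ∧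
        algebraMap Γ(Y, W) Γ(Y, O) (g.app V f) ^ K * w = algebraMap Γ(Y, W) Γ(Y, O) c' := by
      intro w hw
      induction hw using Submodule.span_induction with
      | mem w hw => exact ⟨k w, c w, Submodule.subset_span (Finset.mem_image_of_mem c hw), hc w⟩
      | zero => exact ⟨0, 0, zero_mem _, by simp⟩
      | add w w' _ _ hw hw' =>
        obtain ⟨K, c₁, h₁, e₁⟩ := hw
        obtain ⟨K', c₂, h₂, e₂⟩ := hw'
        refine ⟨K + K', f ^ K' • c₁ + f ^ K • c₂, add_mem (N.smul_mem _ h₁) (N.smul_mem _ h₂), ?_⟩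
        rw [Algebra.smul_def, Algebra.smul_def, map_add, map_mul, map_mul, map_pow, map_pow, map_pow, map_pow,
          ← e₁, ← e₂, RingHom.algebraMap_toAlgebra (g.app V).hom]
        ring
      | smul r w _ hw =>
        obtain ⟨K, c₁, h₁, e₁⟩ := hw
        obtain ⟨⟨r₀, ⟨_, m, rfl⟩⟩, hr⟩ := IsLocalization.surj (Submonoid.powers f) r
        refine ⟨K + m, r₀ • c₁, N.smul_mem _ h₁, ?_⟩
        have e := congrArg ψ hr
        simp only [map_mul, map_pow] at e
        rw [hcompat, hcompat] at e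
        rw [Algebra.smul_def r₀, map_mul, ← e₁, Algebra.smul_def r, RingHom.algebraMap_toAlgebra (g.app V).hom]
        show _ * (ψ r * w) = _
        rw [← e]
        ring
    obtain ⟨K, c', hc', e⟩ := key (algebraMap Γ(Y, W) Γ(Y, O) z) (hγ ▸ Submodule.mem_top)
    rw [← map_pow, ← map_mul] at e
    obtain ⟨⟨_, L, rfl⟩, hL⟩ := (IsLocalization.eq_iff_exists (Submonoid.powers (g.app V f)) _).1 e
    refine ⟨L + K, ?_⟩
    have : f ^ (L + K) • z = f ^ L • c' := by
      rw [Algebra.smul_def, Algebra.smul_def, map_pow, map_pow, RingHom.algebraMap_toAlgebra (g.app V).hom, pow_add,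
        mul_assoc]
      exact hL
    exact this ▸ N.smul_mem _ hc'
  obtain ⟨Ga, hGa⟩ := hgen a haI
  obtain ⟨Gb, hGb⟩ := hgen b hbI
  haveI : Module.Finite Γ(X, V) Γ(Y, W) := finite_of_two hA ha hb htf Ga Gb hGa hGb
  exact ‹Module.Finite Γ(X, V) Γ(Y, W)›

end

/-- Extension from a finite étale normalisation. -/
theorem exists_extension_of {X Y : Scheme.{u}} {U : X.Opens} (h : Y ⟶ U.toScheme)
    [IsFinite h] [Etale h] [QuasiCompact (h ≫ U.ι)] [QuasiSeparated (h ≫ U.ι)]
    (hf : IsFinite (h ≫ U.ι).fromNormalization) (het : Etale (h ≫ U.ι).fromNormalization) :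
    ∃ (Z : Scheme.{u}) (ρ : Z ⟶ X), IsFinite ρ ∧ Etale ρ ∧
      ∃ e : Y ≅ pullback ρ U.ι, e.hom ≫ pullback.snd ρ U.ι = h := by
  set g := h ≫ U.ι
  refine ⟨g.normalization, g.fromNormalization, hf, het, ?_⟩
  have sq : IsPullback (𝟙 Y) h g U.ι := by
    refine IsPullback.of_isLimit' ⟨by simp [g]⟩ (PullbackCone.IsLimit.mk _ (fun s => s.fst) (fun s => by simp)
      (fun s => ?_) (fun s m h₁ _ => by simpa using h₁))
    rw [← cancel_mono U.ι, Category.assoc]
    exact s.condition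
  let e₀ : Y ≅ pullback g U.ι := sq.isoPullback
  have he : e₀.hom ≫ pullback.snd g U.ι = h := sq.isoPullback_hom_snd
  haveI : IsFinite (pullback.snd g U.ι) := by
    rw [← MorphismProperty.cancel_left_of_respectsIso @IsFinite e₀.hom, he]; infer_instance
  haveI : Smooth U.ι := inferInstance
  refine ⟨e₀ ≪≫ asIso (pullback.snd g U.ι).toNormalization ≪≫ asIso (g.normalizationPullback U.ι), ?_⟩
  simp only [Iso.trans_hom, asIso_hom, Category.assoc, Scheme.Hom.normalizationPullback_snd,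
    Scheme.Hom.toNormalization_fromNormalization, he]


/-- On an affine scheme: finite étale global sections give a finite étale normalisation. -/
theorem fromNormalization_of_sections {X Y : Scheme.{u}} [IsAffine X] (g : Y ⟶ X) [QuasiCompact g] [QuasiSeparated g]
    (hfin : (g.app ⊤).hom.Finite) (het : (g.app ⊤).hom.Etale) :
    IsFinite g.fromNormalization ∧ Etale g.fromNormalization := by
  have hV : IsAffineOpen (⊤ : X.Opens) := isAffineOpen_top X
  letI := (g.app ⊤).hom.toAlgebra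
  haveI : Module.Finite Γ(X, ⊤) Γ(Y, g ⁻¹ᵁ ⊤) := hfin
  haveI : Algebra.Etale Γ(X, ⊤) Γ(Y, g ⁻¹ᵁ ⊤) := het
  have htop : integralClosure Γ(X, ⊤) Γ(Y, g ⁻¹ᵁ ⊤) = ⊤ :=
    eq_top_iff.2 fun c _ => Algebra.IsIntegral.isIntegral c
  let e : integralClosure Γ(X, ⊤) Γ(Y, g ⁻¹ᵁ ⊤) ≃ₐ[Γ(X, ⊤)] Γ(Y, g ⁻¹ᵁ ⊤) :=
    (Subalgebra.equivOfEq _ _ htop).trans Subalgebra.topEquiv
  haveI : Module.Finite Γ(X, ⊤) (integralClosure Γ(X, ⊤) Γ(Y, g ⁻¹ᵁ ⊤)) :=
    Module.Finite.equiv e.symm.toLinearEquiv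
  haveI : Algebra.Etale Γ(X, ⊤) (integralClosure Γ(X, ⊤) Γ(Y, g ⁻¹ᵁ ⊤)) := Algebra.Etale.of_equiv e.symm
  have key : g.fromNormalization.appTop.hom.Finite ∧ g.fromNormalization.appTop.hom.Etale := by
    rw [show g.fromNormalization.appTop = g.fromNormalization.app ⊤ from rfl, g.fromNormalization_app hV]
    exact ⟨(RingHom.finite_respectsIso.cancel_right_isIso _ _).2 (RingHom.finite_algebraMap.2 inferInstance),
      (RingHom.Etale.respectsIso.cancel_right_isIso _ _).2 (RingHom.etale_algebraMap.2 inferInstance)⟩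
  haveI : IsAffine g.normalization := isAffine_of_isAffineHom g.fromNormalization
  exact ⟨HasAffineProperty.iff_of_isAffine.2 ⟨inferInstance, key.1⟩, HasRingHomProperty.iff_of_isAffine.2 key.2⟩

/-- Sections and the extension criterion over an affine scheme with a pair. -/
theorem sections_criterion {X : Scheme.{u}} [IsAffine X] [IsLocallyNoetherian X] [IsDomain Γ(X, ⊤)] (U : X.Opens)
    [QuasiCompact U.ι] (hV : IsAffineOpen (⊤ : X.Opens))
    (hpair : ∃ a b : Γ(X, ⊤), a ∈ outerIdeal U hV ∧ b ∈ outerIdeal U hV ∧ a ≠ 0 ∧ b ≠ 0 ∧ TwoWith a b Γ(X, ⊤))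
    (V : FEt.Cat (U : Scheme.{u})) :
    ((V.hom ≫ U.ι).appTop).hom.Finite ∧
    ((∃ Y : FEt.Cat X, Nonempty ((FEt.restrict U.ι).obj Y ≅ V)) ↔ ((V.hom ≫ U.ι).appTop).hom.Etale) := by
  haveI : IsFinite V.hom := V.prop.1
  haveI : Etale V.hom := V.prop.2
  have hfin : ((V.hom ≫ U.ι).app ⊤).hom.Finite := finite_chart hV V.hom hpair
  refine ⟨hfin, ?_, ?_⟩
  · rintro ⟨E, ⟨e⟩⟩
    haveI : IsFinite E.hom := E.prop.1
    haveI : Etale E.hom := E.prop.2
    obtain ⟨a, b, haI, hbI, -, -, hA⟩ := hpair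
    haveI : IsIso ((pullback.fst E.hom U.ι).app (E.hom ⁻¹ᵁ ⊤)) :=
      (ConcreteCategory.isIso_iff_bijective _).2 (bijective_fst_app' E.hom hV ⟨a, b, haI, hbI, hA⟩)
    haveI : IsIso (pullback.fst E.hom U.ι).appTop :=
      inferInstanceAs (IsIso ((pullback.fst E.hom U.ι).app (E.hom ⁻¹ᵁ ⊤)))
    let ei : V.left ≅ pullback E.hom U.ι :=
      ((MorphismProperty.Over.forget _ _ _ ⋙ CategoryTheory.Over.forget _).mapIso e).symm
    have hw : ei.hom ≫ pullback.snd E.hom U.ι = V.hom := MorphismProperty.Over.w e.inv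
    have hfac : V.hom ≫ U.ι = ei.hom ≫ pullback.fst E.hom U.ι ≫ E.hom := by
      have hc : pullback.fst E.hom U.ι ≫ E.hom = pullback.snd E.hom U.ι ≫ U.ι := pullback.condition
      rw [← hw, Category.assoc]
      exact congrArg (ei.hom ≫ ·) hc.symm
    have hE : E.hom.appTop.hom.Etale := by
      haveI : @IsAffine E.left := @isAffine_of_isAffineHom E.left X E.hom _ _
      exact (@HasRingHomProperty.iff_of_isAffine @Etale _ _ E.left X E.hom _ _).1 E.prop.2
    rw [show (V.hom ≫ U.ι).appTop = E.hom.appTop ≫ (pullback.fst E.hom U.ι).appTop ≫ ei.hom.appTop from by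
      rw [hfac]; rfl]
    exact (RingHom.Etale.respectsIso.cancel_right_isIso _ _).2 hE
  · intro het
    obtain ⟨hf, he⟩ := fromNormalization_of_sections (V.hom ≫ U.ι) hfin het
    obtain ⟨Z, ρ, hρ, hρe, e, hew⟩ := exists_extension_of V.hom hf he
    exact ⟨MorphismProperty.Over.mk ⊤ ρ ⟨hρ, hρe⟩,
      ⟨(MorphismProperty.Over.isoMk (A := V) (B := (FEt.restrict U.ι).obj (MorphismProperty.Over.mk ⊤ ρ ⟨hρ, hρe⟩)) e hew).symm⟩⟩

/-- Sections and the extension criterion over the punctured spectrum of a normal local ring. -/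
theorem punctured_normal_sections (A : Type u) [CommRing A] [IsDomain A] [IsNoetherianRing A]
    [IsLocalRing A] [IsIntegrallyClosed A] (hdim : (2 : WithBot ℕ∞) ≤ ringKrullDim A)
    (V : FEt.Cat (FEt.puncturedSpec A : Scheme.{u})) :
    (((V.hom ≫ (FEt.puncturedSpec A).ι).appTop).hom.comp (Scheme.ΓSpecIso (CommRingCat.of A)).inv.hom).Finite ∧
    ((∃ Y : FEt.Cat (Spec (CommRingCat.of A)), Nonempty ((FEt.restrict (FEt.puncturedSpec A).ι).obj Y ≅ V)) ↔
      (((V.hom ≫ (FEt.puncturedSpec A).ι).appTop).hom.comp (Scheme.ΓSpecIso (CommRingCat.of A)).inv.hom).Etale) := by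
  have hV : IsAffineOpen (⊤ : (Spec (CommRingCat.of A)).Opens) := isAffineOpen_top _
  let eA := (Scheme.ΓSpecIso (CommRingCat.of A)).commRingCatIsoToRingEquiv
  haveI : IsDomain Γ(Spec (CommRingCat.of A), ⊤) := eA.toMulEquiv.isDomain
  haveI : IsIntegrallyClosed Γ(Spec (CommRingCat.of A), ⊤) := IsIntegrallyClosed.of_equiv eA.symm
  haveI : IsNoetherianRing Γ(Spec (CommRingCat.of A), ⊤) := IsLocallyNoetherian.component_noetherian ⟨⊤, hV⟩
  have hpair : ∃ a b : Γ(Spec (CommRingCat.of A), ⊤), a ∈ outerIdeal (FEt.puncturedSpec A) hV ∧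
      b ∈ outerIdeal (FEt.puncturedSpec A) hV ∧ a ≠ 0 ∧ b ≠ 0 ∧ TwoWith a b Γ(Spec (CommRingCat.of A), ⊤) := by
    refine exists_pair_normal _ fun p hp hle => ?_
    haveI := hp
    have hx : hV.fromSpec ⟨p, hp⟩ = IsLocalRing.closedPoint A := not_not.1 (mem_of_outerIdeal_le hV hle)
    have h1 := height_chart hV p
    rw [hx, ringKrullDim_stalk_spec_closedPoint A] at h1
    exact WithBot.coe_le_coe.1 (hdim.trans_eq h1.symm)
  obtain ⟨hfin, hiff⟩ := sections_criterion (FEt.puncturedSpec A) hV hpair V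
  have hiso : Function.Bijective (Scheme.ΓSpecIso (CommRingCat.of A)).inv.hom :=
    ConcreteCategory.bijective_of_isIso (Scheme.ΓSpecIso (CommRingCat.of A)).inv
  refine ⟨hfin.comp (RingHom.Finite.of_surjective _ hiso.2), hiff.trans ?_⟩
  show _ ↔ ((Scheme.ΓSpecIso (CommRingCat.of A)).inv ≫ (V.hom ≫ (FEt.puncturedSpec A).ι).appTop).hom.Etale
  exact (RingHom.Etale.respectsIso.cancel_left_isIso _ _).symm

end Groth.Agent.Purity
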