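import Groth.Agent.Purity.Global
import Mathlib.AlgebraicGeometry.Morphisms.Etale
import Mathlib.AlgebraicGeometry.Morphisms.QuasiSeparated
import Mathlib.AlgebraicGeometry.Noetherian

/-!
# Sections of an étale scheme over an affine regular chart
-/

set_option autoImplicit false

universe u

open AlgebraicGeometry CategoryTheory TopologicalSpace Opposite

namespace Groth.Agent.Purity

variable {X Y : Scheme.{u}}

/-- A regular element stays regular on flat algebras. -/
theorem inj_of_flat {A : Type u} [CommRing A] [IsDomain A] (F : Type u) [CommRing F] [Algebra A F] [Module.Flat A F]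
    {r : A} (hr : r ≠ 0) {x : F} (hx : algebraMap A F r * x = 0) : x = 0 :=
  (two_of_flat (b := 1) (⟨fun m hm => (mul_eq_zero.1 hm).resolve_left hr,
      fun m n hmn => ⟨n, by rw [one_smul] at hmn; exact hmn⟩⟩ : TwoWith r 1 A) F).inj x
    (by rw [Algebra.smul_def]; exact hx)

theorem res_appLE (g : Y ⟶ X) {V : X.Opens} {O O' : Y.Opens} (e : O ≤ g ⁻¹ᵁ V) (hle : O' ≤ O) (r : Γ(X, V)) :
    Y.presheaf.map (homOfLE hle).op (g.appLE V O e r) = g.appLE V O' (hle.trans e) r :=
  ConcreteCategory.congr_hom (g.appLE_map e (homOfLE hle).op) r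

theorem res_res {O O' O'' : Y.Opens} (h : O'' ≤ O') (h' : O' ≤ O) (z : Γ(Y, O)) :
    Y.presheaf.map (homOfLE h).op (Y.presheaf.map (homOfLE h').op z) =
      Y.presheaf.map (homOfLE (h.trans h')).op z := by
  rw [← ConcreteCategory.comp_apply, ← Functor.map_comp, ← op_comp, homOfLE_comp]

/-- The affine opens contained in an open. -/
theorem le_iSup_affine (W : Y.Opens) :
    W ≤ iSup fun O : {O : Y.Opens // IsAffineOpen O ∧ O ≤ W} => O.1 := by
  intro y hy
  obtain ⟨_, ⟨O, hO, rfl⟩, hyO, hOW⟩ := Y.isBasis_affineOpens.exists_subset_of_mem_open hy W.2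
  exact Opens.mem_iSup.2 ⟨⟨O, hO, hOW⟩, hyO⟩

variable (g : Y ⟶ X) [Etale g] {V : X.Opens} (hV : IsAffineOpen V) [IsDomain Γ(X, V)]

include hV in
theorem eq_zero_of_mul_affine {r : Γ(X, V)} (hr : r ≠ 0) {O : Y.Opens} (hO : IsAffineOpen O) (e : O ≤ g ⁻¹ᵁ V)
    {z : Γ(Y, O)} (hz : g.appLE V O e r * z = 0) : z = 0 := by
  letI := (g.appLE V O e).hom.toAlgebra
  haveI : Algebra.Etale Γ(X, V) Γ(Y, O) := g.etale_appLE hV hO e
  exact inj_of_flat Γ(Y, O) hr hz

include hV in
theorem eq_zero_of_mul {r : Γ(X, V)} (hr : r ≠ 0) {W : Y.Opens} (e : W ≤ g ⁻¹ᵁ V)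
    {z : Γ(Y, W)} (hz : g.appLE V W e r * z = 0) : z = 0 := by
  refine TopCat.Sheaf.eq_of_locally_eq' Y.sheaf (fun O : {O : Y.Opens // IsAffineOpen O ∧ O ≤ W} => O.1) W
    (fun O => homOfLE O.2.2) (le_iSup_affine W) z 0 fun O => ?_
  rw [map_zero]
  refine eq_zero_of_mul_affine g hV hr O.2.1 (O.2.2.trans e) ?_
  have := congrArg (Y.presheaf.map (homOfLE O.2.2).op) hz
  rw [map_mul, map_zero, res_appLE] at this
  exact this

include hV in
theorem cancel_affine {a b : Γ(X, V)} (hA : TwoWith a b Γ(X, V)) {O : Y.Opens} (hO : IsAffineOpen O)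
    (e : O ≤ g ⁻¹ᵁ V) {m n : Γ(Y, O)} (h : g.appLE V O e b * m = g.appLE V O e a * n) :
    ∃ z, m = g.appLE V O e a * z := by
  letI := (g.appLE V O e).hom.toAlgebra
  haveI : Algebra.Etale Γ(X, V) Γ(Y, O) := g.etale_appLE hV hO e
  obtain ⟨z, hz⟩ := (two_of_flat hA Γ(Y, O)).cancel m n (by rw [Algebra.smul_def, Algebra.smul_def]; exact h)
  exact ⟨z, hz.trans (Algebra.smul_def a z)⟩

include hV in
/-- Sections of an étale scheme have depth two along a regular pair. -/
theorem two_sections {a b : Γ(X, V)} (hA : TwoWith a b Γ(X, V)) (ha : a ≠ 0) {W : Y.Opens} (e : W ≤ g ⁻¹ᵁ V) :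
    letI := (g.appLE V W e).hom.toAlgebra
    TwoWith a b Γ(Y, W) := by
  letI := (g.appLE V W e).hom.toAlgebra
  refine ⟨fun m hm => ?_, fun m n hmn => ?_⟩
  · rw [Algebra.smul_def] at hm
    exact eq_zero_of_mul g hV ha e hm
  rw [Algebra.smul_def, Algebra.smul_def] at hmn
  change g.appLE V W e b * m = g.appLE V W e a * n at hmn
  have hloc : ∀ O : {O : Y.Opens // IsAffineOpen O ∧ O ≤ W}, ∃ z,
      Y.presheaf.map (homOfLE O.2.2).op m = g.appLE V O.1 (O.2.2.trans e) a * z := fun O => by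
    refine cancel_affine g hV hA O.2.1 _ (n := Y.presheaf.map (homOfLE O.2.2).op n) ?_
    have := congrArg (Y.presheaf.map (homOfLE O.2.2).op) hmn
    rw [map_mul, map_mul, res_appLE, res_appLE] at this
    exact this
  choose z hz using hloc
  obtain ⟨s, hs, -⟩ := TopCat.Sheaf.existsUnique_gluing' Y.sheaf
    (fun O : {O : Y.Opens // IsAffineOpen O ∧ O ≤ W} => O.1) W (fun O => homOfLE O.2.2) (le_iSup_affine W) z
    (fun i j => by
      show Y.presheaf.map (homOfLE inf_le_left).op (z i) = Y.presheaf.map (homOfLE inf_le_right).op (z j)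
      refine sub_eq_zero.1 (eq_zero_of_mul g hV ha ((inf_le_left.trans i.2.2).trans e) ?_)
      have h1 := congrArg (Y.presheaf.map (homOfLE (inf_le_left : i.1 ⊓ j.1 ≤ i.1)).op) (hz i)
      have h2 := congrArg (Y.presheaf.map (homOfLE (inf_le_right : i.1 ⊓ j.1 ≤ j.1)).op) (hz j)
      rw [res_res, map_mul, res_appLE] at h1 h2
      rw [mul_sub, ← h1, ← h2, sub_self])
  refine ⟨(show Γ(Y, W) from s), ?_⟩
  rw [Algebra.smul_def]
  show m = g.appLE V W e a * (show Γ(Y, W) from s)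
  refine TopCat.Sheaf.eq_of_locally_eq' Y.sheaf (fun O : {O : Y.Opens // IsAffineOpen O ∧ O ≤ W} => O.1) W
    (fun O => homOfLE O.2.2) (le_iSup_affine W) _ _ fun O => ?_
  show Y.presheaf.map (homOfLE O.2.2).op m = Y.presheaf.map (homOfLE O.2.2).op (g.appLE V W e a * (show Γ(Y, W) from s))
  rw [map_mul, res_appLE, hz O]
  congr 1
  exact (hs O).symm

end Groth.Agent.Purity
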