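import Mathlib

/-!
# Modules with a regular pair: gluing of sections over two principal opens
-/

set_option autoImplicit false

universe u v w w'

namespace Groth.Agent.Purity

variable {R : Type u} [CommRing R]

/-- `(a, b)` is regular on `M`. -/
structure TwoWith (a b : R) (M : Type v) [AddCommGroup M] [Module R M] : Prop where
  inj : ∀ m : M, a • m = 0 → m = 0
  cancel : ∀ m n : M, b • m = a • n → ∃ z : M, m = a • z

namespace TwoWith

variable {a b : R} {M : Type v} [AddCommGroup M] [Module R M]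

theorem inj_pow (h : TwoWith a b M) (k : ℕ) {m : M} (hm : a ^ k • m = 0) : m = 0 := by
  induction k with
  | zero => simpa using hm
  | succ k ih =>
    rw [pow_succ', mul_smul] at hm
    exact ih (h.inj _ hm)

theorem inj_pow_eq (h : TwoWith a b M) (k : ℕ) {m n : M} (hmn : a ^ k • m = a ^ k • n) : m = n :=
  sub_eq_zero.1 (h.inj_pow k (by rw [smul_sub, hmn, sub_self]))

theorem cancel_pow_right (h : TwoWith a b M) (l : ℕ) : ∀ m n : M, b ^ l • m = a • n → ∃ z, m = a • z := by
  induction l with
  | zero => exact fun m n hmn => ⟨n, by simpa using hmn⟩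
  | succ l ih =>
    intro m n hmn
    rw [pow_succ, mul_smul] at hmn
    obtain ⟨z, hz⟩ := ih (b • m) n hmn
    exact h.cancel m z hz

theorem cancel_pow (h : TwoWith a b M) (k l : ℕ) : ∀ m n : M, b ^ l • m = a ^ k • n → ∃ z, m = a ^ k • z := by
  induction k with
  | zero => exact fun m n _ => ⟨m, by simp⟩
  | succ k ih =>
    intro m n hmn
    rw [pow_succ', mul_smul] at hmn
    obtain ⟨z, rfl⟩ := h.cancel_pow_right l m _ hmn
    rw [smul_comm] at hmn
    obtain ⟨w, rfl⟩ := ih z n (sub_eq_zero.1 (h.inj _ (by rw [smul_sub, sub_eq_zero]; exact hmn)))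
    exact ⟨w, by rw [pow_succ', mul_smul]⟩

theorem of_equiv {N : Type w} [AddCommGroup N] [Module R N] (e : M ≃ₗ[R] N) (h : TwoWith a b M) :
    TwoWith a b N where
  inj n hn := e.symm.injective (by rw [map_zero]; exact h.inj _ (by rw [← map_smul, hn, map_zero]))
  cancel m n hmn := by
    obtain ⟨z, hz⟩ := h.cancel (e.symm m) (e.symm n) (by rw [← map_smul, hmn, map_smul])
    exact ⟨e z, by rw [← map_smul, ← hz, e.apply_symm_apply]⟩

theorem pi {ι : Type*} {N : ι → Type w} [∀ i, AddCommGroup (N i)] [∀ i, Module R (N i)]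
    (h : ∀ i, TwoWith a b (N i)) : TwoWith a b (∀ i, N i) where
  inj m hm := funext fun i => (h i).inj _ (congrFun hm i)
  cancel m n hmn := by
    choose z hz using fun i => (h i).cancel (m i) (n i) (congrFun hmn i)
    exact ⟨z, funext hz⟩

/-- Duals. -/
theorem linearMap {N : Type w} [AddCommGroup N] [Module R N] (h : TwoWith a b M) :
    TwoWith a b (N →ₗ[R] M) where
  inj φ hφ := LinearMap.ext fun x => h.inj _ (LinearMap.congr_fun hφ x)
  cancel φ ψ hφψ := by
    choose z hz using fun x => h.cancel (φ x) (ψ x) (LinearMap.congr_fun hφψ x)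
    refine ⟨{ toFun := z
              map_add' := fun x y => h.inj_pow_eq 1 (by
                rw [pow_one, smul_add, ← hz, ← hz, ← hz, map_add])
              map_smul' := fun r x => h.inj_pow_eq 1 (by
                rw [pow_one, RingHom.id_apply, ← hz, smul_comm, ← hz, map_smul]) }, LinearMap.ext hz⟩

/-- Finite free modules. -/
theorem of_free {F : Type w} [AddCommGroup F] [Module R F] [Module.Free R F] [Module.Finite R F]
    (h : TwoWith a b R) : TwoWith a b F :=
  of_equiv (Module.Free.chooseBasis R F).equivFun.symm (pi fun _ => h)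

/-- Extensions. -/
theorem of_exact {N : Type w} [AddCommGroup N] [Module R N] {P : Type w'} [AddCommGroup P] [Module R P]
    (f : N →ₗ[R] M) (g : M →ₗ[R] P) (hf : Function.Injective f) (hg : Function.Surjective g)
    (hfg : Function.Exact f g) (hN : TwoWith a b N) (hP : TwoWith a b P) : TwoWith a b M where
  inj m hm := by
    obtain ⟨x, rfl⟩ := (hfg m).1 (hP.inj _ (by rw [← map_smul, hm, map_zero]))
    rw [← map_smul, ← map_zero f] at hm
    rw [hN.inj _ (hf hm), map_zero]
  cancel m n hmn := by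
    obtain ⟨z, hz⟩ := hP.cancel (g m) (g n) (by rw [← map_smul, hmn, map_smul])
    obtain ⟨z', rfl⟩ := hg z
    obtain ⟨x, hx⟩ := (hfg (m - a • z')).1 (by rw [map_sub, map_smul, hz, sub_self])
    have key : b • (m - a • z') = a • (n - b • z') := by rw [smul_sub, smul_sub, hmn, smul_comm]
    obtain ⟨y, hy⟩ := (hfg (n - b • z')).1 (hP.inj _ (by
      rw [← map_smul, ← key, map_smul, map_sub, map_smul, hz, sub_self, smul_zero]))
    rw [← hx, ← hy, ← map_smul, ← map_smul] at key
    obtain ⟨w, rfl⟩ := hN.cancel x y (hf key)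
    rw [map_smul] at hx
    exact ⟨z' + f w, by rw [smul_add, hx]; abel⟩

/-- A regular sequence of `R` stays regular on a flat base change. -/
theorem tensor {S : Type w} [CommRing S] [Algebra R S] [Module.Flat R S] (h : TwoWith a b M) :
    TwoWith (algebraMap R S a) (algebraMap R S b) (TensorProduct R S M) := by
  let μ : R → TensorProduct R S M →ₗ[R] TensorProduct R S M := fun r => (LinearMap.lsmul R M r).lTensor S
  have hμ : ∀ (r : R) (t : TensorProduct R S M), algebraMap R S r • t = μ r t := by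
    intro r t
    rw [algebraMap_smul]
    induction t using TensorProduct.induction_on with
    | zero => rw [map_zero, smul_zero]
    | tmul x y =>
      show r • (x ⊗ₜ[R] y) = x ⊗ₜ[R] (r • y)
      rw [TensorProduct.tmul_smul]
    | add x y hx hy => rw [map_add, smul_add, hx, hy]
  constructor
  · intro m hm
    rw [hμ] at hm
    have hinj : Function.Injective (LinearMap.lsmul R M a) := fun x y hxy =>
      h.inj_pow_eq 1 (by rw [pow_one]; exact hxy)
    exact (Module.Flat.lTensor_preserves_injective_linearMap (M := S) _ hinj) (hm.trans (map_zero _).symm)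
  · intro m n hmn
    rw [hμ, hμ] at hmn
    let P : Submodule R M := LinearMap.range (LinearMap.lsmul R M a)
    let q := P.mkQ
    have hinj : Function.Injective (P.mapQ P (LinearMap.lsmul R M b) (by
        rintro _ ⟨x, rfl⟩
        exact ⟨b • x, smul_comm a b x⟩)) := by
      rw [injective_iff_map_eq_zero]
      intro x hx
      obtain ⟨x, rfl⟩ := P.mkQ_surjective x
      obtain ⟨y, hy⟩ := (Submodule.Quotient.mk_eq_zero P).1 hx
      obtain ⟨z, rfl⟩ := h.cancel x y hy.symm
      exact (Submodule.Quotient.mk_eq_zero P).2 ⟨z, rfl⟩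
    have hinj' := Module.Flat.lTensor_preserves_injective_linearMap (M := S) _ hinj
    have hqa : ∀ t, q.lTensor S (μ a t) = 0 := fun t => by
      rw [← LinearMap.comp_apply, ← LinearMap.lTensor_comp]
      have : q.comp (LinearMap.lsmul R M a) = 0 :=
        LinearMap.ext fun x => (Submodule.Quotient.mk_eq_zero P).2 ⟨x, rfl⟩
      rw [this, LinearMap.lTensor_zero, LinearMap.zero_apply]
    have hex : Function.Exact (μ a) (q.lTensor S) :=
      lTensor_exact S (show Function.Exact (LinearMap.lsmul R M a) q from LinearMap.exact_map_mkQ_range _)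
        P.mkQ_surjective
    have hzero : q.lTensor S m = 0 := by
      refine hinj' ?_
      rw [← LinearMap.comp_apply, ← LinearMap.lTensor_comp, map_zero]
      have hq : (P.mapQ P (LinearMap.lsmul R M b) (by
          rintro _ ⟨x, rfl⟩
          exact ⟨b • x, smul_comm a b x⟩)).comp q = q.comp (LinearMap.lsmul R M b) := LinearMap.ext fun x => rfl
      rw [hq, LinearMap.lTensor_comp, LinearMap.comp_apply]
      show q.lTensor S (μ b m) = 0
      rw [hmn]
      exact hqa n
    obtain ⟨z, hz⟩ := (hex m).1 hzero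
    exact ⟨z, by rw [hμ, hz]⟩

/-- Gluing over `D(a)` and `D(b)`. -/
theorem exists_glue (h : TwoWith a b M) {Ma : Type w} {Mb : Type w'} {Mab : Type*} [AddCommGroup Ma] [Module R Ma]
    [AddCommGroup Mb] [Module R Mb] [AddCommGroup Mab] [Module R Mab]
    (fa : M →ₗ[R] Ma) [IsLocalizedModule (Submonoid.powers a) fa]
    (fb : M →ₗ[R] Mb) [IsLocalizedModule (Submonoid.powers b) fb]
    (fab : M →ₗ[R] Mab) [IsLocalizedModule (Submonoid.powers (a * b)) fab]
    (ra : Ma →ₗ[R] Mab) (rb : Mb →ₗ[R] Mab) (hra : ∀ m, ra (fa m) = fab m) (hrb : ∀ m, rb (fb m) = fab m)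
    (sa : Ma) (sb : Mb) (hs : ra sa = rb sb) : ∃ m, fa m = sa ∧ fb m = sb := by
  obtain ⟨⟨m₁, ⟨_, k, rfl⟩⟩, hm₁⟩ := IsLocalizedModule.surj (Submonoid.powers a) fa sa
  obtain ⟨⟨m₂, ⟨_, l, rfl⟩⟩, hm₂⟩ := IsLocalizedModule.surj (Submonoid.powers b) fb sb
  simp only [Submonoid.smul_def] at hm₁ hm₂
  have h1 : fab (b ^ l • m₁) = fab (a ^ k • m₂) := by
    rw [map_smul, map_smul, ← hra, ← hm₁, ← hrb, ← hm₂, map_smul, map_smul, hs, smul_comm]
  obtain ⟨⟨_, j, rfl⟩, hj⟩ := (IsLocalizedModule.eq_iff_exists (Submonoid.powers (a * b)) fab).1 h1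
  simp only [Submonoid.smul_def, mul_pow, mul_smul] at hj
  have h2 := h.inj_pow_eq j hj
  rw [← mul_smul, ← pow_add, smul_comm] at h2
  obtain ⟨z, rfl⟩ := h.cancel_pow k (j + l) m₁ _ h2
  rw [smul_comm] at h2
  have h3 := h.inj_pow_eq k h2
  refine ⟨z, ?_, ?_⟩
  · rw [map_smul] at hm₁
    exact (IsLocalizedModule.smul_injective fa (⟨a ^ k, k, rfl⟩ : Submonoid.powers a) hm₁).symm
  · refine IsLocalizedModule.smul_injective fb (⟨b ^ (j + l), j + l, rfl⟩ : Submonoid.powers b) ?_
    show b ^ (j + l) • fb z = b ^ (j + l) • sb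
    rw [← map_smul, h3, map_smul, ← hm₂, ← mul_smul, ← pow_add]

/-- Sections are determined over `D(a)`. -/
theorem eq_of_loc (h : TwoWith a b M) {Ma : Type w} [AddCommGroup Ma] [Module R Ma]
    (fa : M →ₗ[R] Ma) [IsLocalizedModule (Submonoid.powers a) fa] {m n : M} (hmn : fa m = fa n) : m = n := by
  obtain ⟨⟨_, k, rfl⟩, hk⟩ := (IsLocalizedModule.eq_iff_exists (Submonoid.powers a) fa).1 hmn
  exact h.inj_pow_eq k hk

end TwoWith

end Groth.Agent.Purity
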